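import Mathlib

/-!
# Division by a quadratic form in `κ⟦u, v⟧`

For `Q = a u² + b u v + c v²` with `a ≠ 0` every power series is uniquely congruent modulo `Q` to
`g(v) + u h(v)`.
-/

namespace Groth.Curves1.Node

open Finsupp

variable {κ : Type*} [Field κ]

/-- The quadratic form `a u² + b u v + c v²`. -/
noncomputable def quad (a b c : κ) : MvPowerSeries (Fin 2) κ :=
  MvPowerSeries.C a * MvPowerSeries.X 0 ^ 2 + MvPowerSeries.C b * MvPowerSeries.X 0 * MvPowerSeries.X 1 +
    MvPowerSeries.C c * MvPowerSeries.X 1 ^ 2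

/-- Exponent vector `(i, j)`. -/
noncomputable def ee (i j : ℕ) : Fin 2 →₀ ℕ := single 0 i + single 1 j

@[simp] theorem ee_zero (i j : ℕ) : ee i j 0 = i := by simp [ee]
@[simp] theorem ee_one (i j : ℕ) : ee i j 1 = j := by simp [ee]

theorem eq_ee (d : Fin 2 →₀ ℕ) : d = ee (d 0) (d 1) := by
  ext i; fin_cases i <;> simp

theorem ee_inj {i j i' j' : ℕ} : ee i j = ee i' j' ↔ i = i' ∧ j = j' :=
  ⟨fun h => ⟨by simpa using congr($h 0), by simpa using congr($h 1)⟩, fun ⟨h, h'⟩ => by rw [h, h']⟩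

theorem ext_ee {f g : MvPowerSeries (Fin 2) κ}
    (h : ∀ i j, MvPowerSeries.coeff (ee i j) f = MvPowerSeries.coeff (ee i j) g) : f = g := by
  ext d; rw [eq_ee d]; exact h _ _

theorem ee_le {i j i' j' : ℕ} : ee i j ≤ ee i' j' ↔ i ≤ i' ∧ j ≤ j' := by
  constructor
  · intro h
    exact ⟨by simpa using h 0, by simpa using h 1⟩
  · rintro ⟨h, h'⟩ x
    fin_cases x <;> simpa

theorem ee_sub (i j i' j' : ℕ) : ee i j - ee i' j' = ee (i - i') (j - j') := by
  ext x; fin_cases x <;> simp

theorem coeff_monomial_ee_mul (i' j' i j : ℕ) (r : κ) (f : MvPowerSeries (Fin 2) κ) :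
    MvPowerSeries.coeff (ee i j) (MvPowerSeries.monomial (ee i' j') r * f) =
      if i' ≤ i ∧ j' ≤ j then r * MvPowerSeries.coeff (ee (i - i') (j - j')) f else 0 := by
  classical
  rw [MvPowerSeries.coeff_monomial_mul, ee_sub]
  simp only [ee_le]

theorem quad_eq (a b c : κ) : quad a b c = MvPowerSeries.monomial (ee 2 0) a +
    MvPowerSeries.monomial (ee 1 1) b + MvPowerSeries.monomial (ee 0 2) c := by
  simp only [quad, MvPowerSeries.X_pow_eq]
  simp only [MvPowerSeries.X, ← MvPowerSeries.monomial_zero_eq_C_apply,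
    MvPowerSeries.monomial_mul_monomial, ee, mul_one, zero_add, single_zero, add_zero]

theorem coeff_quad_mul (a b c : κ) (f : MvPowerSeries (Fin 2) κ) (i j : ℕ) :
    MvPowerSeries.coeff (ee i j) (quad a b c * f) =
      (if 2 ≤ i then a * MvPowerSeries.coeff (ee (i - 2) j) f else 0) +
      (if 1 ≤ i ∧ 1 ≤ j then b * MvPowerSeries.coeff (ee (i - 1) (j - 1)) f else 0) +
      (if 2 ≤ j then c * MvPowerSeries.coeff (ee i (j - 2)) f else 0) := by
  rw [quad_eq, add_mul, add_mul, map_add, map_add, coeff_monomial_ee_mul, coeff_monomial_ee_mul,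
    coeff_monomial_ee_mul]
  simp

/-- Coefficients of the quotient in the division of `f` by the quadratic form. -/
noncomputable def quot (a b c : κ) (f : MvPowerSeries (Fin 2) κ) : ℕ → ℕ → κ
  | 0, i => MvPowerSeries.coeff (ee (i + 2) 0) f / a
  | 1, i => (MvPowerSeries.coeff (ee (i + 2) 1) f - b * quot a b c f 0 (i + 1)) / a
  | j + 2, i => (MvPowerSeries.coeff (ee (i + 2) (j + 2)) f - b * quot a b c f (j + 1) (i + 1) -
      c * quot a b c f j (i + 2)) / a
termination_by j => j

/-- The quotient. -/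
noncomputable def quotSer (a b c : κ) (f : MvPowerSeries (Fin 2) κ) : MvPowerSeries (Fin 2) κ :=
  fun d => quot a b c f (d 1) (d 0)

theorem coeff_quotSer (a b c : κ) (f : MvPowerSeries (Fin 2) κ) (i j : ℕ) :
    MvPowerSeries.coeff (ee i j) (quotSer a b c f) = quot a b c f j i := by
  rw [MvPowerSeries.coeff_apply, quotSer, ee_zero, ee_one]

theorem coeff_sub_quad_mul {a : κ} (ha : a ≠ 0) (b c : κ) (f : MvPowerSeries (Fin 2) κ) (i j : ℕ) :
    MvPowerSeries.coeff (ee (i + 2) j) (f - quad a b c * quotSer a b c f) = 0 := by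
  rw [map_sub, coeff_quad_mul]
  simp only [coeff_quotSer]
  match j with
  | 0 =>
    simp only [le_add_iff_nonneg_left, zero_le, if_true, Nat.add_sub_cancel]
    rw [quot]
    simp [mul_div_cancel₀ _ ha]
  | 1 =>
    have h1 : quot a b c f 1 i =
        (MvPowerSeries.coeff (ee (i + 2) 1) f - b * quot a b c f 0 (i + 1)) / a := by conv_lhs => rw [quot]
    rw [if_pos (Nat.le_add_left 2 i), if_pos ⟨by omega, le_rfl⟩, if_neg (by omega),
      Nat.add_sub_cancel, show i + 2 - 1 = i + 1 by omega, h1, mul_div_cancel₀ _ ha]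
    ring
  | j + 2 =>
    have h1 : quot a b c f (j + 2) i = (MvPowerSeries.coeff (ee (i + 2) (j + 2)) f -
        b * quot a b c f (j + 1) (i + 1) - c * quot a b c f j (i + 2)) / a := by rw [quot]
    rw [if_pos (Nat.le_add_left 2 i), if_pos ⟨by omega, by omega⟩, if_pos (Nat.le_add_left 2 j),
      Nat.add_sub_cancel, Nat.add_sub_cancel, show i + 2 - 1 = i + 1 by omega,
      show j + 2 - 1 = j + 1 by omega, h1, mul_div_cancel₀ _ ha]
    ring

/-- The embedding `κ⟦v⟧ → κ⟦u, v⟧`. -/
noncomputable def inV : PowerSeries κ →ₐ[κ] MvPowerSeries (Fin 2) κ :=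
  MvPowerSeries.rename (⟨fun _ => 1, fun _ _ _ => Subsingleton.elim _ _⟩ : Unit ↪ Fin 2)

theorem coeff_inV_zero (g : PowerSeries κ) (j : ℕ) :
    MvPowerSeries.coeff (ee 0 j) (inV g) = PowerSeries.coeff j g := by
  have : ee 0 j = embDomain (⟨fun _ => 1, fun _ _ _ => Subsingleton.elim _ _⟩ : Unit ↪ Fin 2)
      (single () j) := by simp [ee, embDomain_single] <;> rfl
  rw [this, inV, MvPowerSeries.coeff_embDomain_rename]
  rfl

theorem coeff_inV_succ (g : PowerSeries κ) (i j : ℕ) :
    MvPowerSeries.coeff (ee (i + 1) j) (inV g) = 0 := by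
  refine MvPowerSeries.coeff_rename_eq_zero _ _ ?_
  rintro ⟨x, hx⟩
  have := congr($hx 0)
  rw [ee_zero, mapDomain_of_notMem_range] at this
  · omega
  · rintro ⟨_, h⟩
    exact absurd h (by decide : (1 : Fin 2) ≠ 0)

theorem inV_X : inV (PowerSeries.X : PowerSeries κ) = MvPowerSeries.X 1 :=
  MvPowerSeries.rename_X _ _

/-- `g(v) + u h(v)`. -/
noncomputable def lin (g h : PowerSeries κ) : MvPowerSeries (Fin 2) κ :=
  inV g + MvPowerSeries.X 0 * inV h

theorem coeff_X_zero_mul (f : MvPowerSeries (Fin 2) κ) (i j : ℕ) :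
    MvPowerSeries.coeff (ee i j) (MvPowerSeries.X 0 * f) =
      if 1 ≤ i then MvPowerSeries.coeff (ee (i - 1) j) f else 0 := by
  have : (MvPowerSeries.X 0 : MvPowerSeries (Fin 2) κ) = MvPowerSeries.monomial (ee 1 0) 1 := by
    simp [MvPowerSeries.X, ee]
  rw [this, coeff_monomial_ee_mul]
  simp

theorem coeff_lin_zero (g h : PowerSeries κ) (j : ℕ) :
    MvPowerSeries.coeff (ee 0 j) (lin g h) = PowerSeries.coeff j g := by
  simp [lin, coeff_X_zero_mul, coeff_inV_zero]

theorem coeff_lin_one (g h : PowerSeries κ) (j : ℕ) :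
    MvPowerSeries.coeff (ee 1 j) (lin g h) = PowerSeries.coeff j h := by
  simp [lin, coeff_X_zero_mul, coeff_inV_zero, coeff_inV_succ g 0 j]

theorem coeff_lin_add_two (g h : PowerSeries κ) (i j : ℕ) :
    MvPowerSeries.coeff (ee (i + 2) j) (lin g h) = 0 := by
  simp [lin, coeff_X_zero_mul, coeff_inV_succ g (i + 1) j, coeff_inV_succ h i j]

/-- Division: existence. -/
theorem exists_eq_add_lin {a : κ} (ha : a ≠ 0) (b c : κ) (f : MvPowerSeries (Fin 2) κ) :
    ∃ q g h, f = quad a b c * q + lin g h := by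
  set r := f - quad a b c * quotSer a b c f with hr
  refine ⟨quotSer a b c f, PowerSeries.mk fun j => MvPowerSeries.coeff (ee 0 j) r,
    PowerSeries.mk fun j => MvPowerSeries.coeff (ee 1 j) r, ?_⟩
  rw [add_comm, ← sub_eq_iff_eq_add, ← hr]
  refine ext_ee fun i j => ?_
  match i with
  | 0 => rw [coeff_lin_zero, PowerSeries.coeff_mk]
  | 1 => rw [coeff_lin_one, PowerSeries.coeff_mk]
  | i + 2 => rw [coeff_lin_add_two, coeff_sub_quad_mul ha]

/-- Division: uniqueness. -/
theorem lin_eq_zero_of_dvd {a : κ} (ha : a ≠ 0) {b c : κ} {g h : PowerSeries κ}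
    (hd : quad a b c ∣ lin g h) : g = 0 ∧ h = 0 := by
  obtain ⟨q, hq⟩ := hd
  have key : ∀ i j, MvPowerSeries.coeff (ee (i + 2) j) (quad a b c * q) = 0 := fun i j => by
    rw [← hq, coeff_lin_add_two]
  have hq0 : ∀ j i, MvPowerSeries.coeff (ee i j) q = 0 := by
    intro j
    induction j using Nat.strong_induction_on with
    | _ j ih =>
      intro i
      have := key i j
      rw [coeff_quad_mul, if_pos (by omega), Nat.add_sub_cancel] at this
      rcases j with _ | _ | j
      · simpa [ha] using this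
      · rw [if_pos ⟨by omega, le_rfl⟩, if_neg (by omega), ih 0 (by omega), mul_zero, add_zero,
          add_zero, mul_eq_zero] at this
        exact this.resolve_left ha
      · rw [if_pos (show 1 ≤ i + 2 ∧ 1 ≤ j + 1 + 1 by omega), if_pos (show 2 ≤ j + 1 + 1 by omega),
          ih (j + 1 + 1 - 1) (by omega), ih (j + 1 + 1 - 2) (by omega),
          mul_zero, mul_zero, add_zero, add_zero, mul_eq_zero] at this
        exact this.resolve_left ha
  have hq' : q = 0 := ext_ee fun i j => by rw [hq0 j i, map_zero]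
  rw [hq', mul_zero] at hq
  refine ⟨PowerSeries.ext fun j => ?_, PowerSeries.ext fun j => ?_⟩
  · rw [← coeff_lin_zero g h, hq, map_zero, map_zero]
  · rw [← coeff_lin_one g h, hq, map_zero, map_zero]

end Groth.Curves1.Node
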