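import Mathlib
import Groth.Agent.Calg6.PowerSeries
import Groth.Agent.Curves1.Node.Division

/-!
# The quadric `κ⟦u, v⟧/(a u² + b u v + c v²)` with nonzero discriminant
-/

namespace Groth.Curves1.Node

open IsLocalRing Groth.SGA7.PS

universe u v

variable {κ : Type u} [Field κ]

local notation "S2" => MvPowerSeries (Fin 2) κ

/-- The quadric. -/
abbrev Quadric (a b c : κ) : Type u := MvPowerSeries (Fin 2) κ ⧸ Ideal.span {quad a b c}

theorem quad_mem_varIdeal (a b c : κ) : quad a b c ∈ varIdeal (Fin 2) κ := by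
  rw [mem_varIdeal_iff]
  simp [quad]

instance (a b c : κ) : Nontrivial (Quadric a b c) := by
  rw [Ideal.Quotient.nontrivial_iff]
  intro h
  have h2 := (Ideal.span_singleton_le_iff_mem _).mpr (quad_mem_varIdeal a b c)
  rw [h, top_le_iff] at h2
  have h1 : (1 : MvPowerSeries (Fin 2) κ) ∈ varIdeal (Fin 2) κ := h2 ▸ Submodule.mem_top
  simp [mem_varIdeal_iff] at h1

instance (a b c : κ) : IsLocalRing (Quadric a b c) :=
  IsLocalRing.of_surjective' (Ideal.Quotient.mk _) Ideal.Quotient.mk_surjective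

section eval

variable {A : Type v} [CommRing A] [Algebra κ A] (I : Ideal A) [IsAdicComplete I A]

/-- Two algebra maps from power series to an adically complete algebra agree if they agree on
the variables and send them into the ideal. -/
theorem algHom_ext_of_X (f g : MvPowerSeries (Fin 2) κ →ₐ[κ] A) (hf : ∀ i, f (MvPowerSeries.X i) ∈ I)
    (h : ∀ i, f (MvPowerSeries.X i) = g (MvPowerSeries.X i)) : f = g := by
  refine AlgHom.ext fun p => sub_eq_zero.1 (IsHausdorff.haus' (I := I) _ fun n => ?_)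
  rw [SModEq.zero, smul_eq_mul, Ideal.mul_top]
  have hp : p - (MvPowerSeries.truncTotal n p : MvPolynomial (Fin 2) κ) ∈ varIdeal (Fin 2) κ ^ n := by
    refine mem_varIdeal_pow n _ fun d hd => ?_
    rw [map_sub, MvPolynomial.coeff_coe, MvPowerSeries.coeff_truncTotal _ hd, sub_self]
  have hpoly : ∀ q : MvPolynomial (Fin 2) κ, f (q : MvPowerSeries (Fin 2) κ) = g q := by
    intro q
    have : f.comp (MvPolynomial.coeToMvPowerSeries.algHom κ) =
        g.comp (MvPolynomial.coeToMvPowerSeries.algHom κ) :=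
      MvPolynomial.algHom_ext fun i => by simpa using h i
    simpa using AlgHom.congr_fun this q
  have hmap : ∀ e : MvPowerSeries (Fin 2) κ →ₐ[κ] A, (∀ i, e (MvPowerSeries.X i) ∈ I) →
      ∀ y ∈ varIdeal (Fin 2) κ ^ n, e y ∈ I ^ n := by
    intro e he y hy
    have h1 : (varIdeal (Fin 2) κ).map e ≤ I := by
      rw [varIdeal, Ideal.map_span, Ideal.span_le]
      rintro _ ⟨_, ⟨i, rfl⟩, rfl⟩
      exact he i
    have h2 := Ideal.mem_map_of_mem e hy
    rw [Ideal.map_pow] at h2
    exact Ideal.pow_right_mono h1 n h2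
  have := sub_mem (hmap f hf _ hp) (hmap g (fun i => h i ▸ hf i) _ hp)
  rw [map_sub, map_sub, hpoly] at this
  simpa using this

end eval

theorem exists_eq_mul_add_mul {A : Type v} [CommRing A] {x y : A} {I : Ideal A} {e : A}
    (he : e ∈ Ideal.span {x, y} * I) : ∃ p ∈ I, ∃ q ∈ I, e = x * p + y * q := by
  refine Submodule.mul_induction_on he (fun r hr s hs => ?_) ?_
  · obtain ⟨α, β, rfl⟩ := Ideal.mem_span_pair.mp hr
    exact ⟨α * s, I.mul_mem_left _ hs, β * s, I.mul_mem_left _ hs, by ring⟩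
  · rintro r s ⟨p, hp, q, hq, rfl⟩ ⟨p', hp', q', hq', rfl⟩
    exact ⟨p + p', add_mem hp hp', q + q', add_mem hq hq', by ring⟩

/-- The value of the quadratic form at two elements. -/
def quadVal {A : Type v} [CommRing A] [Algebra κ A] (a b c : κ) (x y : A) : A :=
  algebraMap κ A a * x ^ 2 + algebraMap κ A b * x * y + algebraMap κ A c * y ^ 2

theorem map_quad {A : Type v} [CommRing A] [Algebra κ A] (a b c : κ)
    (ψ : MvPowerSeries (Fin 2) κ →ₐ[κ] A) :
    ψ (quad a b c) = quadVal a b c (ψ (MvPowerSeries.X 0)) (ψ (MvPowerSeries.X 1)) := by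
  have hC : ∀ t : κ, ψ (MvPowerSeries.C t) = algebraMap κ A t := fun t => ψ.commutes t
  simp [quad, quadVal, hC]

section Local

variable {R : Type v} [CommRing R] [IsLocalRing R] [Algebra κ R]

/-- An approximate zero of the quadratic form to third order gives an exact one. -/
theorem exists_exact_zero [IsNoetherianRing R] [IsAdicComplete (maximalIdeal R) R] {a b c : κ}
    (hD : 4 * a * c - b ^ 2 ≠ 0) {x y : R} (hxy : Ideal.span {x, y} = maximalIdeal R)
    (h : quadVal a b c x y ∈ maximalIdeal R ^ 3) :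
    ∃ x' y' : R, Ideal.span {x', y'} = maximalIdeal R ∧ quadVal a b c x' y' = 0 := by
  set m := maximalIdeal R
  let A : κ →+* R := algebraMap κ R
  have hgen : ∀ x' y' : R, x' - x ∈ m ^ 2 → y' - y ∈ m ^ 2 → Ideal.span {x', y'} = m := by
    intro x' y' hx hy
    have hxm : x ∈ m := hxy ▸ Ideal.subset_span (Set.mem_insert _ _)
    have hym : y ∈ m := hxy ▸ Ideal.subset_span (Set.mem_insert_of_mem _ rfl)
    refine le_antisymm (Ideal.span_le.mpr ?_) ?_
    · rintro z (rfl | rfl)
      · exact sub_add_cancel z x ▸ add_mem (Ideal.pow_le_self two_ne_zero hx) hxm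
      · exact sub_add_cancel z y ▸ add_mem (Ideal.pow_le_self two_ne_zero hy) hym
    · refine Submodule.le_of_le_smul_of_le_jacobson_bot (IsNoetherian.noetherian _)
        (maximalIdeal_le_jacobson ⊥) ?_
      conv_lhs => rw [← hxy]
      rw [Ideal.span_le]
      rintro z (rfl | rfl)
      · rw [show z = x' - (x' - z) by ring]
        exact sub_mem (Submodule.mem_sup_left (Ideal.subset_span (Set.mem_insert _ _)))
          (Submodule.mem_sup_right (by rwa [smul_eq_mul, ← sq]))
      · rw [show z = y' - (y' - z) by ring]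
        exact sub_mem (Submodule.mem_sup_left (Ideal.subset_span (Set.mem_insert_of_mem _ rfl)))
          (Submodule.mem_sup_right (by rwa [smul_eq_mul, ← sq]))
  let Inv : ℕ → R × R → Prop := fun n p =>
    p.1 - x ∈ m ^ 2 ∧ p.2 - y ∈ m ^ 2 ∧ quadVal a b c p.1 p.2 ∈ m ^ (n + 3)
  have step : ∀ n p, Inv n p → ∃ p', Inv (n + 1) p' ∧
      p'.1 - p.1 ∈ m ^ (n + 2) ∧ p'.2 - p.2 ∈ m ^ (n + 2) := by
    rintro n ⟨x₁, y₁⟩ ⟨hx, hy, he⟩
    rw [pow_succ' m (n + 2)] at he
    have he' : quadVal a b c x₁ y₁ ∈ Ideal.span {x₁, y₁} * m ^ (n + 2) := by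
      rw [hgen x₁ y₁ hx hy]; exact he
    obtain ⟨p, hp, q, hq, hpq⟩ := exists_eq_mul_add_mul he'
    set d₁ := A ((4 * a * c - b ^ 2)⁻¹) * (A (2 * c) * p - A b * q)
    set d₂ := A ((4 * a * c - b ^ 2)⁻¹) * (- A b * p + A (2 * a) * q)
    have hd₁ : d₁ ∈ m ^ (n + 2) :=
      Ideal.mul_mem_left _ _ (sub_mem (Ideal.mul_mem_left _ _ hp) (Ideal.mul_mem_left _ _ hq))
    have hd₂ : d₂ ∈ m ^ (n + 2) :=
      Ideal.mul_mem_left _ _ (add_mem (Ideal.mul_mem_left _ _ hp) (Ideal.mul_mem_left _ _ hq))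
    have hDA : A ((4 * a * c - b ^ 2)⁻¹) * (4 * A a * A c - A b ^ 2) = 1 := by
      have := congrArg A (inv_mul_cancel₀ hD)
      simpa [map_ofNat] using this
    have hle : m ^ (n + 2) ≤ m ^ 2 := Ideal.pow_le_pow_right (by omega)
    refine ⟨(x₁ - d₁, y₁ - d₂), ⟨?_, ?_, ?_⟩, by simpa using hd₁, by simpa using hd₂⟩
    · show x₁ - d₁ - x ∈ _
      rw [sub_right_comm]; exact sub_mem hx (hle hd₁)
    · show y₁ - d₂ - y ∈ _
      rw [sub_right_comm]; exact sub_mem hy (hle hd₂)
    · have heq : quadVal a b c (x₁ - d₁) (y₁ - d₂) = quadVal a b c d₁ d₂ := by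
        simp only [quadVal] at hpq ⊢
        have h2 : (2 * A a * x₁ + A b * y₁) * d₁ + (A b * x₁ + 2 * A c * y₁) * d₂ =
            x₁ * p + y₁ * q := by
          simp only [d₁, d₂, map_mul, map_ofNat]
          linear_combination (x₁ * p + y₁ * q) * hDA
        linear_combination hpq - h2
      rw [heq]
      refine Ideal.pow_le_pow_right (show n + 1 + 3 ≤ (n + 2) + (n + 2) by omega) ?_
      rw [pow_add]
      simp only [quadVal, sq]
      refine add_mem (add_mem ?_ ?_) ?_
      · exact Ideal.mul_mem_left _ _ (Ideal.mul_mem_mul hd₁ hd₁)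
      · rw [mul_assoc]
        exact Ideal.mul_mem_left _ _ (Ideal.mul_mem_mul hd₁ hd₂)
      · exact Ideal.mul_mem_left _ _ (Ideal.mul_mem_mul hd₂ hd₂)
  choose! F hF hF1 hF2 using step
  let s : ℕ → R × R := fun n => Nat.rec (x, y) F n
  have hInv : ∀ n, Inv n (s n) := by
    intro n
    induction n with
    | zero => exact ⟨by simp [s], by simp [s], h⟩
    | succ n ih => exact hF n _ ih
  have hlim : ∀ pr : R × R → R, (∀ n, pr (s (n + 1)) - pr (s n) ∈ m ^ (n + 2)) →
      ∃ L, ∀ n, L - pr (s n) ∈ m ^ n := by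
    intro pr hpr
    have hc : ∀ i j, i ≤ j → pr (s j) - pr (s i) ∈ m ^ i := by
      intro i j hij
      induction j, hij using Nat.le_induction with
      | base => simp
      | succ j hj ih =>
        rw [← sub_add_sub_cancel _ (pr (s j))]
        exact add_mem (Ideal.pow_le_pow_right (by omega) (hpr j)) ih
    obtain ⟨L, hL⟩ := IsPrecomplete.prec' (I := m) (fun n => pr (s n)) fun {i j} hij => by
      rw [SModEq.sub_mem, smul_eq_mul, Ideal.mul_top, ← neg_mem_iff, neg_sub]
      exact hc i j hij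
    refine ⟨L, fun n => ?_⟩
    have := SModEq.sub_mem.1 (hL n)
    rw [smul_eq_mul, Ideal.mul_top, ← neg_mem_iff, neg_sub] at this
    exact this
  obtain ⟨x', hx'⟩ := hlim Prod.fst fun n => hF1 n _ (hInv n)
  obtain ⟨y', hy'⟩ := hlim Prod.snd fun n => hF2 n _ (hInv n)
  refine ⟨x', y', hgen _ _ ?_ ?_, IsHausdorff.haus' (I := m) _ fun n => ?_⟩
  · rw [← sub_add_sub_cancel _ (s 2).1]
    exact add_mem (hx' 2) (hInv 2).1
  · rw [← sub_add_sub_cancel _ (s 2).2]
    exact add_mem (hy' 2) (hInv 2).2.1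
  · rw [SModEq.zero, smul_eq_mul, Ideal.mul_top, ← Ideal.Quotient.eq_zero_iff_mem]
    have h1 : Ideal.Quotient.mk (m ^ n) x' = Ideal.Quotient.mk _ (s n).1 := Ideal.Quotient.eq.mpr (hx' n)
    have h2 : Ideal.Quotient.mk (m ^ n) y' = Ideal.Quotient.mk _ (s n).2 := Ideal.Quotient.eq.mpr (hy' n)
    have h3 : Ideal.Quotient.mk (m ^ n) (quadVal a b c (s n).1 (s n).2) = 0 :=
      Ideal.Quotient.eq_zero_iff_mem.mpr (Ideal.pow_le_pow_right (by omega) (hInv n).2.2)
    rw [← h3]
    simp [quadVal, h1, h2]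

end Local

section Norm

open PowerSeries

/-- If the norm of `g + u h` vanishes then it is a multiple of a linear form. -/
theorem norm_eq_zero {β γ : κ} {g h : PowerSeries κ}
    (hN : g ^ 2 - C β * X * g * h + C γ * X ^ 2 * h ^ 2 = 0) (hh : h ≠ 0) :
    ∃ r, r ^ 2 - β * r + γ = 0 ∧ g = C r * X * h := by
  obtain ⟨i, w, hw⟩ := IsDiscreteValuationRing.eq_unit_mul_pow_irreducible hh X_irreducible
  set G := g * (↑w⁻¹ : PowerSeries κ) with hG
  have hgG : g = G * w := by rw [hG, Units.inv_mul_cancel_right]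
  have hGeq : G ^ 2 - C β * X ^ (i + 1) * G + C γ * (X ^ (i + 1)) ^ 2 = 0 := by
    rw [hgG, hw] at hN
    refine mul_left_cancel₀ (pow_ne_zero 2 w.ne_zero) ?_
    rw [mul_zero, ← hN]
    ring
  obtain ⟨T, hT⟩ : X ^ (i + 1) ∣ G := by
    by_cases hG0 : G = 0
    · rw [hG0]; exact dvd_zero _
    obtain ⟨l, e, he⟩ := IsDiscreteValuationRing.eq_unit_mul_pow_irreducible hG0 X_irreducible
    rcases le_or_gt (i + 1) l with hl | hl
    · rw [he]; exact dvd_mul_of_dvd_right (pow_dvd_pow _ hl) _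
    · exfalso
      obtain ⟨d, hd⟩ := Nat.exists_eq_add_of_lt hl
      rw [he, hd] at hGeq
      have h1 : (e : PowerSeries κ) ^ 2 = X * (C β * X ^ d * (e : PowerSeries κ) - C γ * X ^ (2 * d + 1)) := by
        refine mul_left_cancel₀ (pow_ne_zero (2 * l) X_ne_zero) ?_
        linear_combination hGeq
      have h2 : IsUnit (X * (C β * X ^ d * (e : PowerSeries κ) - C γ * X ^ (2 * d + 1))) := by
        rw [← h1]; exact e.isUnit.pow 2
      exact X_irreducible.not_isUnit (isUnit_of_mul_isUnit_left h2)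
  have hTeq : T ^ 2 - C β * T + C γ = 0 := by
    rw [hT] at hGeq
    refine mul_left_cancel₀ (pow_ne_zero 2 (pow_ne_zero (i + 1) X_ne_zero)) ?_
    rw [mul_zero, ← hGeq]
    ring
  set r := constantCoeff T
  have hr : r ^ 2 - β * r + γ = 0 := by
    have := congrArg constantCoeff hTeq
    simpa using this
  have hfac : (T - C r) * (T - C (β - r)) = 0 := by
    have : (C γ : PowerSeries κ) = C (β * r - r ^ 2) := by congr 1; linear_combination hr
    rw [this] at hTeq
    rw [← hTeq]
    simp only [map_sub, map_mul, map_pow]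
    ring
  rcases mul_eq_zero.mp hfac with h0 | h0
  · refine ⟨r, hr, ?_⟩
    rw [hgG, hT, sub_eq_zero.mp h0, hw]
    ring
  · refine ⟨β - r, by linear_combination hr, ?_⟩
    rw [hgG, hT, sub_eq_zero.mp h0, hw]
    ring

theorem two_mul_sub_ne_zero {a b c r : κ} (ha : a ≠ 0) (hD : 4 * a * c - b ^ 2 ≠ 0)
    (hr : r ^ 2 - b / a * r + c / a = 0) : 2 * r - b / a ≠ 0 := by
  intro h0
  apply hD
  have h1 : a * (r ^ 2) - b * r + c = 0 := by
    have := congrArg (a * ·) hr
    simp only [mul_zero] at this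
    rw [← this]
    field_simp
  have h2 : 2 * a * r - b = 0 := by
    have := congrArg (a * ·) h0
    simp only [mul_zero] at this
    rw [← this]
    field_simp
  linear_combination 4 * a * h1 - (2 * a * r - b) * h2

end Norm

theorem lin_mul_conj {a : κ} (ha : a ≠ 0) (b c : κ) (g h : PowerSeries κ) :
    ∃ q, lin g h * (inV g - MvPowerSeries.C (b / a) * MvPowerSeries.X 1 * inV h -
        MvPowerSeries.X 0 * inV h) =
      quad a b c * q + inV (g ^ 2 - PowerSeries.C (b / a) * PowerSeries.X * g * h +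
        PowerSeries.C (c / a) * PowerSeries.X ^ 2 * h ^ 2) := by
  refine ⟨-(MvPowerSeries.C a⁻¹ * inV h ^ 2), ?_⟩
  have hC : ∀ t : κ, inV (PowerSeries.C t) = MvPowerSeries.C t := fun t => inV.commutes t
  have hca : (MvPowerSeries.C a⁻¹ : MvPowerSeries (Fin 2) κ) * MvPowerSeries.C a = 1 := by
    rw [← map_mul, inv_mul_cancel₀ ha, map_one]
  simp only [lin, quad, map_add, map_sub, map_mul, map_pow, inV_X, hC, div_eq_mul_inv]
  linear_combination (MvPowerSeries.X 0 ^ 2 * inV h ^ 2) * hca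

theorem quadric_mem_iff {a b c : κ} {f : MvPowerSeries (Fin 2) κ} :
    (Ideal.Quotient.mk (Ideal.span {quad a b c}) f) = 0 ↔ quad a b c ∣ f := by
  rw [Ideal.Quotient.eq_zero_iff_mem, Ideal.mem_span_singleton]

theorem sq_linear {a : κ} (ha : a ≠ 0) (b c r : κ) :
    ∃ q, (MvPowerSeries.X 0 + MvPowerSeries.C r * MvPowerSeries.X 1 : MvPowerSeries (Fin 2) κ) ^ 2 =
      quad a b c * q + lin (PowerSeries.C (r ^ 2 - c / a) * PowerSeries.X ^ 2)
        (PowerSeries.C (2 * r - b / a) * PowerSeries.X) := by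
  refine ⟨MvPowerSeries.C a⁻¹, ?_⟩
  have hC : ∀ t : κ, inV (PowerSeries.C t) = MvPowerSeries.C t := fun t => inV.commutes t
  have hca : (MvPowerSeries.C a⁻¹ : MvPowerSeries (Fin 2) κ) * MvPowerSeries.C a = 1 := by
    rw [← map_mul, inv_mul_cancel₀ ha, map_one]
  simp only [lin, quad, map_add, map_sub, map_mul, map_pow, inV_X, hC, div_eq_mul_inv, map_ofNat]
  linear_combination -(MvPowerSeries.X 0 ^ 2) * hca

/-- `v` is a nonzerodivisor on the quadric. -/
theorem quadric_X_one_mem_nonZeroDivisors {a : κ} (ha : a ≠ 0) (b c : κ) :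
    Ideal.Quotient.mk (Ideal.span {quad a b c}) (MvPowerSeries.X 1) ∈
      nonZeroDivisors (Quadric a b c) := by
  rw [mem_nonZeroDivisors_iff_right]
  intro f hf
  obtain ⟨f, rfl⟩ := Ideal.Quotient.mk_surjective f
  obtain ⟨q, g, h, rfl⟩ := exists_eq_add_lin ha b c f
  rw [← map_mul, quadric_mem_iff, add_mul, mul_assoc, dvd_add_right (dvd_mul_right _ _)] at hf
  have : lin g h * MvPowerSeries.X 1 = lin (g * PowerSeries.X) (h * PowerSeries.X) := by
    simp only [lin, map_mul, inV_X]; ring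
  rw [this] at hf
  obtain ⟨hg, hh⟩ := lin_eq_zero_of_dvd ha hf
  rw [mul_eq_zero, or_iff_left PowerSeries.X_ne_zero] at hg hh
  rw [quadric_mem_iff, hg, hh]
  simp [lin]

/-- The quadric is reduced. -/
theorem quadric_isReduced {a b c : κ} (ha : a ≠ 0) (hD : 4 * a * c - b ^ 2 ≠ 0) :
    IsReduced (Quadric a b c) := by
  rw [isReduced_iff_pow_one_lt 2 one_lt_two]
  intro f hf
  obtain ⟨f, rfl⟩ := Ideal.Quotient.mk_surjective f
  obtain ⟨q, g, h, rfl⟩ := exists_eq_add_lin ha b c f
  rw [← map_pow, quadric_mem_iff] at hf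
  rw [quadric_mem_iff, dvd_add_right (dvd_mul_right _ _)]
  replace hf : quad a b c ∣ lin g h ^ 2 := by
    have h1 : (quad a b c * q + lin g h) ^ 2 =
        quad a b c * (quad a b c * q ^ 2 + 2 * q * lin g h) + lin g h ^ 2 := by ring
    rw [h1] at hf
    exact (dvd_add_right (dvd_mul_right _ _)).mp hf
  obtain ⟨q', hq'⟩ := lin_mul_conj ha b c g h
  set N := g ^ 2 - PowerSeries.C (b / a) * PowerSeries.X * g * h +
    PowerSeries.C (c / a) * PowerSeries.X ^ 2 * h ^ 2 with hNdef
  have hN : N = 0 := by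
    have h1 : quad a b c ∣ (quad a b c * q' + inV N) ^ 2 := by
      rw [← hq', mul_pow]; exact dvd_mul_of_dvd_left hf _
    have h2 : (quad a b c * q' + inV N) ^ 2 =
        quad a b c * (quad a b c * q' ^ 2 + 2 * q' * inV N) + lin (N ^ 2) 0 := by
      simp only [lin, map_pow, map_zero]; ring
    rw [h2] at h1
    exact sq_eq_zero_iff.mp
      (lin_eq_zero_of_dvd ha ((dvd_add_right (dvd_mul_right _ _)).mp h1)).1
  by_cases hh : h = 0
  · have hg : g = 0 := by simpa [hNdef, hh] using hN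
    simp [hg, hh, lin]
  obtain ⟨r, hr, hgr⟩ := norm_eq_zero hN hh
  exfalso
  obtain ⟨q'', hq''⟩ := sq_linear ha b c r
  have hlin : lin g h = inV h * (MvPowerSeries.X 0 + MvPowerSeries.C r * MvPowerSeries.X 1) := by
    simp only [lin, hgr, map_mul, inV_X, show inV (PowerSeries.C r) = MvPowerSeries.C r from inV.commutes r]
    ring
  have h3 : lin g h ^ 2 = quad a b c * (inV h ^ 2 * q'') +
      lin (h ^ 2 * (PowerSeries.C (r ^ 2 - c / a) * PowerSeries.X ^ 2))
        (h ^ 2 * (PowerSeries.C (2 * r - b / a) * PowerSeries.X)) := by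
    rw [hlin, mul_pow, hq'']
    simp only [lin, map_mul, map_pow]
    ring
  rw [h3] at hf
  have h4 := (lin_eq_zero_of_dvd ha ((dvd_add_right (dvd_mul_right _ _)).mp hf)).2
  simp [hh, PowerSeries.X_ne_zero] at h4
  exact two_mul_sub_ne_zero ha hD hr (by simpa using congrArg PowerSeries.constantCoeff h4)

section Local

variable {R : Type v} [CommRing R] [IsLocalRing R] [Algebra κ R]

/-- A surjection from power series killing the quadric form has kernel generated by it, when the
maximal ideal is not principal and contains a nonzerodivisor. -/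
theorem ker_eq_span_quad {a b c : κ} (ha : a ≠ 0) (hD : 4 * a * c - b ^ 2 ≠ 0)
    (ψ : MvPowerSeries (Fin 2) κ →ₐ[κ] R)
    (hm : Ideal.span {ψ (MvPowerSeries.X 0), ψ (MvPowerSeries.X 1)} = maximalIdeal R)
    (hQ : ψ (quad a b c) = 0) (hnp : ∀ z ∈ maximalIdeal R, ¬ maximalIdeal R ≤ Ideal.span {z})
    {t : R} (ht : t ∈ maximalIdeal R) (ht' : t ∈ nonZeroDivisors R) :
    RingHom.ker ψ = Ideal.span {quad a b c} := by
  refine le_antisymm (fun f hf => ?_) ((Ideal.span_singleton_le_iff_mem _).mpr hQ)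
  set x := ψ (MvPowerSeries.X 0)
  set y := ψ (MvPowerSeries.X 1)
  obtain ⟨q, g, h, rfl⟩ := exists_eq_add_lin ha b c f
  rw [RingHom.mem_ker, map_add, map_mul, hQ, zero_mul, zero_add] at hf
  rw [Ideal.mem_span_singleton, dvd_add_right (dvd_mul_right _ _)]
  obtain ⟨q', hq'⟩ := lin_mul_conj ha b c g h
  set N := g ^ 2 - PowerSeries.C (b / a) * PowerSeries.X * g * h +
    PowerSeries.C (c / a) * PowerSeries.X ^ 2 * h ^ 2 with hNdef
  have hψN : ψ (inV N) = 0 := by
    have := congrArg ψ hq'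
    rw [map_mul, hf, zero_mul, map_add, map_mul, hQ, zero_mul, zero_add] at this
    exact this.symm
  have hy_pow : ∀ (p : PowerSeries κ) (z : R), p ≠ 0 → ψ (inV p) * z = 0 →
      ∃ i, y ^ i * z = 0 := by
    intro p z hp hz
    obtain ⟨i, w, hw⟩ := IsDiscreteValuationRing.eq_unit_mul_pow_irreducible hp PowerSeries.X_irreducible
    refine ⟨i, ?_⟩
    rw [hw, map_mul, map_mul, map_pow, map_pow, inV_X, mul_assoc] at hz
    exact ((w.isUnit.map inV).map ψ).mul_right_eq_zero.mp hz
  have hN : N = 0 := by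
    by_contra hN
    obtain ⟨i, hi⟩ := hy_pow N 1 hN (by rw [mul_one, hψN])
    rw [mul_one] at hi
    have hy : IsNilpotent y := ⟨i, hi⟩
    have hx : IsNilpotent x := by
      have h1 : quadVal a b c x y = 0 := (map_quad a b c ψ).symm.trans hQ
      have h2 : x ^ 2 = y * (-(algebraMap κ R a⁻¹) * (algebraMap κ R b * x + algebraMap κ R c * y)) := by
        have hca : algebraMap κ R a⁻¹ * algebraMap κ R a = 1 := by
          rw [← map_mul, inv_mul_cancel₀ ha, map_one]
        simp only [quadVal] at h1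
        linear_combination algebraMap κ R a⁻¹ * h1 - x ^ 2 * hca
      obtain ⟨n, hn⟩ := (Commute.all y _).isNilpotent_mul_right hy
      exact ⟨2 * n, by rw [pow_mul, h2]; exact hn⟩
    obtain ⟨α, β, rfl⟩ := Ideal.mem_span_pair.mp (hm.symm ▸ ht)
    obtain ⟨n, hn⟩ := (Commute.all _ _).isNilpotent_add
      ((Commute.all α x).isNilpotent_mul_left hx) ((Commute.all β y).isNilpotent_mul_left hy)
    exact nonZeroDivisors.ne_zero (pow_mem ht' n) hn
  by_cases hh : h = 0
  · have hg : g = 0 := by simpa [hNdef, hh] using hN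
    simp [hg, hh, lin]
  obtain ⟨r, hr, hgr⟩ := norm_eq_zero hN hh
  exfalso
  set l₁ := x + algebraMap κ R r * y with hl₁
  have hlin : ψ (lin g h) = ψ (inV h) * l₁ := by
    simp only [lin, hgr, map_add, map_mul, inV_X, show inV (PowerSeries.C r) = MvPowerSeries.C r from
      inV.commutes r, show ψ (MvPowerSeries.C r) = algebraMap κ R r from ψ.commutes r, hl₁]
    ring
  obtain ⟨i, hi⟩ := hy_pow h l₁ hh (hlin.symm.trans hf)
  have hl₁0 : l₁ ≠ 0 := by
    intro h0
    refine hnp y (hm ▸ Ideal.subset_span (Set.mem_insert_of_mem _ rfl)) ?_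
    rw [← hm, Ideal.span_le]
    rintro z (rfl | rfl)
    · rw [SetLike.mem_coe, Ideal.mem_span_singleton']
      exact ⟨-algebraMap κ R r, by rw [hl₁] at h0; linear_combination -h0⟩
    · exact Ideal.mem_span_singleton_self _
  set l₂ := x + algebraMap κ R (b / a - r) * y with hl₂
  have h12 : l₁ * l₂ = 0 := by
    have h1 : quadVal a b c x y = 0 := (map_quad a b c ψ).symm.trans hQ
    have hγ : c / a = r * (b / a - r) := by linear_combination hr
    have h3 : algebraMap κ R a * (l₁ * l₂) = quadVal a b c x y := by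
      have hb : algebraMap κ R b = algebraMap κ R a * algebraMap κ R (b / a) := by
        rw [← map_mul, mul_div_cancel₀ _ ha]
      have hc : algebraMap κ R c = algebraMap κ R a * algebraMap κ R (r * (b / a - r)) := by
        rw [← map_mul, ← hγ, mul_div_cancel₀ _ ha]
      simp only [quadVal, hl₁, hl₂, hb, hc, map_sub, map_mul]
      ring
    rw [h1] at h3
    exact ((Ne.isUnit ha).map (algebraMap κ R)).mul_right_eq_zero.mp h3
  set e := 2 * r - b / a
  have he : e ≠ 0 := two_mul_sub_ne_zero ha hD hr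
  have hy' : algebraMap κ R e * y = l₁ - l₂ := by
    simp only [hl₁, hl₂, e, map_sub, map_mul, map_ofNat]; ring
  have hle : ∀ j, (algebraMap κ R e * y) ^ j * l₁ = l₁ ^ (j + 1) := by
    intro j
    induction j with
    | zero => simp
    | succ j ih =>
      rw [pow_succ', mul_assoc, ih, hy', pow_succ' l₁ j]
      linear_combination -(l₁ ^ j) * h12
  have hdesc : ∀ j, l₁ ^ (j + 1) = 0 → l₁ = 0 := by
    intro j
    induction j with
    | zero => intro h0; simpa using h0
    | succ j ih =>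
      intro h0
      refine ih ((mem_nonZeroDivisors_iff_left.mp ht') _ ?_)
      obtain ⟨α, β, rfl⟩ := Ideal.mem_span_pair.mp (hm.symm ▸ ht)
      have hxl : algebraMap κ R e * x = algebraMap κ R (r - b / a) * l₁ + algebraMap κ R r * l₂ := by
        simp only [hl₁, hl₂, e, map_sub, map_mul, map_ofNat]; ring
      have hu := (Ne.isUnit he).map (algebraMap κ R)
      refine hu.mul_right_eq_zero.mp ?_
      have h12' : l₂ * l₁ ^ (j + 1) = 0 := by
        rw [pow_succ']; linear_combination (l₁ ^ j) * h12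
      calc algebraMap κ R e * ((α * x + β * y) * l₁ ^ (j + 1))
          = α * ((algebraMap κ R e * x) * l₁ ^ (j + 1)) + β * ((algebraMap κ R e * y) * l₁ ^ (j + 1)) := by
            ring
        _ = 0 := by
            rw [hxl, hy']
            linear_combination (α * algebraMap κ R (r - b / a) + β) * h0 +
              (α * algebraMap κ R r - β) * h12'
  refine hl₁0 (hdesc i ?_)
  rw [← hle, mul_pow, mul_assoc, hi, mul_zero]

end Local

end Groth.Curves1.Node
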