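import Mathlib
import Groth.Agent.Calg6.PowerSeries
import Groth.Agent.Curves1.Node.Quadric

/-!
# Complete local rings isomorphic to a quadric
-/

namespace Groth.Curves1.Node

open IsLocalRing Groth.SGA7.PS

universe u v

variable {κ : Type u} [Field κ]

theorem quadric_maximalIdeal (a b c : κ) :
    Ideal.span {Ideal.Quotient.mk (Ideal.span {quad a b c}) (MvPowerSeries.X 0),
      Ideal.Quotient.mk (Ideal.span {quad a b c}) (MvPowerSeries.X 1)} =
      maximalIdeal (Quadric a b c) := by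
  have hmax : ((maximalIdeal (MvPowerSeries (Fin 2) κ)).map
      (Ideal.Quotient.mk (Ideal.span {quad a b c}))).IsMaximal := by
    refine Ideal.IsMaximal.map_of_surjective_of_ker_le Ideal.Quotient.mk_surjective ?_
    rw [Ideal.mk_ker, maximalIdeal_eq, Ideal.span_singleton_le_iff_mem]
    exact quad_mem_varIdeal a b c
  have h := eq_maximalIdeal hmax
  rw [← h, maximalIdeal_eq, varIdeal, Ideal.map_span, ← Set.range_comp]
  congr 1
  ext z
  simp [Fin.exists_fin_two, eq_comm]

theorem quadric_sum_eq_zero (a b c : κ) :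
    quadVal a b c (Ideal.Quotient.mk (Ideal.span {quad a b c}) (MvPowerSeries.X 0))
      (Ideal.Quotient.mk (Ideal.span {quad a b c}) (MvPowerSeries.X 1)) = 0 := by
  have := map_quad a b c (Ideal.Quotient.mkₐ κ (Ideal.span {quad a b c}))
  rw [Ideal.Quotient.mkₐ_eq_mk] at this
  rw [← this, Ideal.Quotient.eq_zero_iff_mem]
  exact Ideal.mem_span_singleton_self _

theorem coeff_X_one_mul (f : MvPowerSeries (Fin 2) κ) (i j : ℕ) :
    MvPowerSeries.coeff (ee i j) (MvPowerSeries.X 1 * f) =
      if 1 ≤ j then MvPowerSeries.coeff (ee i (j - 1)) f else 0 := by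
  have : (MvPowerSeries.X 1 : MvPowerSeries (Fin 2) κ) = MvPowerSeries.monomial (ee 0 1) 1 := by
    simp [MvPowerSeries.X, ee]
  rw [this, coeff_monomial_ee_mul]
  simp

theorem quadric_maximalIdeal_not_le_span (a b c : κ) (z : Quadric a b c)
    (hz : z ∈ maximalIdeal (Quadric a b c)) : ¬ maximalIdeal (Quadric a b c) ≤ Ideal.span {z} := by
  intro hle
  rw [← quadric_maximalIdeal] at hz hle
  obtain ⟨p, q, hpq⟩ := Ideal.mem_span_pair.mp hz
  obtain ⟨p, rfl⟩ := Ideal.Quotient.mk_surjective p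
  obtain ⟨q, rfl⟩ := Ideal.Quotient.mk_surjective q
  rw [← hpq, Ideal.span_le] at hle
  obtain ⟨α, hα⟩ := Ideal.mem_span_singleton'.mp (hle (Set.mem_insert _ _))
  obtain ⟨β, hβ⟩ := Ideal.mem_span_singleton'.mp (hle (Set.mem_insert_of_mem _ rfl))
  obtain ⟨α, rfl⟩ := Ideal.Quotient.mk_surjective α
  obtain ⟨β, rfl⟩ := Ideal.Quotient.mk_surjective β
  rw [← map_mul, ← map_mul, ← map_add, ← map_mul, Ideal.Quotient.eq, Ideal.mem_span_singleton] at hα hβ
  obtain ⟨w₁, hw₁⟩ := hα
  obtain ⟨w₂, hw₂⟩ := hβ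
  have key : ∀ (i j : ℕ), i + j = 1 → ∀ (A X' w : MvPowerSeries (Fin 2) κ),
      A * (p * MvPowerSeries.X 0 + q * MvPowerSeries.X 1) - X' = quad a b c * w →
      MvPowerSeries.coeff (ee i j) X' = MvPowerSeries.constantCoeff A *
        (if i = 1 then MvPowerSeries.constantCoeff p else MvPowerSeries.constantCoeff q) := by
    intro i j hij A X' w hw
    have h := congrArg (MvPowerSeries.coeff (ee i j)) hw
    rw [coeff_quad_mul, if_neg (by omega), if_neg (by omega), if_neg (by omega), map_sub,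
      show A * (p * MvPowerSeries.X 0 + q * MvPowerSeries.X 1) =
        MvPowerSeries.X 0 * (A * p) + MvPowerSeries.X 1 * (A * q) by ring,
      map_add, coeff_X_zero_mul, coeff_X_one_mul, add_zero, add_zero, sub_eq_zero] at h
    rw [← h]
    have he : ee 0 0 = 0 := by simp [ee]
    rcases (show (i = 1 ∧ j = 0) ∨ (i = 0 ∧ j = 1) by omega) with ⟨rfl, rfl⟩ | ⟨rfl, rfl⟩ <;>
      simp [he]
  have hX0 : ∀ i j, MvPowerSeries.coeff (ee i j) (MvPowerSeries.X 0 : MvPowerSeries (Fin 2) κ) =
      if 1 ≤ i then MvPowerSeries.coeff (ee (i - 1) j) (1 : MvPowerSeries (Fin 2) κ) else 0 := fun i j => by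
    rw [← coeff_X_zero_mul, mul_one]
  have hX1 : ∀ i j, MvPowerSeries.coeff (ee i j) (MvPowerSeries.X 1 : MvPowerSeries (Fin 2) κ) =
      if 1 ≤ j then MvPowerSeries.coeff (ee i (j - 1)) (1 : MvPowerSeries (Fin 2) κ) else 0 := fun i j => by
    rw [← coeff_X_one_mul, mul_one]
  have he : ee 0 0 = 0 := by simp [ee]
  have e1 := key 1 0 rfl _ _ _ hw₁
  have e2 := key 0 1 rfl _ _ _ hw₁
  have e3 := key 1 0 rfl _ _ _ hw₂
  have e4 := key 0 1 rfl _ _ _ hw₂
  simp [hX0, hX1, he] at e1 e2 e3 e4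
  rcases e2 with h | h
  · simp [h] at e1
  · simp [h] at e4

/-- Linear changes of variables. -/
theorem exists_equiv_of_linear {a b c a' b' c' : κ}
    (f g : MvPowerSeries (Fin 2) κ →ₐ[κ] MvPowerSeries (Fin 2) κ)
    (hf : ∀ i, f (MvPowerSeries.X i) ∈ varIdeal (Fin 2) κ)
    (hg : ∀ i, g (MvPowerSeries.X i) ∈ varIdeal (Fin 2) κ)
    (hfg : ∀ i, f (g (MvPowerSeries.X i)) = MvPowerSeries.X i)
    (hgf : ∀ i, g (f (MvPowerSeries.X i)) = MvPowerSeries.X i)
    (hQ : f (quad a b c) = quad a' b' c') :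
    Nonempty (Quadric a b c ≃ₐ[κ] Quadric a' b' c') := by
  have := Groth.Calg6.isAdicComplete_varIdeal (σ := Fin 2) (k := κ)
  have h1 : f.comp g = AlgHom.id κ _ :=
    algHom_ext_of_X (varIdeal (Fin 2) κ) _ _ (fun i => by simp [hfg, X_mem]) (by simpa using hfg)
  have h2 : g.comp f = AlgHom.id κ _ :=
    algHom_ext_of_X (varIdeal (Fin 2) κ) _ _ (fun i => by simp [hgf, X_mem]) (by simpa using hgf)
  refine ⟨Ideal.quotientEquivAlg _ _ (AlgEquiv.ofAlgHom f g h1 h2) ?_⟩
  rw [Ideal.map_span, Set.image_singleton]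
  exact congrArg (fun z => Ideal.span {z}) hQ.symm

/-- Substitution of two elements of the ideal of the variables. -/
noncomputable def substPair (p q : MvPowerSeries (Fin 2) κ) (hp : p ∈ varIdeal (Fin 2) κ)
    (hq : q ∈ varIdeal (Fin 2) κ) : MvPowerSeries (Fin 2) κ →ₐ[κ] MvPowerSeries (Fin 2) κ :=
  haveI := Groth.Calg6.isAdicComplete_varIdeal (σ := Fin 2) (k := κ)
  Groth.Calg6.evalAdic (varIdeal (Fin 2) κ) ![p, q]
    (fun i => by fin_cases i <;> simp [hp, hq])

theorem substPair_X_zero (p q : MvPowerSeries (Fin 2) κ) (hp : p ∈ varIdeal (Fin 2) κ)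
    (hq : q ∈ varIdeal (Fin 2) κ) : substPair p q hp hq (MvPowerSeries.X 0) = p :=
  haveI := Groth.Calg6.isAdicComplete_varIdeal (σ := Fin 2) (k := κ)
  Groth.Calg6.evalAdic_X _ _ _ 0

theorem substPair_X_one (p q : MvPowerSeries (Fin 2) κ) (hp : p ∈ varIdeal (Fin 2) κ)
    (hq : q ∈ varIdeal (Fin 2) κ) : substPair p q hp hq (MvPowerSeries.X 1) = q :=
  haveI := Groth.Calg6.isAdicComplete_varIdeal (σ := Fin 2) (k := κ)
  Groth.Calg6.evalAdic_X _ _ _ 1

/-- Every quadric with nonzero discriminant is isomorphic to one with `a ≠ 0`, compatibly with the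
vanishing of the quadratic form on pairs generating an ideal. -/
theorem exists_normal {a b c : κ} (hD : 4 * a * c - b ^ 2 ≠ 0) :
    ∃ a' b' c' : κ, a' ≠ 0 ∧ 4 * a' * c' - b' ^ 2 ≠ 0 ∧
      Nonempty (Quadric a b c ≃ₐ[κ] Quadric a' b' c') ∧
      ∀ {A : Type v} [CommRing A] [Algebra κ A] (x y : A),
        ∃ x' y', Ideal.span {x', y'} = Ideal.span {x, y} ∧
          quadVal a' b' c' x' y' = quadVal a b c x y := by
  by_cases ha : a = 0
  swap
  · exact ⟨a, b, c, ha, hD, ⟨AlgEquiv.refl⟩, fun x y => ⟨x, y, rfl, rfl⟩⟩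
  subst ha
  have hX : ∀ i, (MvPowerSeries.X i : MvPowerSeries (Fin 2) κ) ∈ varIdeal (Fin 2) κ := fun i => X_mem i
  by_cases hc : c = 0
  · subst hc
    have hb : b ≠ 0 := fun h => hD (by simp [h])
    have hadd := add_mem (hX 0) (hX 1)
    have hsub := sub_mem (hX 1) (hX 0)
    refine ⟨b, b, 0, hb, by simpa using hb, exists_equiv_of_linear
      (substPair _ _ (hX 0) hadd) (substPair _ _ (hX 0) hsub) ?_ ?_ ?_ ?_ ?_, fun x y =>
        ⟨x, y - x, le_antisymm
          (Ideal.span_le.mpr (by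
            rintro z (rfl | rfl)
            · exact Ideal.subset_span (Set.mem_insert _ _)
            · exact sub_mem (Ideal.subset_span (Set.mem_insert_of_mem _ rfl))
                (Ideal.subset_span (Set.mem_insert _ _))))
          (Ideal.span_le.mpr (by
            rintro z (rfl | rfl)
            · exact Ideal.subset_span (Set.mem_insert _ _)
            · exact Ideal.mem_span_pair.mpr ⟨1, 1, by ring⟩)), ?_⟩⟩
    · intro i; fin_cases i <;> simp [substPair_X_zero, substPair_X_one, hX, hadd]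
    · intro i; fin_cases i <;> simp [substPair_X_zero, substPair_X_one, hX, hsub]
    · intro i; fin_cases i <;> simp [substPair_X_zero, substPair_X_one]
    · intro i; fin_cases i <;> simp [substPair_X_zero, substPair_X_one]
    · have h := map_quad 0 b 0 (substPair _ _ (hX 0) hadd)
      rw [substPair_X_zero, substPair_X_one] at h
      rw [h]
      simp [quadVal, quad, MvPowerSeries.algebraMap_apply]
      ring
    · simp [quadVal]; ring
  · refine ⟨c, b, 0, hc, by simpa using hD, exists_equiv_of_linear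
      (substPair _ _ (hX 1) (hX 0)) (substPair _ _ (hX 1) (hX 0)) ?_ ?_ ?_ ?_ ?_, fun x y =>
        ⟨y, x, by rw [Set.pair_comm], ?_⟩⟩
    · intro i; fin_cases i <;> simp [substPair_X_zero, substPair_X_one, hX]
    · intro i; fin_cases i <;> simp [substPair_X_zero, substPair_X_one, hX]
    · intro i; fin_cases i <;> simp [substPair_X_zero, substPair_X_one]
    · intro i; fin_cases i <;> simp [substPair_X_zero, substPair_X_one]
    · have h := map_quad 0 b c (substPair _ _ (hX 1) (hX 0))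
      rw [substPair_X_zero, substPair_X_one] at h
      rw [h]
      simp [quadVal, quad, MvPowerSeries.algebraMap_apply]
      ring
    · simp [quadVal]; ring

theorem quadric_isReduced' {a b c : κ} (hD : 4 * a * c - b ^ 2 ≠ 0) :
    IsReduced (Quadric a b c) := by
  obtain ⟨a', b', c', ha', hD', ⟨e⟩, -⟩ := exists_normal.{u, u} hD
  have := quadric_isReduced ha' hD'
  exact isReduced_of_injective e.toRingHom e.injective

/-- The quadric has a nonzerodivisor in its maximal ideal. -/
theorem exists_nonZeroDivisor_quadric {a b c : κ} (hD : 4 * a * c - b ^ 2 ≠ 0) :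
    ∃ t ∈ maximalIdeal (Quadric a b c), t ∈ nonZeroDivisors (Quadric a b c) := by
  obtain ⟨a', b', c', ha', hD', ⟨e⟩, -⟩ := exists_normal.{u, u} hD
  set v := Ideal.Quotient.mk (Ideal.span {quad a' b' c'}) (MvPowerSeries.X 1)
  have hv : v ∈ maximalIdeal (Quadric a' b' c') :=
    quadric_maximalIdeal a' b' c' ▸ Ideal.subset_span (Set.mem_insert_of_mem _ rfl)
  refine ⟨e.symm v, ?_, ?_⟩
  · rw [mem_maximalIdeal, mem_nonunits_iff] at hv ⊢
    exact fun hu => hv (by simpa using hu.map e)
  · rw [mem_nonZeroDivisors_iff_right]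
    intro z hz
    have := congrArg e hz
    rw [map_mul, map_zero, e.apply_symm_apply] at this
    have h0 := (mem_nonZeroDivisors_iff_right.mp (quadric_X_one_mem_nonZeroDivisors ha' b' c')) _ this
    exact (map_eq_zero_iff e e.injective).mp h0

/-- A complete local ring with residue field `κ`, embedding dimension two, a nonzerodivisor in the
maximal ideal and a nondegenerate quadratic relation to third order is a quadric. -/
theorem nonempty_equiv_quadric {R : Type v} [CommRing R] [IsLocalRing R] [IsNoetherianRing R]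
    [Algebra κ R] [IsAdicComplete (maximalIdeal R) R]
    (hres : Function.Surjective ((residue R).comp (algebraMap κ R)))
    (hnp : ∀ z ∈ maximalIdeal R, ¬ maximalIdeal R ≤ Ideal.span {z})
    {t : R} (ht : t ∈ maximalIdeal R) (ht' : t ∈ nonZeroDivisors R)
    {x y : R} (hxy : Ideal.span {x, y} = maximalIdeal R) {a b c : κ}
    (hD : 4 * a * c - b ^ 2 ≠ 0) (h : quadVal a b c x y ∈ maximalIdeal R ^ 3) :
    Nonempty (R ≃ₐ[κ] Quadric a b c) := by
  obtain ⟨a', b', c', ha', hD', ⟨e⟩, hch⟩ := exists_normal.{u, v} hD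
  obtain ⟨x₁, y₁, hspan, hval⟩ := hch x y
  rw [hxy] at hspan
  rw [← hval] at h
  obtain ⟨x', y', hm, h0⟩ := exists_exact_zero hD' hspan h
  have hxm : ∀ i, ![x', y'] i ∈ maximalIdeal R := fun i => by
    rw [← hm]; fin_cases i
    · exact Ideal.subset_span (Set.mem_insert _ _)
    · exact Ideal.subset_span (Set.mem_insert_of_mem _ rfl)
  let ψ : MvPowerSeries (Fin 2) κ →ₐ[κ] R := Groth.Calg6.evalAdic (maximalIdeal R) ![x', y'] hxm
  have h0' : ψ (MvPowerSeries.X 0) = x' := Groth.Calg6.evalAdic_X _ _ _ 0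
  have h1' : ψ (MvPowerSeries.X 1) = y' := Groth.Calg6.evalAdic_X _ _ _ 1
  have hmap : (varIdeal (Fin 2) κ).map ψ.toRingHom = maximalIdeal R := by
    rw [varIdeal, Ideal.map_span, ← Set.range_comp, ← hm]
    congr 1
    ext z
    simp [Fin.exists_fin_two, h0', h1', eq_comm]
  have hsurj : Function.Surjective ψ := by
    have : IsHausdorff ((varIdeal (Fin 2) κ).map ψ.toRingHom) R := by rw [hmap]; infer_instance
    refine Groth.Calg6.surjective_of_map_varIdeal ψ.toRingHom fun z => ?_
    obtain ⟨s, hs⟩ := hres (residue R z)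
    refine ⟨s, ?_⟩
    rw [hmap, ← residue_eq_zero_iff, map_sub, sub_eq_zero, ← hs]
    show residue R (algebraMap κ R s) = residue R (ψ (MvPowerSeries.C s))
    rw [show (MvPowerSeries.C s : MvPowerSeries (Fin 2) κ) = algebraMap κ _ s from rfl, AlgHom.commutes]
  have hker := ker_eq_span_quad ha' hD' ψ (by rw [h0', h1', hm])
    (by rw [map_quad, h0', h1', h0]) hnp ht ht'
  exact ⟨((Ideal.quotientKerAlgEquivOfSurjective hsurj).symm.trans
    (Ideal.quotientEquivAlgOfEq κ hker)).trans e.symm⟩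

end Groth.Curves1.Node
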