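import Mathlib
import Groth.Agent.Calg1.Completion
import Groth.Agent.Curves1.Node.Structure

/-!
# Completions of Noetherian local rings and coefficient fields
-/

namespace Groth.Curves1.Node

open IsLocalRing

universe u v w

section Lift

variable {k : Type u} [CommRing k] {R : Type v} [CommRing R] [IsLocalRing R] [Algebra k R]
  [IsAdicComplete (maximalIdeal R) R] {κ : Type w} [CommRing κ] [Algebra k κ]
  [Algebra.FormallySmooth k κ]

/-- A formally smooth algebra mapping to the residue field lifts to the complete local ring. -/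
theorem exists_lift_residue (g : κ →ₐ[k] ResidueField R) :
    ∃ s : κ →ₐ[k] R, ∀ x, residue R (s x) = g x := by
  let m := maximalIdeal R
  have hle : m ^ 1 ≤ m := by simp
  let q0 : (R ⧸ m ^ 1) →ₐ[k] ResidueField R := Ideal.Quotient.factorₐ k hle
  have hq0 : Function.Bijective q0 := by
    refine ⟨(RingHom.injective_iff_ker_eq_bot _).mpr ?_, Ideal.Quotient.factor_surjective hle⟩
    show RingHom.ker (Ideal.Quotient.factor hle) = ⊥
    rw [Ideal.Quotient.factor_ker, Ideal.map_mk_eq_bot_of_le]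
    simp [m]
  let π : ∀ n, (R ⧸ m ^ (n + 2)) →ₐ[k] R ⧸ m ^ (n + 1) := fun n =>
    Ideal.Quotient.factorₐ k (Ideal.pow_le_pow_right (by omega))
  have hnil : ∀ n, IsNilpotent (RingHom.ker (π n : (R ⧸ m ^ (n + 2)) →+* R ⧸ m ^ (n + 1))) := by
    intro n
    refine ⟨2, ?_⟩
    have : RingHom.ker (π n : (R ⧸ m ^ (n + 2)) →+* R ⧸ m ^ (n + 1)) =
        (m ^ (n + 1)).map (Ideal.Quotient.mk _) :=
      Ideal.Quotient.factor_ker (Ideal.pow_le_pow_right (by omega))
    rw [this, ← Ideal.map_pow, ← pow_mul]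
    exact Ideal.map_mk_eq_bot_of_le (Ideal.pow_le_pow_right (by omega))
  let f : ∀ n, κ →ₐ[k] R ⧸ m ^ (n + 1) := fun n =>
    Nat.rec ((AlgEquiv.ofBijective q0 hq0).symm.toAlgHom.comp g)
      (fun n fn => Algebra.FormallySmooth.liftOfSurjective fn (π n)
        (Ideal.Quotient.factor_surjective (Ideal.pow_le_pow_right (by omega))) (hnil n)) n
  have hf : ∀ n, (π n).comp (f (n + 1)) = f n := fun n =>
    Algebra.FormallySmooth.comp_liftOfSurjective _ _ _ _
  have ha : StrictMono (fun n : ℕ => n + 1) := fun a b h => by simpa using h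
  let s := IsAdicComplete.StrictMono.liftRingHom m ha (fun n => (f n).toRingHom)
    (fun {n} => congrArg AlgHom.toRingHom (hf n))
  have hs : ∀ n x, Ideal.Quotient.mk (m ^ (n + 1)) (s x) = f n x := fun n x =>
    IsAdicComplete.StrictMono.mk_liftRingHom m ha _ _ (n := n) x
  refine ⟨{ s with commutes' := fun t => ?_ }, fun x => ?_⟩
  · refine sub_eq_zero.1 (IsHausdorff.haus' (I := m) _ fun n => ?_)
    rw [SModEq.zero, smul_eq_mul, Ideal.mul_top]
    refine Ideal.pow_le_pow_right (Nat.le_succ n) (Ideal.Quotient.eq.mp ?_)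
    exact (hs n (algebraMap k κ t)).trans ((f n).commutes t)
  · have h1 := hs 0 x
    have h2 : q0 (f 0 x) = g x := (AlgEquiv.ofBijective q0 hq0).apply_symm_apply (g x)
    rw [← h1] at h2
    exact h2

end Lift

section Completion

variable (A : Type u) [CommRing A] [IsLocalRing A] [IsNoetherianRing A]

local notation "Ac" => AdicCompletion (maximalIdeal A) A

theorem isNoetherianRing_completion : IsNoetherianRing Ac :=
  Groth.Calg1.isNoetherianRing_adicCompletion _ (IsNoetherian.noetherian (maximalIdeal A))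

theorem pow_maximalIdeal_eq_map (n : ℕ) :
    maximalIdeal Ac ^ n = (maximalIdeal A ^ n).map (algebraMap A Ac) := by
  rw [AdicCompletion.maximalIdeal_eq_map, Ideal.map_pow]

theorem mem_pow_of_algebraMap_mem {x : A} {n : ℕ}
    (hx : algebraMap A Ac x ∈ maximalIdeal Ac ^ n) : x ∈ maximalIdeal A ^ n := by
  have h : maximalIdeal Ac ^ n ≤ RingHom.ker (AdicCompletion.evalₐ (maximalIdeal A) n).toRingHom := by
    rw [pow_maximalIdeal_eq_map, Ideal.map_le_iff_le_comap]
    intro y hy
    rw [Ideal.mem_comap, RingHom.mem_ker]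
    show AdicCompletion.evalₐ (maximalIdeal A) n (algebraMap A Ac y) = 0
    rw [AlgHom.commutes, Ideal.Quotient.algebraMap_eq, Ideal.Quotient.eq_zero_iff_mem]
    exact hy
  have h2 := h hx
  rw [RingHom.mem_ker] at h2
  change AdicCompletion.evalₐ (maximalIdeal A) n (algebraMap A Ac x) = 0 at h2
  rw [AlgHom.commutes, Ideal.Quotient.algebraMap_eq, Ideal.Quotient.eq_zero_iff_mem] at h2
  exact h2

theorem algebraMap_completion_injective : Function.Injective (algebraMap A Ac) := by
  rw [injective_iff_map_eq_zero]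
  intro x hx
  have h : x ∈ ⨅ n, maximalIdeal A ^ n := Submodule.mem_iInf _ |>.mpr fun n =>
    mem_pow_of_algebraMap_mem A (hx ▸ zero_mem _)
  rwa [Ideal.iInf_pow_eq_bot_of_isLocalRing _ (maximalIdeal.isMaximal A).ne_top] at h

theorem exists_sub_algebraMap_mem (z : Ac) : ∃ a : A, z - algebraMap A Ac a ∈ maximalIdeal Ac := by
  obtain ⟨a, ha⟩ := Submodule.Quotient.mk_surjective _ (z.1 1)
  refine ⟨a, ?_⟩
  rw [AdicCompletion.mem_maximalIdeal_iff_eval_one_eq_zero]
  show z.1 1 - Submodule.Quotient.mk a = 0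
  rw [ha, sub_self]

theorem exists_mem_sub_algebraMap_mem_sq {z : Ac} (hz : z ∈ maximalIdeal Ac) :
    ∃ a ∈ maximalIdeal A, z - algebraMap A Ac a ∈ maximalIdeal Ac ^ 2 := by
  rw [AdicCompletion.maximalIdeal_eq_map, Ideal.map] at hz
  induction hz using Submodule.span_induction with
  | mem y hy => obtain ⟨a, ha, rfl⟩ := hy; exact ⟨a, ha, by simp⟩
  | zero => exact ⟨0, zero_mem _, by simp⟩
  | add y w _ _ h1 h2 =>
    obtain ⟨a, ha, h1⟩ := h1
    obtain ⟨b, hb, h2⟩ := h2
    refine ⟨a + b, add_mem ha hb, ?_⟩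
    rw [map_add, add_sub_add_comm]
    exact add_mem h1 h2
  | smul r y _ h1 =>
    obtain ⟨a, ha, h1⟩ := h1
    obtain ⟨s, hs⟩ := exists_sub_algebraMap_mem A r
    refine ⟨s * a, Ideal.mul_mem_left _ _ ha, ?_⟩
    have : r • y - algebraMap A Ac (s * a) =
        r * (y - algebraMap A Ac a) + (r - algebraMap A Ac s) * algebraMap A Ac a := by
      rw [smul_eq_mul, map_mul]; ring
    rw [this]
    refine add_mem (Ideal.mul_mem_left _ _ h1) ?_
    rw [sq]
    exact Ideal.mul_mem_mul hs (by
      rw [AdicCompletion.maximalIdeal_eq_map]; exact Ideal.mem_map_of_mem _ ha)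

theorem finrank_cotangent_completion :
    Module.finrank (ResidueField A) (CotangentSpace A) =
      (maximalIdeal Ac).spanFinrank := by
  rw [AdicCompletion.spanFinrank_maximalIdeal_eq, spanFinrank_maximalIdeal_eq_finrank_cotangentSpace]

end Completion

section EmbDim

variable {R : Type u} [CommRing R] [IsLocalRing R] [IsNoetherianRing R]

omit [IsNoetherianRing R] in
theorem not_le_span_of_spanFinrank (h : (maximalIdeal R).spanFinrank = 2) :
    ∀ z ∈ maximalIdeal R, ¬ maximalIdeal R ≤ Ideal.span {z} := by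
  intro z hz hle
  have he : maximalIdeal R = Submodule.span R {z} :=
    le_antisymm hle ((Ideal.span_singleton_le_iff_mem _).mpr hz)
  have h2 := Submodule.spanFinrank_span_le_ncard_of_finite (R := R) (Set.finite_singleton z)
  rw [← he, h, Set.ncard_singleton] at h2
  omega

theorem spanFinrank_eq_two {x y : R} (hxy : Ideal.span {x, y} = maximalIdeal R)
    (h : ∀ z ∈ maximalIdeal R, ¬ maximalIdeal R ≤ Ideal.span {z}) :
    (maximalIdeal R).spanFinrank = 2 := by
  have hle : (maximalIdeal R).spanFinrank ≤ 2 := by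
    have h2 := Submodule.spanFinrank_span_le_ncard_of_finite (R := R) (Set.toFinite {x, y})
    rw [show Submodule.span R {x, y} = maximalIdeal R from hxy] at h2
    exact h2.trans ((Set.ncard_insert_le _ _).trans (by simp))
  refine le_antisymm hle ?_
  by_contra hlt
  obtain ⟨s, hs, hspan⟩ := Submodule.FG.exists_span_finset_card_eq_spanFinrank
    (IsNoetherian.noetherian (maximalIdeal R))
  rcases Finset.eq_empty_or_nonempty s with rfl | ⟨z, hz⟩
  · refine h 0 (zero_mem _) ?_
    rw [← hspan, Finset.coe_empty, Submodule.span_empty]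
    exact bot_le
  · have hs1 : s = {z} := (Finset.eq_singleton_iff_unique_mem.mpr
      ⟨hz, fun w hw => Finset.card_le_one.mp (by omega) w hw z hz⟩)
    refine h z (hspan ▸ Submodule.subset_span hz) ?_
    rw [← hspan, hs1, Finset.coe_singleton]

theorem exists_nonZeroDivisor_of_isReduced [IsReduced R]
    (h : (maximalIdeal R).spanFinrank ≠ 0) :
    ∃ t ∈ maximalIdeal R, t ∈ nonZeroDivisors R := by
  by_contra hall
  push Not at hall
  have hdisj : Disjoint (maximalIdeal R : Set R) (nonZeroDivisors R : Set R) :=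
    Set.disjoint_left.mpr fun t ht ht' => hall t ht ht'
  obtain ⟨z, hz, hz0⟩ := Submodule.exists_mem_ne_zero_of_ne_bot
    (Ideal.bot_lt_annihilator_of_disjoint_nonZeroDivisors hdisj).ne'
  have hzm : ∀ t ∈ maximalIdeal R, z * t = 0 := fun t ht => by
    have := Module.mem_annihilator.mp hz ⟨t, ht⟩
    exact congrArg Subtype.val this
  by_cases hzu : z ∈ maximalIdeal R
  · exact hz0 (IsReduced.eq_zero z ⟨2, by rw [sq]; exact hzm z hzu⟩)
  · refine h ?_
    have : maximalIdeal R = ⊥ := eq_bot_iff.mpr fun t ht =>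
      (IsUnit.mul_right_eq_zero (by rwa [mem_maximalIdeal, mem_nonunits_iff, not_not] at hzu)).mp
        (hzm t ht)
    rw [this, Submodule.spanFinrank_bot]

end EmbDim

theorem quadVal_sub_mem {R : Type u} [CommRing R] [IsLocalRing R] {x y x' y' a b c a' b' c' : R}
    (hxm : x ∈ maximalIdeal R) (hym : y ∈ maximalIdeal R)
    (hxm' : x' ∈ maximalIdeal R) (hym' : y' ∈ maximalIdeal R)
    (hx : x' - x ∈ maximalIdeal R ^ 2) (hy : y' - y ∈ maximalIdeal R ^ 2)
    (ha : a' - a ∈ maximalIdeal R) (hb : b' - b ∈ maximalIdeal R) (hc : c' - c ∈ maximalIdeal R) :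
    (a' * x' ^ 2 + b' * x' * y' + c' * y' ^ 2) - (a * x ^ 2 + b * x * y + c * y ^ 2) ∈
      maximalIdeal R ^ 3 := by
  set m := maximalIdeal R
  have e : (a' * x' ^ 2 + b' * x' * y' + c' * y' ^ 2) - (a * x ^ 2 + b * x * y + c * y ^ 2) =
      (a' - a) * (x' * x') + (b' - b) * (x' * y') + (c' - c) * (y' * y') +
      a * ((x' - x) * (x' + x)) + b * ((x' - x) * y') + b * ((y' - y) * x) +
      c * ((y' - y) * (y' + y)) := by ring
  rw [e]
  have h3 : m * (m * m) ≤ m ^ 3 := le_of_eq (by ring)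
  have h21 : m ^ 2 * m ≤ m ^ 3 := le_of_eq (by ring)
  refine add_mem (add_mem (add_mem (add_mem (add_mem (add_mem ?_ ?_) ?_) ?_) ?_) ?_) ?_
  · exact h3 (Ideal.mul_mem_mul ha (Ideal.mul_mem_mul hxm' hxm'))
  · exact h3 (Ideal.mul_mem_mul hb (Ideal.mul_mem_mul hxm' hym'))
  · exact h3 (Ideal.mul_mem_mul hc (Ideal.mul_mem_mul hym' hym'))
  · exact Ideal.mul_mem_left _ _ (h21 (Ideal.mul_mem_mul hx (add_mem hxm' hxm)))
  · exact Ideal.mul_mem_left _ _ (h21 (Ideal.mul_mem_mul hx hym'))
  · exact Ideal.mul_mem_left _ _ (h21 (Ideal.mul_mem_mul hy hxm))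
  · exact Ideal.mul_mem_left _ _ (h21 (Ideal.mul_mem_mul hy (add_mem hym' hym)))

end Groth.Curves1.Node
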