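import Mathlib
import Groth.Agent.Curves1.Node.Completion

/-!
# The algebraic criterion for a quadric completion
-/

namespace Groth.Curves1.Node

open IsLocalRing

universe u v w

/-- The algebraic criterion: `m = (x, y)` is not principal and a nondegenerate quadratic form in
`x, y` lies in `m³`. -/
def IsQuadraticCriterion (A : Type u) [CommRing A] [IsLocalRing A] : Prop :=
  (∀ z ∈ maximalIdeal A, ¬ maximalIdeal A ≤ Ideal.span {z}) ∧
  ∃ x y a b c : A, Ideal.span {x, y} = maximalIdeal A ∧ residue A (4 * a * c - b ^ 2) ≠ 0 ∧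
    a * x ^ 2 + b * x * y + c * y ^ 2 ∈ maximalIdeal A ^ 3

variable {A : Type u} [CommRing A] [IsLocalRing A] [IsNoetherianRing A]

local notation "Ac" => AdicCompletion (maximalIdeal A) A

/-- If the completion is a nondegenerate quadric over some field then the criterion holds and the
ring is reduced. -/
theorem criterion_of_equiv {κ : Type v} [Field κ] {a b c : κ} (hD : 4 * a * c - b ^ 2 ≠ 0)
    (e : Ac ≃+* Quadric a b c) : IsReduced A ∧ IsQuadraticCriterion A := by
  classical
  let R := AdicCompletion (maximalIdeal A) A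
  let ι : A →+* R := algebraMap A R
  have hred : IsReduced A := by
    have := quadric_isReduced' hD
    exact isReduced_of_injective (e.toRingHom.comp ι)
      (e.injective.comp (algebraMap_completion_injective A))
  have hmem : ∀ z, z ∈ maximalIdeal R ↔ e z ∈ maximalIdeal (Quadric a b c) := by
    intro z
    rw [mem_maximalIdeal, mem_maximalIdeal, mem_nonunits_iff, mem_nonunits_iff]
    exact not_congr ⟨fun h => h.map e, fun h => by simpa using h.map e.symm⟩
  set q := Ideal.Quotient.mk (Ideal.span {quad a b c})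
  set u₁ := e.symm (q (MvPowerSeries.X 0))
  set v₁ := e.symm (q (MvPowerSeries.X 1))
  have hspanR : Ideal.span {u₁, v₁} = maximalIdeal R := by
    ext z
    rw [hmem, ← quadric_maximalIdeal, Ideal.mem_span_pair, Ideal.mem_span_pair]
    constructor
    · rintro ⟨α, β, rfl⟩; exact ⟨e α, e β, by simp [u₁, v₁, q]⟩
    · rintro ⟨α, β, h⟩; exact ⟨e.symm α, e.symm β, e.injective (by simp [u₁, v₁, q, h])⟩
  have hu₁ : u₁ ∈ maximalIdeal R := hspanR ▸ Ideal.subset_span (Set.mem_insert _ _)
  have hv₁ : v₁ ∈ maximalIdeal R := hspanR ▸ Ideal.subset_span (Set.mem_insert_of_mem _ rfl)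
  obtain ⟨x, hx, hx2⟩ := exists_mem_sub_algebraMap_mem_sq A hu₁
  obtain ⟨y, hy, hy2⟩ := exists_mem_sub_algebraMap_mem_sq A hv₁
  have hιm : ∀ z ∈ maximalIdeal A, ι z ∈ maximalIdeal R := fun z hz => by
    rw [AdicCompletion.maximalIdeal_eq_map]; exact Ideal.mem_map_of_mem _ hz
  have hxy : Ideal.span {x, y} = maximalIdeal A := by
    refine le_antisymm (Ideal.span_le.mpr (by rintro z (rfl | rfl); exacts [hx, hy])) ?_
    refine Submodule.le_of_le_smul_of_le_jacobson_bot (IsNoetherian.noetherian _)
      (maximalIdeal_le_jacobson ⊥) fun z hz => ?_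
    have hz' := hιm z hz
    rw [← hspanR] at hz'
    obtain ⟨α, β, hαβ⟩ := Ideal.mem_span_pair.mp hz'
    obtain ⟨α', hα'⟩ := exists_sub_algebraMap_mem A α
    obtain ⟨β', hβ'⟩ := exists_sub_algebraMap_mem A β
    have h2 : z - (α' * x + β' * y) ∈ maximalIdeal A ^ 2 := by
      refine mem_pow_of_algebraMap_mem A ?_
      have : ι (z - (α' * x + β' * y)) = (α - ι α') * u₁ + ι α' * (u₁ - ι x) +
          ((β - ι β') * v₁ + ι β' * (v₁ - ι y)) := by
        simp only [map_sub, map_add, map_mul]
        rw [← hαβ]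
        ring
      show ι _ ∈ _
      rw [this]
      refine add_mem (add_mem ?_ (Ideal.mul_mem_left _ _ hx2))
        (add_mem ?_ (Ideal.mul_mem_left _ _ hy2)) <;> rw [sq]
      · exact Ideal.mul_mem_mul hα' hu₁
      · exact Ideal.mul_mem_mul hβ' hv₁
    rw [← add_sub_cancel (α' * x + β' * y) z, smul_eq_mul, ← sq]
    exact Submodule.add_mem_sup (Ideal.mem_span_pair.mpr ⟨α', β', rfl⟩) h2
  refine ⟨hred, fun z hz hle => ?_, ?_⟩
  · refine quadric_maximalIdeal_not_le_span a b c (e (ι z)) ((hmem _).mp (hιm z hz)) fun w hw => ?_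
    have hle' : maximalIdeal R ≤ Ideal.span {ι z} := by
      rw [AdicCompletion.maximalIdeal_eq_map, ← Set.image_singleton, ← Ideal.map_span]
      exact Ideal.map_mono hle
    obtain ⟨α, hα⟩ := Ideal.mem_span_singleton'.mp
      (hle' ((hmem (e.symm w)).mpr (by simpa using hw)))
    exact Ideal.mem_span_singleton'.mpr ⟨e α, by rw [← map_mul, hα, e.apply_symm_apply]⟩
  let σ : κ →+* R := e.symm.toRingHom.comp (q.comp MvPowerSeries.C)
  obtain ⟨aA, haA⟩ := exists_sub_algebraMap_mem A (σ a)
  obtain ⟨bA, hbA⟩ := exists_sub_algebraMap_mem A (σ b)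
  obtain ⟨cA, hcA⟩ := exists_sub_algebraMap_mem A (σ c)
  refine ⟨x, y, aA, bA, cA, hxy, ?_, ?_⟩
  · intro h0
    rw [residue_eq_zero_iff] at h0
    have h1 := hιm _ h0
    rw [← residue_eq_zero_iff] at haA hbA hcA h1
    rw [map_sub, sub_eq_zero] at haA hbA hcA
    have h2 : residue R (σ (4 * a * c - b ^ 2)) = 0 := by
      rw [← h1]
      simp only [map_sub, map_mul, map_pow, map_ofNat, haA, hbA, hcA, ι, R]
    rw [residue_eq_zero_iff] at h2
    exact (mem_maximalIdeal _).mp h2 ((Ne.isUnit hD).map σ)
  · refine mem_pow_of_algebraMap_mem A ?_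
    have h1 := quadVal_sub_mem (hιm x hx) (hιm y hy) hu₁ hv₁ hx2 hy2 haA hbA hcA
    have h2 : σ a * u₁ ^ 2 + σ b * u₁ * v₁ + σ c * v₁ ^ 2 = 0 := by
      have h3 := congrArg e.symm (quadric_sum_eq_zero a b c)
      rw [map_zero] at h3
      rw [← h3]
      simp [quadVal, σ, u₁, v₁, q, MvPowerSeries.algebraMap_apply, ← Ideal.Quotient.mk_algebraMap]
    rw [h2, zero_sub, neg_mem_iff] at h1
    simpa only [map_add, map_mul, map_pow, ι, R] using h1

/-- The criterion and a nonzerodivisor in the maximal ideal give a quadric completion, over any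
field formally smooth over `k` mapping isomorphically onto the residue field. -/
theorem equiv_of_criterion {k : Type v} [CommRing k] [Algebra k A] {κ : Type u} [Field κ]
    [Algebra k κ] [Algebra.FormallySmooth k κ] (j : κ ≃ₐ[k] ResidueField A)
    (hA : IsQuadraticCriterion A) {t : A} (ht : t ∈ maximalIdeal A) (ht' : t ∈ nonZeroDivisors A) :
    ∃ a b c : κ, 4 * a * c - b ^ 2 ≠ 0 ∧ ∃ e : Ac ≃+* Quadric a b c,
      ∀ s : k, e (algebraMap A Ac (algebraMap k A s)) =
        Ideal.Quotient.mk _ (MvPowerSeries.C (algebraMap k κ s)) := by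
  classical
  obtain ⟨hnp, x, y, a, b, c, hxy, hD, hQ⟩ := hA
  let R := AdicCompletion (maximalIdeal A) A
  let ι : A →+* R := algebraMap A R
  have : IsNoetherianRing R := isNoetherianRing_completion A
  refine ⟨j.symm (residue A a), j.symm (residue A b), j.symm (residue A c), ?_, ?_⟩
  · intro h0
    apply hD
    have h1 := congrArg j h0
    simpa [map_ofNat] using h1
  let g : κ →ₐ[k] ResidueField R :=
    { (ResidueField.map ι).comp (j : κ →+* ResidueField A) with
      commutes' := fun t => by
        show ResidueField.map ι (j (algebraMap k κ t)) = _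
        rw [AlgEquiv.commutes]
        rfl }
  obtain ⟨s, hs⟩ := exists_lift_residue g
  let := s.toRingHom.toAlgebra
  have hres : Function.Surjective ((residue R).comp (algebraMap κ R)) := by
    intro z
    obtain ⟨z, rfl⟩ := residue_surjective z
    obtain ⟨a', ha'⟩ := exists_sub_algebraMap_mem A z
    refine ⟨j.symm (residue A a'), ?_⟩
    show residue R (s (j.symm (residue A a'))) = _
    rw [hs]
    show ResidueField.map ι (j (j.symm (residue A a'))) = _
    rw [AlgEquiv.apply_symm_apply]
    show residue R (ι a') = _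
    rw [eq_comm, ← sub_eq_zero, ← map_sub, residue_eq_zero_iff]
    exact ha'
  have hsub : ∀ t : A, algebraMap κ R (j.symm (residue A t)) - ι t ∈ maximalIdeal R := by
    intro t
    rw [← residue_eq_zero_iff, map_sub]
    show residue R (s (j.symm (residue A t))) - _ = 0
    rw [hs]
    show ResidueField.map ι (j (j.symm (residue A t))) - _ = 0
    rw [AlgEquiv.apply_symm_apply, sub_eq_zero]
    rfl
  have hxyR : Ideal.span {ι x, ι y} = maximalIdeal R := by
    have := congrArg (Ideal.map ι) hxy
    rw [Ideal.map_span, Set.image_pair] at this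
    exact this.trans AdicCompletion.maximalIdeal_eq_map.symm
  have hιm : ∀ z ∈ maximalIdeal A, ι z ∈ maximalIdeal R := fun z hz => by
    rw [AdicCompletion.maximalIdeal_eq_map]; exact Ideal.mem_map_of_mem _ hz
  have htR : ι t ∈ nonZeroDivisors R := by
    have hreg : IsSMulRegular A t := fun u v huv => sub_eq_zero.mp
      ((mem_nonZeroDivisors_iff_left.mp ht') _ (by rw [mul_sub]; exact sub_eq_zero.mpr huv))
    have h2 := IsSMulRegular.of_flat (S := R) hreg
    rw [mem_nonZeroDivisors_iff_left]
    intro u hu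
    exact h2 (show ι t * u = ι t * 0 by rw [hu, mul_zero])
  have hnpR : ∀ z ∈ maximalIdeal R, ¬ maximalIdeal R ≤ Ideal.span {z} := by
    refine not_le_span_of_spanFinrank ?_
    show (maximalIdeal (AdicCompletion (maximalIdeal A) A)).spanFinrank = 2
    rw [AdicCompletion.spanFinrank_maximalIdeal_eq]
    exact spanFinrank_eq_two hxy hnp
  have hxm : x ∈ maximalIdeal A := hxy ▸ Ideal.subset_span (Set.mem_insert _ _)
  have hym : y ∈ maximalIdeal A := hxy ▸ Ideal.subset_span (Set.mem_insert_of_mem _ rfl)
  have hQR : quadVal (j.symm (residue A a)) (j.symm (residue A b)) (j.symm (residue A c)) (ι x) (ι y) ∈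
      maximalIdeal R ^ 3 := by
    have h1 := quadVal_sub_mem (hιm x hxm) (hιm y hym) (hιm x hxm) (hιm y hym) (by simp) (by simp)
      (hsub a) (hsub b) (hsub c)
    have h2 : ι (a * x ^ 2 + b * x * y + c * y ^ 2) ∈ maximalIdeal R ^ 3 := by
      rw [pow_maximalIdeal_eq_map]
      exact Ideal.mem_map_of_mem _ hQ
    have h3 := add_mem h1 h2
    simpa [quadVal] using h3
  have hD' : 4 * j.symm (residue A a) * j.symm (residue A c) - j.symm (residue A b) ^ 2 ≠ 0 := by
    intro h0
    apply hD
    have h1 := congrArg j h0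
    simpa [map_ofNat] using h1
  obtain ⟨e⟩ := nonempty_equiv_quadric hres hnpR (hιm t ht) htR hxyR hD' hQR
  refine ⟨e.toRingEquiv, fun t' => ?_⟩
  have h4 : ι (algebraMap k A t') = algebraMap κ R (algebraMap k κ t') := (s.commutes t').symm
  show e (ι (algebraMap k A t')) = _
  rw [h4, AlgEquiv.commutes]
  rfl

/-- Over an algebraically closed field all nondegenerate quadrics are `u v = 0`. -/
theorem nonempty_equiv_uv {K : Type u} [Field K] [IsAlgClosed K] {a b c : K}
    (hD : 4 * a * c - b ^ 2 ≠ 0) :
    Nonempty (Quadric a b c ≃ₐ[K]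
      (MvPowerSeries (Fin 2) K ⧸ Ideal.span {(MvPowerSeries.X 0 * MvPowerSeries.X 1 : MvPowerSeries (Fin 2) K)})) := by
  obtain ⟨a, b, c, ha, hD, ⟨e⟩, -⟩ := exists_normal.{u, u} hD
  obtain ⟨r, hr⟩ := IsAlgClosed.exists_root
    (Polynomial.C (1 : K) * Polynomial.X ^ 2 + Polynomial.C (-(b / a)) * Polynomial.X + Polynomial.C (c / a))
    (by rw [Polynomial.degree_quadratic one_ne_zero]; norm_num)
  replace hr : r ^ 2 - b / a * r + c / a = 0 := by
    simp [Polynomial.IsRoot] at hr
    linear_combination hr
  have hne : b / a - r - r ≠ 0 := fun h => two_mul_sub_ne_zero ha hD hr (by linear_combination -h)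
  set r' := b / a - r
  set ε := (r' - r)⁻¹
  have hε : ε * (r' - r) = 1 := inv_mul_cancel₀ hne
  have hX : ∀ i, (MvPowerSeries.X i : MvPowerSeries (Fin 2) K) ∈ Groth.SGA7.PS.varIdeal (Fin 2) K :=
    fun i => Groth.SGA7.PS.X_mem i
  have hu := Ideal.mul_mem_left _ (MvPowerSeries.C ε)
    (sub_mem (Ideal.mul_mem_left _ (MvPowerSeries.C r') (hX 0)) (Ideal.mul_mem_left _ (MvPowerSeries.C r) (hX 1)))
  have hv := Ideal.mul_mem_left _ (MvPowerSeries.C ε) (sub_mem (hX 1) (hX 0))
  have hl := add_mem (hX 0) (Ideal.mul_mem_left _ (MvPowerSeries.C r) (hX 1))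
  have hl' := add_mem (hX 0) (Ideal.mul_mem_left _ (MvPowerSeries.C r') (hX 1))
  set f := substPair _ _ hu hv
  set g := substPair _ _ hl hl'
  have hCf : ∀ t, f (MvPowerSeries.C t) = MvPowerSeries.C t := fun t => f.commutes t
  have hCg : ∀ t, g (MvPowerSeries.C t) = MvPowerSeries.C t := fun t => g.commutes t
  have hεC : (MvPowerSeries.C ε : MvPowerSeries (Fin 2) K) * (MvPowerSeries.C r' - MvPowerSeries.C r) = 1 := by
    rw [← map_sub, ← map_mul, hε, map_one]
  obtain ⟨φ⟩ := exists_equiv_of_linear (a := a) (b := b) (c := c) (a' := 0) (b' := a) (c' := 0) f g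
    (Fin.forall_fin_two.mpr ⟨by simp only [f, substPair_X_zero]; exact hu,
      by simp only [f, substPair_X_one]; exact hv⟩)
    (Fin.forall_fin_two.mpr ⟨by simp only [g, substPair_X_zero]; exact hl,
      by simp only [g, substPair_X_one]; exact hl'⟩)
    (by
      intro i
      fin_cases i
      · show f (g (MvPowerSeries.X 0)) = MvPowerSeries.X 0
        simp only [g, substPair_X_zero, map_add, map_mul, hCf]
        simp only [f, substPair_X_zero, substPair_X_one]
        linear_combination MvPowerSeries.X 0 * hεC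
      · show f (g (MvPowerSeries.X 1)) = MvPowerSeries.X 1
        simp only [g, substPair_X_one, map_add, map_mul, hCf]
        simp only [f, substPair_X_zero, substPair_X_one]
        linear_combination MvPowerSeries.X 1 * hεC)
    (by
      intro i
      fin_cases i
      · show g (f (MvPowerSeries.X 0)) = MvPowerSeries.X 0
        simp only [f, substPair_X_zero, map_sub, map_mul, hCg]
        simp only [g, substPair_X_zero, substPair_X_one]
        linear_combination MvPowerSeries.X 0 * hεC
      · show g (f (MvPowerSeries.X 1)) = MvPowerSeries.X 1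
        simp only [f, substPair_X_one, map_sub, map_mul, hCg]
        simp only [g, substPair_X_zero, substPair_X_one]
        linear_combination MvPowerSeries.X 1 * hεC)
    (by
      have hb : b = a * (r + r') := by simp only [r']; field_simp; ring
      have hc : c = a * (r * r') := by
        have : c / a = r * r' := by simp only [r']; linear_combination hr
        rw [← this, mul_div_cancel₀ _ ha]
      rw [map_quad]
      simp only [f, substPair_X_zero, substPair_X_one, quadVal, quad, MvPowerSeries.algebraMap_apply,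
        Algebra.algebraMap_self, RingHom.id_apply, hb, hc, map_mul, map_add, map_zero]
      linear_combination MvPowerSeries.C a * MvPowerSeries.X 0 * MvPowerSeries.X 1 *
        (MvPowerSeries.C ε * (MvPowerSeries.C r' - MvPowerSeries.C r) + 1) * hεC)
  refine ⟨(e.trans φ).trans (Ideal.quotientEquivAlgOfEq K ?_)⟩
  rw [show quad 0 a 0 = MvPowerSeries.C a * (MvPowerSeries.X 0 * MvPowerSeries.X 1 : MvPowerSeries (Fin 2) K) by
    simp [quad]; ring]
  exact Ideal.span_singleton_mul_left_unit ((Ne.isUnit ha).map _) _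

end Groth.Curves1.Node
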