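import Mathlib

/-!
# Presentations of a local ring and of the local ring at a geometric point over it
-/

namespace Groth.Curves1.Node

open IsLocalRing MvPolynomial

universe u

section Taylor

variable {K : Type u} [CommRing K] {σ : Type*} [Fintype σ] [DecidableEq σ]

/-- The differential of a polynomial at a point. -/
noncomputable def dv (p : σ → K) : MvPolynomial σ K →ₗ[K] σ → K :=
  LinearMap.pi fun j => (aeval p).toLinearMap.comp (pderiv j).toLinearMap

omit [Fintype σ] [DecidableEq σ] in
theorem dv_apply (p : σ → K) (q : MvPolynomial σ K) (j : σ) : dv p q j = eval p (pderiv j q) := by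
  simp [dv, aeval_eq_eval]

omit [Fintype σ] [DecidableEq σ] in
theorem dv_mul (p : σ → K) (q r : MvPolynomial σ K) :
    dv p (q * r) = eval p q • dv p r + eval p r • dv p q := by
  ext j
  simp [dv_apply]

omit [Fintype σ] in
theorem dv_X_sub_C (p : σ → K) (j : σ) (c : K) : dv p (X j - C c) = Pi.single j 1 := by
  ext i
  rw [dv_apply, map_sub, pderiv_C, sub_zero, pderiv_X]
  by_cases h : i = j <;> simp [h]

/-- First order Taylor expansion at a point. -/
theorem taylor_mem (p : σ → K) (q : MvPolynomial σ K) :
    q - C (eval p q) - ∑ j, C (eval p (pderiv j q)) * (X j - C (p j)) ∈ RingHom.ker (eval p) ^ 2 := by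
  induction q using MvPolynomial.induction_on with
  | C r => simp
  | add q r hq hr =>
    convert add_mem hq hr using 1
    simp only [map_add, add_mul, Finset.sum_add_distrib]
    ring
  | mul_X q i hq =>
    have hS : ∑ j, C (eval p (pderiv j (q * X i))) * (X j - C (p j)) =
        (∑ j, C (eval p (pderiv j q)) * (X j - C (p j))) * C (p i) +
          C (eval p q) * (X i - C (p i)) := by
      simp only [pderiv_mul, pderiv_X, map_add, map_mul, eval_X, add_mul, Finset.sum_add_distrib,
        Finset.sum_mul]
      congr 1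
      · exact Finset.sum_congr rfl fun j _ => by ring
      · rw [Finset.sum_eq_single i]
        · simp
        · intro j _ hj
          simp [Ne.symm hj]
        · simp
    have h2 : (∑ j, C (eval p (pderiv j q)) * (X j - C (p j))) * (X i - C (p i)) ∈
        RingHom.ker (eval p) ^ 2 := by
      rw [sq]
      exact Ideal.mul_mem_mul (sum_mem fun j _ => Ideal.mul_mem_left _ _ (by simp [RingHom.mem_ker]))
        (by simp [RingHom.mem_ker])
    convert add_mem (Ideal.mul_mem_right (X i) _ hq) h2 using 1
    rw [hS, map_mul, eval_X, map_mul]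
    ring

omit [Fintype σ] [DecidableEq σ] in
theorem pderiv_mem_pow (p : σ → K) (j : σ) (n : ℕ) {q : MvPolynomial σ K}
    (hq : q ∈ RingHom.ker (eval p) ^ (n + 1)) : pderiv j q ∈ RingHom.ker (eval p) ^ n := by
  induction n generalizing q with
  | zero => simp
  | succ n ih =>
    rw [pow_succ _ (n + 1)] at hq
    refine Submodule.mul_induction_on hq (fun a ha b hb => ?_) fun a b ha hb => ?_
    · rw [pderiv_mul]
      refine add_mem ?_ (Ideal.mul_mem_right _ _ ha)
      rw [pow_succ]
      exact Ideal.mul_mem_mul (ih ha) hb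
    · rw [map_add]; exact add_mem ha hb

/-- An element vanishing to first order lies in the square of the ideal of the point. -/
theorem mem_sq_of_dv_eq_zero (p : σ → K) {q : MvPolynomial σ K} (h0 : eval p q = 0)
    (h1 : dv p q = 0) : q ∈ RingHom.ker (eval p) ^ 2 := by
  have h := taylor_mem p q
  simp_rw [← dv_apply, h1] at h
  simpa [h0] using h

omit [Fintype σ] [DecidableEq σ] in
theorem dv_eq_zero_of_mem_sq (p : σ → K) {q : MvPolynomial σ K}
    (h : q ∈ RingHom.ker (eval p) ^ 2) : dv p q = 0 := by
  ext j
  have := pderiv_mem_pow p j 1 h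
  rw [pow_one, RingHom.mem_ker] at this
  simpa [dv_apply] using this

end Taylor

/-- A finitely generated field extension without nonzero derivations is separable. -/
theorem isSeparable_of_derivation_eq_zero {k E : Type u} [Field k] [Field E] [Algebra k E]
    [Algebra.EssFiniteType k E] (h : ∀ D : Derivation k E E, D = 0) : Algebra.IsSeparable k E := by
  have : Algebra.FormallyUnramified k E := by
    refine ⟨?_⟩
    by_contra hne
    rw [not_subsingleton_iff_nontrivial] at hne
    obtain ⟨ω, hω⟩ := exists_ne (0 : Ω[E⁄k])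
    obtain ⟨l, hl⟩ := Module.Projective.exists_dual_ne_zero E hω
    have h1 : l.compDer (KaehlerDifferential.D k E) = 0 := h _
    have h2 : l = 0 := Derivation.liftKaehlerDifferential_unique _ _ (by
      rw [h1]; ext x; simp)
    exact hl (by rw [h2]; rfl)
  exact Algebra.FormallyUnramified.isSeparable k E

/-- A derivation of a field generated by a set on which it vanishes is zero. -/
theorem derivation_eq_zero_of_adjoin {k K : Type u} [Field k] [Field K] [Algebra k K] {s : Set K}
    (D : Derivation k (IntermediateField.adjoin k s) (IntermediateField.adjoin k s))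
    (h : ∀ (x : K) (hx : x ∈ s), D ⟨x, IntermediateField.subset_adjoin k s hx⟩ = 0) : D = 0 := by
  refine Derivation.ext fun e => ?_
  obtain ⟨x, hx⟩ := e
  show D ⟨x, hx⟩ = 0
  induction hx using IntermediateField.adjoin_induction with
  | mem y hy => exact h y hy
  | algebraMap r => exact Derivation.map_algebraMap D r
  | add a b ha hb h1 h2 =>
    show D (⟨a, ha⟩ + ⟨b, hb⟩ : IntermediateField.adjoin k s) = 0
    rw [map_add, h1, h2, add_zero]
  | inv a ha h1 =>
    show D ((⟨a, ha⟩ : IntermediateField.adjoin k s)⁻¹) = 0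
    rw [Derivation.leibniz_inv, h1, smul_zero]
  | mul a b ha hb h1 h2 =>
    show D (⟨a, ha⟩ * ⟨b, hb⟩ : IntermediateField.adjoin k s) = 0
    rw [Derivation.leibniz, h1, h2, smul_zero, smul_zero, add_zero]

/-- A presentation of a local `k`-algebra `A` and of a local `K`-algebra `A'` over it, which is the
localisation of `A ⊗ K` at the `K`-point `p`. -/
structure IsPointPresentation {k K : Type u} [Field k] [Field K] [Algebra k K] {A A' : Type u}
    [CommRing A] [IsLocalRing A] [Algebra k A] [CommRing A'] [IsLocalRing A'] [Algebra K A'] {N : ℕ}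
    (φ : A →+* A') (π : MvPolynomial (Fin N) k →ₐ[k] A) (π' : MvPolynomial (Fin N) K →ₐ[K] A')
    (p : Fin N → K) : Prop where
  isLocalHom : IsLocalHom φ
  flat : φ.Flat
  comm : ∀ q, φ (π q) = π' (map (algebraMap k K) q)
  frac : ∀ a, ∃ b c, IsUnit (π b) ∧ a * π b = π c
  frac' : ∀ a, ∃ b c, IsUnit (π' b) ∧ a * π' b = π' c
  isUnit_iff : ∀ q, IsUnit (π' q) ↔ eval p q ≠ 0
  ker : ∀ q, π' q = 0 →
    ∃ s, eval p s ≠ 0 ∧ s * q ∈ (RingHom.ker π).map (map (algebraMap k K))

namespace IsPointPresentation

variable {k K : Type u} [Field k] [Field K] [Algebra k K] {A A' : Type u}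
  [CommRing A] [IsLocalRing A] [Algebra k A] [CommRing A'] [IsLocalRing A'] [Algebra K A'] {N : ℕ}
  {φ : A →+* A'} {π : MvPolynomial (Fin N) k →ₐ[k] A} {π' : MvPolynomial (Fin N) K →ₐ[K] A'}
  {p : Fin N → K} (h : IsPointPresentation φ π π' p)

/-- The prime of `k[z]` under the point. -/
noncomputable def primeBelow (_ : IsPointPresentation φ π π' p) : Ideal (MvPolynomial (Fin N) k) :=
  (RingHom.ker (eval p)).comap (map (algebraMap k K))

/-- The span of the differentials at the point of the relations. -/
noncomputable def relDiff (_ : IsPointPresentation φ π π' p) : Submodule K (Fin N → K) :=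
  Submodule.span K ((fun g => dv p (map (algebraMap k K) g)) '' (RingHom.ker π : Set _))

include h

theorem mem_maximalIdeal'_iff (q : MvPolynomial (Fin N) K) :
    π' q ∈ maximalIdeal A' ↔ eval p q = 0 := by
  rw [mem_maximalIdeal, mem_nonunits_iff, h.isUnit_iff, not_not]

theorem isUnit_pi_iff (q : MvPolynomial (Fin N) k) :
    IsUnit (π q) ↔ eval p (map (algebraMap k K) q) ≠ 0 := by
  rw [← h.isUnit_iff, ← h.comm]
  exact ⟨fun hu => hu.map φ, fun hu => h.isLocalHom.map_nonunit _ hu⟩

theorem map_ker_eq_zero {g : MvPolynomial (Fin N) k} (hg : g ∈ RingHom.ker π) :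
    π' (map (algebraMap k K) g) = 0 := by
  rw [← h.comm, RingHom.mem_ker.mp hg, map_zero]

theorem eval_ker_eq_zero {g : MvPolynomial (Fin N) k} (hg : g ∈ RingHom.ker π) :
    eval p (map (algebraMap k K) g) = 0 := by
  rw [← h.mem_maximalIdeal'_iff, h.map_ker_eq_zero hg]
  exact zero_mem _

theorem map_ker_le : (RingHom.ker π).map (map (algebraMap k K)) ≤
    (h.primeBelow).map (map (algebraMap k K)) :=
  Ideal.map_mono fun g hg => by
    rw [primeBelow, Ideal.mem_comap, RingHom.mem_ker]
    exact h.eval_ker_eq_zero hg

theorem map_primeBelow_le : (h.primeBelow).map (map (algebraMap k K)) ≤ RingHom.ker (eval p) :=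
  Ideal.map_comap_le

theorem maximalIdeal_eq : maximalIdeal A = (h.primeBelow).map π := by
  refine le_antisymm (fun a ha => ?_) (Ideal.map_le_iff_le_comap.mpr fun q hq => ?_)
  · obtain ⟨b, c, hb, hbc⟩ := h.frac a
    have hc : c ∈ h.primeBelow := by
      rw [primeBelow, Ideal.mem_comap, RingHom.mem_ker]
      by_contra h0
      have hu := (h.isUnit_pi_iff c).mpr h0
      rw [← hbc] at hu
      exact (mem_maximalIdeal _).mp ha (isUnit_of_mul_isUnit_left hu)
    rw [← Ideal.mul_unit_mem_iff_mem _ hb, hbc]
    exact Ideal.mem_map_of_mem _ hc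
  · rw [Ideal.mem_comap, mem_maximalIdeal, mem_nonunits_iff, h.isUnit_pi_iff, not_not]
    exact hq

theorem maximalIdeal'_eq : maximalIdeal A' = (RingHom.ker (eval p)).map π' := by
  refine le_antisymm (fun a ha => ?_) (Ideal.map_le_iff_le_comap.mpr fun q hq => ?_)
  · obtain ⟨b, c, hb, hbc⟩ := h.frac' a
    have hc : c ∈ RingHom.ker (eval p) := by
      rw [RingHom.mem_ker]
      by_contra h0
      have hu := (h.isUnit_iff c).mpr h0
      rw [← hbc] at hu
      exact (mem_maximalIdeal _).mp ha (isUnit_of_mul_isUnit_left hu)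
    rw [← Ideal.mul_unit_mem_iff_mem _ hb, hbc]
    exact Ideal.mem_map_of_mem _ hc
  · rw [Ideal.mem_comap, h.mem_maximalIdeal'_iff]
    exact hq

theorem map_maximalIdeal_eq :
    (maximalIdeal A).map φ = ((h.primeBelow).map (map (algebraMap k K))).map π' := by
  rw [h.maximalIdeal_eq, ← Ideal.map_coe π, Ideal.map_map, ← Ideal.map_coe π', Ideal.map_map]
  congr 1
  exact RingHom.ext h.comm

/-- Elements of an extended ideal are fractions with numerator in the ideal. -/
theorem exists_of_mem_map {J : Ideal (MvPolynomial (Fin N) K)} {a : A'} (ha : a ∈ J.map π') :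
    ∃ b c, eval p b ≠ 0 ∧ c ∈ J ∧ a * π' b = π' c := by
  rw [Ideal.map] at ha
  induction ha using Submodule.span_induction with
  | mem y hy => obtain ⟨c, hc, rfl⟩ := hy; exact ⟨1, c, by simp, hc, by simp⟩
  | zero => exact ⟨1, 0, by simp, zero_mem _, by simp⟩
  | add x y _ _ hx hy =>
    obtain ⟨b, c, hb, hc, hbc⟩ := hx
    obtain ⟨b', c', hb', hc', hbc'⟩ := hy
    refine ⟨b * b', c * b' + c' * b, by simp [hb, hb'], add_mem (J.mul_mem_right _ hc) (J.mul_mem_right _ hc'), ?_⟩
    rw [map_add, map_mul, map_mul, map_mul, ← hbc, ← hbc']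
    ring
  | smul r x _ hx =>
    obtain ⟨b, c, hb, hc, hbc⟩ := hx
    obtain ⟨b', c', hb', hbc'⟩ := h.frac' r
    refine ⟨b' * b, c' * c, ?_, J.mul_mem_left _ hc, ?_⟩
    · rw [map_mul]; exact mul_ne_zero ((h.isUnit_iff _).mp hb') hb
    · rw [smul_eq_mul, map_mul, map_mul, ← hbc, ← hbc']
      ring

theorem exists_sub_algebraMap_mem (a : A') : ∃ c : K, a - algebraMap K A' c ∈ maximalIdeal A' := by
  obtain ⟨b, c, hb, hbc⟩ := h.frac' a
  have hb0 := (h.isUnit_iff b).mp hb
  refine ⟨eval p c / eval p b, ?_⟩
  have hC : π' (C (eval p c / eval p b)) = algebraMap K A' (eval p c / eval p b) := π'.commutes _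
  rw [← Ideal.mul_unit_mem_iff_mem _ hb, sub_mul, hbc, ← hC, ← map_mul, ← map_sub,
    h.mem_maximalIdeal'_iff]
  simp [hb0]

/-- Congruence of an element of `A'` to the image of a polynomial modulo `n²`. -/
theorem exists_pi_sub_mem_sq {a : A'} (ha : a ∈ maximalIdeal A') :
    ∃ l, eval p l = 0 ∧ π' l - a ∈ maximalIdeal A' ^ 2 := by
  rw [h.maximalIdeal'_eq] at ha
  obtain ⟨b, c, hb, hc, hbc⟩ := h.exists_of_mem_map ha
  rw [RingHom.mem_ker] at hc
  refine ⟨C (eval p b)⁻¹ * c, by simp [hc], ?_⟩
  have hb1 : π' (C (eval p b)⁻¹ * b) - 1 ∈ maximalIdeal A' := by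
    rw [← map_one π', ← map_sub, h.mem_maximalIdeal'_iff]
    simp [hb]
  rw [map_mul] at hb1
  rw [map_mul, ← hbc, sq, show π' (C (eval p b)⁻¹) * (a * π' b) - a =
    (π' (C (eval p b)⁻¹) * π' b - 1) * a by ring]
  exact Ideal.mul_mem_mul hb1 (h.maximalIdeal'_eq ▸ ha)

theorem dv_mem_relDiff {q : MvPolynomial (Fin N) K}
    (hq : q ∈ (RingHom.ker π).map (map (algebraMap k K))) : eval p q = 0 ∧ dv p q ∈ h.relDiff := by
  rw [Ideal.map] at hq
  induction hq using Submodule.span_induction with
  | mem y hy =>
    obtain ⟨g, hg, rfl⟩ := hy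
    exact ⟨h.eval_ker_eq_zero hg, Submodule.subset_span ⟨g, hg, rfl⟩⟩
  | zero => simp
  | add x y _ _ hx hy => exact ⟨by simp [hx.1, hy.1], by rw [map_add]; exact add_mem hx.2 hy.2⟩
  | smul r x _ hx =>
    refine ⟨by simp [hx.1], ?_⟩
    rw [smul_eq_mul, dv_mul, hx.1, zero_smul, add_zero]
    exact Submodule.smul_mem _ _ hx.2

theorem mem_sq_iff {q : MvPolynomial (Fin N) K} (h0 : eval p q = 0) :
    π' q ∈ maximalIdeal A' ^ 2 ↔ dv p q ∈ h.relDiff := by
  constructor
  · intro hq
    rw [h.maximalIdeal'_eq, ← Ideal.map_pow] at hq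
    obtain ⟨b, c, hb, hc, hbc⟩ := h.exists_of_mem_map hq
    obtain ⟨s, hs, hsI⟩ := h.ker (q * b - c) (by rw [map_sub, map_mul, hbc, sub_self])
    have hd := (h.dv_mem_relDiff hsI).2
    have hc0 : eval p c = 0 := Ideal.pow_le_self two_ne_zero hc
    have he : eval p (q * b - c) = 0 := by simp [h0, hc0]
    rw [dv_mul, he, zero_smul, add_zero, map_sub, dv_eq_zero_of_mem_sq p hc, sub_zero, dv_mul, h0,
      zero_smul, zero_add, smul_smul] at hd
    exact (Submodule.smul_mem_iff _ (mul_ne_zero hs hb)).mp hd
  · intro hq
    suffices ∃ g, π' g = 0 ∧ eval p g = 0 ∧ dv p g = dv p q by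
      obtain ⟨g, hg1, hg2, hg3⟩ := this
      have h1 := mem_sq_of_dv_eq_zero p (q := q - g) (by simp [h0, hg2])
        (by rw [map_sub, hg3, sub_self])
      have h2 := Ideal.mem_map_of_mem π' h1
      rwa [Ideal.map_pow, ← h.maximalIdeal'_eq, map_sub, hg1, sub_zero] at h2
    rw [relDiff] at hq
    clear h0
    revert hq
    generalize dv p q = v
    intro hv
    induction hv using Submodule.span_induction with
    | mem y hy =>
      obtain ⟨g, hg, rfl⟩ := hy
      exact ⟨_, h.map_ker_eq_zero hg, h.eval_ker_eq_zero hg, rfl⟩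
    | zero => exact ⟨0, by simp, by simp, by simp⟩
    | add x y _ _ hx hy =>
      obtain ⟨g, h1, h2, h3⟩ := hx
      obtain ⟨g', h1', h2', h3'⟩ := hy
      exact ⟨g + g', by simp [h1, h1'], by simp [h2, h2'], by simp [h3, h3']⟩
    | smul r x _ hx =>
      obtain ⟨g, h1, h2, h3⟩ := hx
      exact ⟨r • g, by simp [h1], by simp [h2], by simp [h3]⟩

/-- If the maximal ideal extends to the maximal ideal then the differentials of the elements of
the prime below span everything. -/
theorem span_dv_eq_top (hm : (maximalIdeal A).map φ = maximalIdeal A') :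
    Submodule.span K ((fun g => dv p (map (algebraMap k K) g)) '' (h.primeBelow : Set _)) = ⊤ := by
  classical
  set W := Submodule.span K ((fun g => dv p (map (algebraMap k K) g)) '' (h.primeBelow : Set _))
  have hW : ∀ q ∈ (h.primeBelow).map (map (algebraMap k K)), dv p q ∈ W := by
    intro q hq
    rw [Ideal.map] at hq
    induction hq using Submodule.span_induction with
    | mem y hy => obtain ⟨g, hg, rfl⟩ := hy; exact Submodule.subset_span ⟨g, hg, rfl⟩
    | zero => simp
    | add x y _ _ hx hy => rw [map_add]; exact add_mem hx hy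
    | smul r x hx' hx =>
      have : eval p x = 0 := h.map_primeBelow_le (by rw [Ideal.map]; exact hx')
      rw [smul_eq_mul, dv_mul, this, zero_smul, add_zero]
      exact Submodule.smul_mem _ _ hx
  rw [eq_top_iff]
  rintro v -
  rw [pi_eq_sum_univ v]
  refine Submodule.sum_mem _ fun j _ => Submodule.smul_mem _ _ ?_
  have hX : π' (X j - C (p j)) ∈ maximalIdeal A' := by rw [h.mem_maximalIdeal'_iff]; simp
  rw [← hm, h.map_maximalIdeal_eq] at hX
  obtain ⟨b, c, hb, hc, hbc⟩ := h.exists_of_mem_map hX
  obtain ⟨s, hs, hsI⟩ := h.ker ((X j - C (p j)) * b - c) (by rw [map_sub, map_mul, hbc, sub_self])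
  have hd := hW _ (h.map_ker_le hsI)
  have he0 : eval p (X j - C (p j)) = 0 := by simp
  have hc0 : eval p c = 0 := h.map_primeBelow_le hc
  have he : eval p ((X j - C (p j)) * b - c) = 0 := by simp [hc0]
  rw [dv_mul, he, zero_smul, add_zero, map_sub (dv p), dv_mul, he0, zero_smul, zero_add, dv_X_sub_C,
    smul_sub, smul_smul] at hd
  have := add_mem hd (W.smul_mem (eval p s) (hW c hc))
  rw [sub_add_cancel] at this
  have h1 := (Submodule.smul_mem_iff _ (mul_ne_zero hs hb)).mp this
  convert h1 using 1
  ext i
  simp [Pi.single_apply, eq_comm]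

/-- If the coordinates of the point are separable then the maximal ideal extends to the maximal
ideal. -/
theorem map_maximalIdeal_of_separable (hsep : ∀ i, IsSeparable k (p i)) :
    (maximalIdeal A).map φ = maximalIdeal A' := by
  refine le_antisymm ?_ ?_
  · rw [Ideal.map_le_iff_le_comap]
    intro a ha
    rw [Ideal.mem_comap, mem_maximalIdeal, mem_nonunits_iff]
    exact fun hu => (mem_maximalIdeal _).mp ha (h.isLocalHom.map_nonunit a hu)
  · rw [h.maximalIdeal'_eq, Ideal.map_le_iff_le_comap]
    intro q hq
    rw [RingHom.mem_ker] at hq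
    rw [Ideal.mem_comap]
    set M := (maximalIdeal A).map φ
    have hX : ∀ i, π' (X i - C (p i)) ∈ M := by
      intro i
      set f := (minpoly k (p i)).map (algebraMap k K)
      obtain ⟨r, hr⟩ : Polynomial.X - Polynomial.C (p i) ∣ f := by
        rw [Polynomial.dvd_iff_isRoot, Polynomial.IsRoot, Polynomial.eval_map_algebraMap, minpoly.aeval]
      have hr0 : r.eval (p i) ≠ 0 := by
        intro h0
        have h1 := (hsep i).aeval_derivative_ne_zero (minpoly.aeval k (p i))
        apply h1
        rw [← Polynomial.eval_map_algebraMap, ← Polynomial.derivative_map]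
        show f.derivative.eval (p i) = 0
        rw [hr]
        simp [h0]
      set qi := Polynomial.aeval (X i : MvPolynomial (Fin N) k) (minpoly k (p i))
      have hmap : map (algebraMap k K) qi = (X i - C (p i)) * Polynomial.aeval (X i) r := by
        have : map (algebraMap k K) qi = Polynomial.aeval (X i : MvPolynomial (Fin N) K) f := by
          rw [Polynomial.aeval_map_algebraMap]
          have h1 : (mapAlgHom (Algebra.ofId k K) : MvPolynomial (Fin N) k →ₐ[k] MvPolynomial (Fin N) K) qi =
              Polynomial.aeval ((mapAlgHom (Algebra.ofId k K) : MvPolynomial (Fin N) k →ₐ[k] _) (X i)) (minpoly k (p i)) :=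
            (Polynomial.aeval_algHom_apply _ _ _).symm
          simpa using h1
        rw [this, hr, map_mul, map_sub, Polynomial.aeval_X, Polynomial.aeval_C]
        rfl
      have hr1 : IsUnit (π' (Polynomial.aeval (X i) r)) := by
        rw [h.isUnit_iff]
        have : eval p (Polynomial.aeval (X i : MvPolynomial (Fin N) K) r) = r.eval (p i) := by
          rw [← aeval_eq_eval, ← Polynomial.aeval_algHom_apply]
          simp
        rwa [this]
      have hmem : π' (map (algebraMap k K) qi) ∈ M := by
        rw [← h.comm]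
        refine Ideal.mem_map_of_mem _ ?_
        rw [h.maximalIdeal_eq]
        refine Ideal.mem_map_of_mem _ ?_
        rw [primeBelow, Ideal.mem_comap, RingHom.mem_ker, hmap]
        simp
      rw [hmap, map_mul] at hmem
      exact (Ideal.mul_unit_mem_iff_mem _ hr1).mp hmem
    have hX' : ∀ r, π' (r - C (eval p r)) ∈ M := by
      intro r
      induction r using MvPolynomial.induction_on with
      | C a => simp
      | add r r' h1 h2 => convert add_mem h1 h2 using 1; simp only [map_add, map_sub]; ring
      | mul_X r i h1 =>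
        have : r * X i - C (eval p (r * X i)) =
            (r - C (eval p r)) * X i + C (eval p r) * (X i - C (p i)) := by
          rw [map_mul, eval_X, map_mul]; ring
        rw [this, map_add, map_mul, map_mul]
        exact add_mem (Ideal.mul_mem_right _ _ h1) (Ideal.mul_mem_left _ _ (hX i))
    simpa [hq] using hX' q

omit h in
theorem derivation_aeval {E : Type u} [CommRing E] [Algebra k E] {M : Type u} [AddCommGroup M]
    [Module k M] [Module E M] [IsScalarTower k E M] (D : Derivation k E M) (z : Fin N → E)
    (g : MvPolynomial (Fin N) k) : D (aeval z g) = ∑ i, aeval z (pderiv i g) • D (z i) := by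
  induction g using MvPolynomial.induction_on with
  | C a => simp [Algebra.algebraMap_eq_smul_one]
  | add f g hf hg => simp [hf, hg, add_smul, Finset.sum_add_distrib]
  | mul_X f i hf =>
    rw [map_mul, aeval_X, Derivation.leibniz, hf, Finset.smul_sum]
    simp only [pderiv_mul, pderiv_X, map_add, map_mul, aeval_X, add_smul, Finset.sum_add_distrib]
    rw [add_comm]
    congr 1
    · exact Finset.sum_congr rfl fun j _ => by rw [smul_smul, mul_comm]
    · rw [Finset.sum_eq_single i]
      · simp
      · intro j _ hj
        simp [Ne.symm hj]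
      · simp

/-- If the maximal ideal extends to the maximal ideal then the coordinates of the point are
separable. -/
theorem separable_of_map_maximalIdeal
    (hm : (maximalIdeal A).map φ = maximalIdeal A') : ∀ i, IsSeparable k (p i) := by
  classical
  let E := IntermediateField.adjoin k (Set.range p)
  have : Algebra.EssFiniteType k E :=
    IntermediateField.essFiniteType_iff.mpr (IntermediateField.fg_def.mpr ⟨_, Set.finite_range p, rfl⟩)
  let z : Fin N → E := fun i => ⟨p i, IntermediateField.subset_adjoin k _ ⟨i, rfl⟩⟩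
  have hz : ∀ g, ((aeval z g : E) : K) = eval p (map (algebraMap k K) g) := by
    intro g
    rw [eval_map, ← aeval_def]
    have : (IsScalarTower.toAlgHom k E K).comp (aeval z) = aeval p := by ext i; simp [z]
    exact AlgHom.congr_fun this g
  have hDz : ∀ (D : Derivation k E E) i, D (z i) = 0 := by
    intro D i
    let L : (Fin N → K) →ₗ[K] K := ∑ j, ((D (z j) : E) : K) • LinearMap.proj j
    have hL : L = 0 := by
      refine LinearMap.ext_on (h.span_dv_eq_top hm) ?_
      rintro _ ⟨g, hg, rfl⟩
      have hg0 : aeval z g = 0 := by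
        rw [← ZeroMemClass.coe_eq_zero, hz]
        exact hg
      have h1 := derivation_aeval D z g
      rw [hg0, map_zero] at h1
      have h2 := congrArg (fun e : E => (e : K)) h1.symm
      simp only [IntermediateField.coe_sum, ZeroMemClass.coe_zero, smul_eq_mul,
        IntermediateField.coe_mul, hz] at h2
      simpa [L, dv_apply, pderiv_map, mul_comm] using h2
    have := LinearMap.congr_fun hL (Pi.single i 1)
    simpa [L, Pi.single_apply] using this
  have : Algebra.IsSeparable k E := isSeparable_of_derivation_eq_zero fun D =>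
    derivation_eq_zero_of_adjoin D fun x hx => by
      obtain ⟨i, rfl⟩ := hx
      exact hDz D i
  intro i
  have h1 := Algebra.IsSeparable.isSeparable k (z i)
  have h2 : minpoly k (algebraMap E K (z i)) = minpoly k (z i) :=
    minpoly.algebraMap_eq (algebraMap E K).injective (z i)
  show (minpoly k (p i)).Separable
  rw [show p i = algebraMap E K (z i) from rfl, h2]
  exact h1

/-- The residue field below is separable iff the coordinates of the point are. -/
theorem isSeparable_residueField_iff :
    Algebra.IsSeparable k (ResidueField A) ↔ ∀ i, IsSeparable k (p i) := by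
  have := h.isLocalHom
  let e : K ≃+* ResidueField A' := RingEquiv.ofBijective ((residue A').comp (algebraMap K A'))
    ⟨RingHom.injective _, fun z => by
      obtain ⟨a, rfl⟩ := residue_surjective z
      obtain ⟨c, hc⟩ := h.exists_sub_algebraMap_mem a
      exact ⟨c, ((Ideal.Quotient.eq).mpr hc).symm⟩⟩
  have hπe : ∀ f, residue A' (π' f) = e (eval p f) := by
    intro f
    have h1 : π' (f - C (eval p f)) ∈ maximalIdeal A' := (h.mem_maximalIdeal'_iff _).mpr (by simp)
    rw [map_sub, ← residue_eq_zero_iff, map_sub, sub_eq_zero] at h1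
    rw [h1]
    exact congrArg (residue A') (π'.commutes _)
  let σ : ResidueField A →ₐ[k] K :=
    { e.symm.toRingHom.comp (ResidueField.map φ) with
      commutes' := fun t => by
        show e.symm (ResidueField.map φ (residue A (algebraMap k A t))) = algebraMap k K t
        rw [ResidueField.map_residue, ← π.commutes, MvPolynomial.algebraMap_eq, h.comm, map_C, hπe,
          eval_C, RingEquiv.symm_apply_apply] }
  have hσ : ∀ g, σ (residue A (π g)) = MvPolynomial.aeval p g := by
    intro g
    show e.symm (ResidueField.map φ (residue A (π g))) = _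
    rw [ResidueField.map_residue, h.comm, hπe, RingEquiv.symm_apply_apply, eval_map, aeval_def]
  constructor
  · intro hsep i
    have h1 := Algebra.IsSeparable.isSeparable k (residue A (π (X i)))
    rw [show p i = σ (residue A (π (X i))) by rw [hσ]; simp]
    show (minpoly k _).Separable
    rw [minpoly.algHom_eq σ σ.injective]
    exact h1
  · intro hsep
    have : Algebra.IsSeparable k (IntermediateField.adjoin k (Set.range p)) :=
      IntermediateField.isSeparable_adjoin_iff_isSeparable k K |>.mpr
        (by rintro _ ⟨i, rfl⟩; exact hsep i)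
    refine Algebra.IsSeparable.of_algHom k (IntermediateField.adjoin k (Set.range p))
      (σ.codRestrict (IntermediateField.adjoin k (Set.range p)).toSubalgebra fun z => ?_)
    obtain ⟨a, rfl⟩ := residue_surjective z
    have hmem : ∀ g, MvPolynomial.aeval p g ∈ IntermediateField.adjoin k (Set.range p) := fun g => by
      refine IntermediateField.algebra_adjoin_le_adjoin k _ ?_
      rw [Algebra.adjoin_range_eq_range_aeval]
      exact ⟨g, rfl⟩
    obtain ⟨b, c, hb, hbc⟩ := h.frac a
    have hb' : σ (residue A (π b)) ≠ 0 := ((hb.map (residue A)).map σ).ne_zero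
    have h1 := congrArg (fun z => σ (residue A z)) hbc
    simp only [map_mul] at h1
    rw [eq_div_iff hb' |>.mpr h1, hσ, hσ]
    exact (IntermediateField.adjoin k (Set.range p)).div_mem (hmem c) (hmem b)

end IsPointPresentation

end Groth.Curves1.Node
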