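import Mathlib
import Groth.Agent.Curves1.Node.PointPres
import Groth.Agent.Curves1.Node.Criterion

/-!
# The Jacobian argument at an ordinary double point

If the local ring at a geometric point satisfies the quadric criterion then the maximal ideal below
generates the maximal ideal above.
-/

namespace Groth.Curves1.Node

open IsLocalRing MvPolynomial

universe u v

section Det

variable {R : Type u} [CommRing R] {n : Type v} [Fintype n] [DecidableEq n]

/-- If determinants with rows in a set lie in an ideal, so do those with rows in the span of the set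
and of the vectors with entries in the ideal. -/
theorem det_mem_of_rows (J : Ideal R) (S : Set (n → R))
    (h : ∀ v : n → n → R, (∀ i, v i ∈ S) → (Matrix.of v).det ∈ J) (M : Matrix n n R)
    (hM : ∀ i, M i ∈ Submodule.span R (S ∪ {v | ∀ i, v i ∈ J})) : M.det ∈ J := by
  classical
  suffices key : ∀ (s : Finset n) (M : Matrix n n R),
      (∀ i ∈ s, M i ∈ Submodule.span R (S ∪ {v | ∀ i, v i ∈ J})) → (∀ i ∉ s, M i ∈ S) →
      M.det ∈ J from key Finset.univ M (fun i _ => hM i) (fun i hi => absurd (Finset.mem_univ i) hi)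
  intro s
  induction s using Finset.induction_on with
  | empty => exact fun M _ hS => h M fun i => hS i (Finset.notMem_empty i)
  | insert i s his ih =>
    intro M hs hS
    suffices ∀ r ∈ Submodule.span R (S ∪ {v | ∀ i, v i ∈ J}), (M.updateRow i r).det ∈ J by
      simpa using this _ (hs i (Finset.mem_insert_self _ _))
    intro r hr
    induction hr using Submodule.span_induction with
    | mem y hy =>
      rcases hy with hy | hy
      · refine ih _ (fun j hj => ?_) (fun j hj => ?_)
        · rw [Matrix.updateRow_ne (fun e : j = i => his (e ▸ hj))]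
          exact hs j (Finset.mem_insert_of_mem hj)
        · by_cases e : j = i
          · subst e; rw [Matrix.updateRow_self]; exact hy
          · rw [Matrix.updateRow_ne e]
            exact hS j (fun hj' => (Finset.mem_insert.mp hj').elim e hj)
      · rw [← Ideal.Quotient.eq_zero_iff_mem, RingHom.map_det]
        refine Matrix.det_eq_zero_of_row_eq_zero i fun j => ?_
        rw [RingHom.mapMatrix_apply, Matrix.map_apply, Matrix.updateRow_self,
          Ideal.Quotient.eq_zero_iff_mem]
        exact hy j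
    | zero =>
      rw [Matrix.det_eq_zero_of_row_eq_zero i (fun j => by simp)]
      exact zero_mem _
    | add x y _ _ hx hy => rw [Matrix.det_updateRow_add]; exact add_mem hx hy
    | smul a x _ hx => rw [Matrix.det_updateRow_smul]; exact J.mul_mem_left _ hx

/-- A matrix indexed by `Option` which is congruent to the identity off the corner and to `0` along
the corner row and column has determinant congruent to the corner entry. -/
theorem det_sub_corner_mem {ι : Type v} [Fintype ι] [DecidableEq ι] (P : Ideal R)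
    (M : Matrix (Option ι) (Option ι) R) (hrow : ∀ j, M none j ∈ P) (hcol : ∀ i, M i none ∈ P)
    (hE : ∀ i j : ι, M (some i) (some j) - (if i = j then 1 else 0) ∈ P) :
    M.det - M none none ∈ P ^ 2 := by
  classical
  rw [Matrix.det_apply', ← Finset.add_sum_erase _ _ (Finset.mem_univ (1 : Equiv.Perm (Option ι))),
    add_sub_right_comm]
  refine add_mem ?_ (sum_mem fun σ hσ => ?_)
  · simp only [Equiv.Perm.sign_one, Units.val_one, Int.cast_one, one_mul, Equiv.Perm.one_apply]
    rw [Fintype.prod_option, ← mul_sub_one, sq]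
    refine Ideal.mul_mem_mul (hrow none) ?_
    rw [← Ideal.Quotient.eq, map_prod, map_one]
    refine Finset.prod_eq_one fun i _ => ?_
    rw [← map_one (Ideal.Quotient.mk P), Ideal.Quotient.eq]
    simpa using hE i i
  · obtain ⟨i, j, hij, hi, hj⟩ :
        ∃ i j, i ≠ j ∧ M (σ i) i ∈ P ∧ M (σ j) j ∈ P := by
      by_cases h0 : σ none = none
      · obtain ⟨i, hi⟩ : ∃ i, σ (some i) ≠ some i := by
          by_contra! hall
          exact Finset.ne_of_mem_erase hσ
            (Equiv.ext fun x => by cases x with | none => exact h0 | some i => exact hall i)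
        refine ⟨none, some i, by simp, hcol _, ?_⟩
        cases h : σ (some i) with
        | none => exact hrow _
        | some i' =>
          have hne : i' ≠ i := fun e => hi (by rw [h, e])
          simpa [hne] using hE i' i
      · refine ⟨none, σ.symm none, fun e => h0 ?_, hcol _, ?_⟩
        · conv_lhs => rw [e]
          exact σ.apply_symm_apply none
        · rw [Equiv.apply_symm_apply]
          exact hrow _
    refine Ideal.mul_mem_left _ _ ?_
    rw [← Finset.mul_prod_erase _ _ (Finset.mem_univ i),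
      ← Finset.mul_prod_erase _ _ (Finset.mem_erase.mpr ⟨hij.symm, Finset.mem_univ j⟩), ← mul_assoc,
      sq]
    exact Ideal.mul_mem_right _ _ (Ideal.mul_mem_mul hi hj)

end Det

namespace IsPointPresentation

variable {k K : Type u} [Field k] [Field K] [Algebra k K] {A A' : Type u}
  [CommRing A] [IsLocalRing A] [Algebra k A] [CommRing A'] [IsLocalRing A'] [Algebra K A'] {N : ℕ}
  {φ : A →+* A'} {π : MvPolynomial (Fin N) k →ₐ[k] A} {π' : MvPolynomial (Fin N) K →ₐ[K] A'}
  {p : Fin N → K} (h : IsPointPresentation φ π π' p)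

/-- The derivation in the direction `w`. -/
noncomputable def dirD (w : Fin N → K) :
    Derivation K (MvPolynomial (Fin N) K) (MvPolynomial (Fin N) K) := ∑ j, w j • pderiv j

theorem dirD_apply (w : Fin N → K) (q : MvPolynomial (Fin N) K) :
    dirD w q = ∑ j, C (w j) * pderiv j q := by
  rw [dirD, ← Derivation.coeFnAddMonoidHom_apply, map_sum, Finset.sum_apply]
  simp [Derivation.coeFnAddMonoidHom, smul_eq_C_mul]

theorem eval_dirD (w : Fin N → K) (q : MvPolynomial (Fin N) K) :
    eval p (dirD w q) = ∑ j, w j * dv p q j := by simp [dirD_apply, dv_apply]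

theorem dirD_mem_pow (w : Fin N → K) {n : ℕ} {q : MvPolynomial (Fin N) K}
    (hq : q ∈ RingHom.ker (eval p) ^ (n + 1)) : dirD w q ∈ RingHom.ker (eval p) ^ n := by
  rw [dirD_apply]
  exact sum_mem fun j _ => Ideal.mul_mem_left _ _ (pderiv_mem_pow p j n hq)

include h

/-- Minors of the Jacobian matrix of elements of the ideal of relations, bigger than the rank of the
Jacobian at the point, vanish on the closed point. -/
theorem det_dirD_mem {n : Type u} [Fintype n] [DecidableEq n]
    (hcard : Module.finrank K h.relDiff < Fintype.card n)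
    (F : n → MvPolynomial (Fin N) K) (hF : ∀ i, F i ∈ (RingHom.ker π).map (map (algebraMap k K)))
    (w : n → Fin N → K) :
    (Matrix.of fun i j => dirD (w j) (F i)).det ∈ (h.primeBelow).map (map (algebraMap k K)) := by
  classical
  set μ : MvPolynomial (Fin N) k →+* MvPolynomial (Fin N) K := map (algebraMap k K)
  set J := (h.primeBelow).map μ
  rw [← Matrix.det_transpose]
  refine det_mem_of_rows J {v | ∃ j, v = fun i => pderiv j (F i)} ?_ _ fun β => ?_
  swap
  · have : (Matrix.of fun i j => dirD (w j) (F i)).transpose β =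
        ∑ j, (C (w β j) : MvPolynomial (Fin N) K) • fun i => pderiv j (F i) := by
      ext i : 1
      simp [dirD_apply, Finset.sum_apply]
    rw [this]
    exact sum_mem fun j _ => Submodule.smul_mem _ _ (Submodule.subset_span (Or.inl ⟨j, rfl⟩))
  intro v hv
  choose f hf using hv
  rw [← Matrix.det_transpose]
  refine det_mem_of_rows J {v | ∃ g ∈ RingHom.ker π, v = fun β => μ (pderiv (f β) g)} ?_ _ fun i => ?_
  swap
  · have hrow : ((Matrix.of v).transpose : Matrix n n _) i = fun β => pderiv (f β) (F i) := by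
      ext β : 1
      simp [hf β]
    rw [hrow]
    suffices key : ∀ q ∈ (RingHom.ker π).map μ, q ∈ J ∧ (fun β => pderiv (f β) q) ∈
        Submodule.span _ ({v | ∃ g ∈ RingHom.ker π, v = fun β => μ (pderiv (f β) g)} ∪
          {v | ∀ i, v i ∈ J}) from (key _ (hF i)).2
    intro q hq
    rw [Ideal.map] at hq
    induction hq using Submodule.span_induction with
    | mem y hy =>
      obtain ⟨g, hg, rfl⟩ := hy
      exact ⟨h.map_ker_le (Ideal.mem_map_of_mem _ hg), Submodule.subset_span
        (Or.inl ⟨g, hg, funext fun β => pderiv_map⟩)⟩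
    | zero =>
      refine ⟨zero_mem _, ?_⟩
      rw [show (fun β => pderiv (f β) (0 : MvPolynomial (Fin N) K)) = 0 from funext fun β => map_zero _]
      exact zero_mem _
    | add x y _ _ hx hy =>
      refine ⟨add_mem hx.1 hy.1, ?_⟩
      convert add_mem hx.2 hy.2 using 1
      ext; simp
    | smul a x _ hx =>
      refine ⟨J.mul_mem_left _ hx.1, ?_⟩
      have h2 : (fun β => pderiv (f β) a * x) ∈ Submodule.span (MvPolynomial (Fin N) K)
          ({v | ∃ g ∈ RingHom.ker π, v = fun β => μ (pderiv (f β) g)} ∪ {v | ∀ i, v i ∈ J}) :=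
        Submodule.subset_span (Or.inr fun β => J.mul_mem_left _ hx.1)
      convert add_mem h2 (Submodule.smul_mem _ a hx.2) using 1
      ext β : 1
      simp only [smul_eq_mul, pderiv_mul, Pi.add_apply, Pi.smul_apply]
  intro v' hv'
  choose g hg hv'' using hv'
  have e : Matrix.of v' = μ.mapMatrix (Matrix.of fun i β => pderiv (f β) (g i)) := by
    ext i β : 1
    simp [hv'' i]
  rw [e, ← RingHom.map_det]
  refine Ideal.mem_map_of_mem _ ?_
  rw [primeBelow, Ideal.mem_comap, RingHom.mem_ker]
  show ((eval p).comp μ) _ = 0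
  rw [RingHom.map_det]
  let u : n → h.relDiff := fun i => ⟨dv p (μ (g i)), Submodule.subset_span ⟨g i, hg i, rfl⟩⟩
  have hnu : ¬ LinearIndependent K u := fun hu => by
    have := hu.fintype_card_le_finrank
    omega
  by_contra hdet
  apply hnu
  have h1 : LinearIndependent K (((eval p).comp μ).mapMatrix
      (Matrix.of fun i β => pderiv (f β) (g i))).row :=
    Matrix.linearIndependent_rows_of_isUnit ((Matrix.isUnit_iff_isUnit_det _).mpr (Ne.isUnit hdet))
  refine LinearIndependent.of_comp ((LinearMap.funLeft K K f).comp h.relDiff.subtype) ?_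
  convert h1 using 1
  ext i β
  simp [u, dv_apply, μ, pderiv_map, Matrix.row]

/-- At a point where the criterion holds, the maximal ideal extends to the maximal ideal. -/
theorem map_maximalIdeal_of_criterion [IsNoetherianRing A'] (hA : IsQuadraticCriterion A') :
    (maximalIdeal A).map φ = maximalIdeal A' := by
  classical
  obtain ⟨hnp, x', y', a, b, c, hxy, hD, hQ⟩ := hA
  have hle : (maximalIdeal A).map φ ≤ maximalIdeal A' := by
    rw [Ideal.map_le_iff_le_comap]
    intro a ha
    rw [Ideal.mem_comap, mem_maximalIdeal, mem_nonunits_iff]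
    exact fun hu => (mem_maximalIdeal _).mp ha (h.isLocalHom.map_nonunit a hu)
  set 𝔭 := RingHom.ker (eval p)
  set 𝔮 := (h.primeBelow).map (map (algebraMap k K))
  set n := maximalIdeal A'
  have hx'm : x' ∈ n := hxy ▸ Ideal.subset_span (Set.mem_insert _ _)
  have hy'm : y' ∈ n := hxy ▸ Ideal.subset_span (Set.mem_insert_of_mem _ rfl)
  obtain ⟨a₀, ha₀⟩ := h.exists_sub_algebraMap_mem a
  obtain ⟨b₀, hb₀⟩ := h.exists_sub_algebraMap_mem b
  obtain ⟨c₀, hc₀⟩ := h.exists_sub_algebraMap_mem c
  obtain ⟨l₁, hl₁, hl₁x⟩ := h.exists_pi_sub_mem_sq hx'm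
  obtain ⟨l₂, hl₂, hl₂y⟩ := h.exists_pi_sub_mem_sq hy'm
  have hl₁m : π' l₁ ∈ n := (h.mem_maximalIdeal'_iff _).mpr hl₁
  have hl₂m : π' l₂ ∈ n := (h.mem_maximalIdeal'_iff _).mpr hl₂
  have hπC : ∀ r, π' (C r) = algebraMap K A' r := fun r => π'.commutes r
  have hD0 : 4 * a₀ * c₀ - b₀ ^ 2 ≠ 0 := by
    intro h0
    apply hD
    rw [← residue_eq_zero_iff, map_sub, sub_eq_zero] at ha₀ hb₀ hc₀
    have h1 := congrArg ((residue A').comp (algebraMap K A')) h0
    simp only [map_sub, map_mul, map_pow, map_ofNat, map_zero, RingHom.comp_apply, ← ha₀, ← hb₀,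
      ← hc₀] at h1 ⊢
    exact h1
  -- the quadratic relation between polynomials
  set Q := C a₀ * l₁ ^ 2 + C b₀ * l₁ * l₂ + C c₀ * l₂ ^ 2
  have hQ3 : π' Q ∈ n ^ 3 := by
    have h1 := quadVal_sub_mem hl₁m hl₂m hx'm hy'm (by simpa using neg_mem hl₁x)
      (by simpa using neg_mem hl₂y) ha₀ hb₀ hc₀
    have h2 := sub_mem hQ h1
    simpa [Q, hπC] using h2
  rw [show n = 𝔭.map π' from h.maximalIdeal'_eq, ← Ideal.map_pow] at hQ3
  obtain ⟨bb, hh, hbb, hhh, hbh⟩ := h.exists_of_mem_map hQ3
  obtain ⟨s, hs, hF⟩ := h.ker (Q * bb - hh) (by rw [map_sub, map_mul, hbh, sub_self])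
  set F := s * (Q * bb - hh)
  set s₀ := eval p s * eval p bb
  have hs₀ : s₀ ≠ 0 := mul_ne_zero hs hbb
  -- a basis adapted to the relations
  obtain ⟨B, hBsub, hBspan, hBli⟩ := exists_linearIndependent K
    ((fun g => dv p (map (algebraMap k K) g)) '' (RingHom.ker π : Set _))
  have : Fintype B := (hBli.setFinite).fintype
  choose g hg hgB using fun i : B => hBsub i.2
  replace hgB : ∀ i : B, dv p (map (algebraMap k K) (g i)) = (i : Fin N → K) := hgB
  have hrel : h.relDiff = Submodule.span K (Set.range ((↑) : B → Fin N → K)) := by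
    rw [relDiff, ← hBspan, Subtype.range_coe]
  have hcard : Module.finrank K h.relDiff = Fintype.card B := by
    rw [hrel]; exact finrank_span_eq_card hBli
  have hsmall : ∀ α β : K, algebraMap K A' α * x' + algebraMap K A' β * y' ∈ n ^ 2 →
      α = 0 ∧ β = 0 := by
    intro α β hαβ
    have hnak : ∀ z ∈ n, n ≤ Ideal.span {z} ⊔ n ^ 2 → False := fun z hz hle => hnp z hz <|
      Submodule.le_of_le_smul_of_le_jacobson_bot (IsNoetherian.noetherian _)
        (maximalIdeal_le_jacobson ⊥) (hle.trans_eq (by rw [smul_eq_mul, sq]))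
    refine ⟨by_contra fun hα => hnak y' hy'm ?_, by_contra fun hβ => hnak x' hx'm ?_⟩
    · conv_lhs => rw [← hxy]
      rw [Ideal.span_le]
      rintro z (rfl | rfl)
      · have h1 := Ideal.mul_mem_left _ (algebraMap K A' α⁻¹) hαβ
        rw [mul_add, ← mul_assoc, ← map_mul, inv_mul_cancel₀ hα, map_one, one_mul] at h1
        rw [← add_sub_cancel_right z (algebraMap K A' α⁻¹ * (algebraMap K A' β * y'))]
        exact sub_mem (Ideal.mem_sup_right h1) (Ideal.mem_sup_left
          (Ideal.mem_span_singleton'.mpr ⟨_, mul_assoc _ _ _⟩))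
      · exact Ideal.mem_sup_left (Ideal.mem_span_singleton_self _)
    · conv_lhs => rw [← hxy]
      rw [Ideal.span_le]
      rintro z (rfl | rfl)
      · exact Ideal.mem_sup_left (Ideal.mem_span_singleton_self _)
      · have h1 := Ideal.mul_mem_left _ (algebraMap K A' β⁻¹) hαβ
        rw [mul_add, ← mul_assoc (algebraMap K A' β⁻¹) (algebraMap K A' β), ← map_mul,
          inv_mul_cancel₀ hβ, map_one, one_mul] at h1
        rw [← add_sub_cancel_left (algebraMap K A' β⁻¹ * (algebraMap K A' α * x')) z]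
        exact sub_mem (Ideal.mem_sup_right h1) (Ideal.mem_sup_left
          (Ideal.mem_span_singleton'.mpr ⟨_, mul_assoc _ _ _⟩))
  let v : Fin 2 ⊕ B → Fin N → K := Sum.elim ![dv p l₁, dv p l₂] (↑)
  have hli : LinearIndependent K v := by
    rw [Fintype.linearIndependent_iff]
    intro co hco
    simp only [Fintype.sum_sum_type, Fin.sum_univ_two, v, Sum.elim_inl, Sum.elim_inr,
      Matrix.cons_val_zero, Matrix.cons_val_one] at hco
    have hmem : dv p (C (co (Sum.inl 0)) * l₁ + C (co (Sum.inl 1)) * l₂) ∈ h.relDiff := by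
      rw [map_add, dv_mul, dv_mul, hl₁, hl₂, zero_smul, zero_smul, add_zero, add_zero, eval_C, eval_C,
        eq_neg_of_add_eq_zero_left hco, hrel]
      exact neg_mem (sum_mem fun i _ => Submodule.smul_mem _ _ (Submodule.subset_span ⟨i, rfl⟩))
    rw [← h.mem_sq_iff (by simp [hl₁, hl₂])] at hmem
    obtain ⟨h0, h1⟩ := hsmall (co (Sum.inl 0)) (co (Sum.inl 1)) (by
      have := sub_mem hmem (add_mem (Ideal.mul_mem_left _ (algebraMap K A' (co (Sum.inl 0))) hl₁x)
        (Ideal.mul_mem_left _ (algebraMap K A' (co (Sum.inl 1))) hl₂y))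
      convert this using 1
      simp only [map_add, map_mul, hπC]
      ring)
    rw [h0, h1, zero_smul, zero_smul, add_zero, zero_add] at hco
    have h2 := Fintype.linearIndependent_iff.mp hBli (fun i => co (Sum.inr i)) hco
    rintro (i | i)
    · fin_cases i <;> assumption
    · exact h2 i
  have hsp : ⊤ ≤ Submodule.span K (Set.range v) := by
    rintro z -
    rw [pi_eq_sum_univ z]
    refine sum_mem fun j _ => Submodule.smul_mem _ _ ?_
    have hXe : eval p (X j - C (p j) : MvPolynomial (Fin N) K) = 0 := by simp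
    have hXm := (h.mem_maximalIdeal'_iff _).mpr hXe
    rw [show maximalIdeal A' = Ideal.span {x', y'} from hxy.symm] at hXm
    obtain ⟨r, r', hrr⟩ := Ideal.mem_span_pair.mp hXm
    obtain ⟨α, hα⟩ := h.exists_sub_algebraMap_mem r
    obtain ⟨β, hβ⟩ := h.exists_sub_algebraMap_mem r'
    have hmem : π' (X j - C (p j) - (C α * l₁ + C β * l₂)) ∈ n ^ 2 := by
      have h1 : π' (X j - C (p j) - (C α * l₁ + C β * l₂)) =
          (r - algebraMap K A' α) * x' + (r' - algebraMap K A' β) * y' -
            (algebraMap K A' α * (π' l₁ - x') + algebraMap K A' β * (π' l₂ - y')) := by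
        rw [map_sub π', ← hrr]
        simp only [map_add, map_mul, hπC]
        ring
      rw [h1, sq]
      refine sub_mem (add_mem (Ideal.mul_mem_mul hα hx'm) (Ideal.mul_mem_mul hβ hy'm)) ?_
      rw [← sq]
      exact add_mem (Ideal.mul_mem_left _ _ hl₁x) (Ideal.mul_mem_left _ _ hl₂y)
    rw [h.mem_sq_iff (by simp [hl₁, hl₂]), hrel] at hmem
    rw [map_sub (dv p), map_add (dv p), dv_X_sub_C, dv_mul, dv_mul, hl₁, hl₂, zero_smul, zero_smul,
      add_zero, add_zero, eval_C, eval_C] at hmem
    have h2 := Submodule.span_mono (R := K) (t := Set.range v)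
      (by rintro _ ⟨i, rfl⟩; exact ⟨Sum.inr i, rfl⟩) hmem
    have h3 : α • dv p l₁ + β • dv p l₂ ∈ Submodule.span K (Set.range v) :=
      add_mem (Submodule.smul_mem _ _ (Submodule.subset_span ⟨Sum.inl 0, rfl⟩))
        (Submodule.smul_mem _ _ (Submodule.subset_span ⟨Sum.inl 1, rfl⟩))
    convert add_mem h2 h3 using 1
    ext i
    simp [Pi.single_apply, eq_comm]
  let bas := Module.Basis.mk hli hsp
  let w : Fin 2 ⊕ B → Fin N → K := fun β j => bas.coord β (fun i => if j = i then 1 else 0)
  have hw : ∀ β q, eval p (dirD (w β) q) = bas.coord β (dv p q) := by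
    intro β q
    rw [eval_dirD]
    conv_rhs => rw [pi_eq_sum_univ (dv p q)]
    simp [w, map_sum, mul_comm]
  have hwv : ∀ β γ, bas.coord β (v γ) = if γ = β then 1 else 0 := by
    intro β γ
    rw [← show bas γ = v γ from Module.Basis.mk_apply hli hsp γ]
    simp [Finsupp.single_apply]
  have hFmem : F ∈ 𝔭 ^ 2 := by
    refine Ideal.mul_mem_left _ _ (sub_mem (Ideal.mul_mem_right _ _ ?_)
      (Ideal.pow_le_pow_right (show 2 ≤ 3 by norm_num) hhh))
    refine add_mem (add_mem ?_ ?_) ?_
    · exact Ideal.mul_mem_left _ _ (Ideal.pow_mem_pow hl₁ 2)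
    · rw [mul_assoc, sq]; exact Ideal.mul_mem_left _ _ (Ideal.mul_mem_mul hl₁ hl₂)
    · exact Ideal.mul_mem_left _ _ (Ideal.pow_mem_pow hl₂ 2)
  -- the minor computation
  have hlin : ∀ e : Fin 2, C (eval p (dirD (w (Sum.inl e)) l₁)) * (C (2 * a₀) * l₁ + C b₀ * l₂) +
      C (eval p (dirD (w (Sum.inl e)) l₂)) * (C b₀ * l₁ + C (2 * c₀) * l₂) ∈ 𝔮 ⊔ 𝔭 ^ 2 := by
    intro e
    let G : Option B → MvPolynomial (Fin N) K :=
      fun i => i.elim F fun i => map (algebraMap k K) (g i)
    let W : Option B → Fin N → K := fun i => i.elim (w (Sum.inl e)) fun i => w (Sum.inr i)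
    let M := Matrix.of fun i j => dirD (W j) (G i)
    have h1 : M.det ∈ 𝔮 := h.det_dirD_mem (by rw [hcard, Fintype.card_option]; omega) G
      (fun i => by cases i with | none => exact hF | some i => exact Ideal.mem_map_of_mem _ (hg i)) W
    have h2 : M.det - M none none ∈ 𝔭 ^ 2 := by
      refine det_sub_corner_mem 𝔭 M (fun j => ?_) (fun i => ?_) (fun i j => ?_)
      · have := dirD_mem_pow (p := p) (W j) (n := 1) hFmem
        rw [pow_one] at this
        exact this
      · cases i with
        | none =>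
          have := dirD_mem_pow (p := p) (W none) (n := 1) hFmem
          rw [pow_one] at this
          exact this
        | some i =>
          rw [RingHom.mem_ker]
          show eval p (dirD (w (Sum.inl e)) (map (algebraMap k K) (g i))) = 0
          rw [hw, hgB i, show (i : Fin N → K) = v (Sum.inr i) from rfl, hwv]
          simp
      · rw [RingHom.mem_ker, map_sub]
        show eval p (dirD (w (Sum.inr j)) (map (algebraMap k K) (g i))) - _ = 0
        rw [hw, hgB i, show (i : Fin N → K) = v (Sum.inr i) from rfl, hwv]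
        split_ifs <;> simp_all
    have h3 : M none none ∈ 𝔮 ⊔ 𝔭 ^ 2 := by
      rw [← sub_sub_cancel M.det (M none none)]
      exact sub_mem (Ideal.mem_sup_left h1) (Ideal.mem_sup_right h2)
    set D := dirD (w (Sum.inl e))
    have hDC : ∀ r, D (C r) = 0 := fun r => Derivation.map_algebraMap D r
    have hsub : ∀ r, r - C (eval p r) ∈ 𝔭 := fun r => by simp [𝔭, RingHom.mem_ker]
    have h4 : M none none - C s₀ * (C (eval p (D l₁)) * (C (2 * a₀) * l₁ + C b₀ * l₂) +
        C (eval p (D l₂)) * (C b₀ * l₁ + C (2 * c₀) * l₂)) ∈ 𝔭 ^ 2 := by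
      have e1 : M none none - C s₀ * (C (eval p (D l₁)) * (C (2 * a₀) * l₁ + C b₀ * l₂) +
            C (eval p (D l₂)) * (C b₀ * l₁ + C (2 * c₀) * l₂)) =
          (s * D bb + D s * bb) * Q - (D (s * hh)) +
          (s * bb * D l₁ - C (eval p (s * bb * D l₁))) * (C (2 * a₀) * l₁ + C b₀ * l₂) +
          (s * bb * D l₂ - C (eval p (s * bb * D l₂))) * (C b₀ * l₁ + C (2 * c₀) * l₂) := by
        show D F - _ = _
        simp only [F, Q, s₀, Derivation.leibniz, map_sub, map_add, smul_eq_mul, Derivation.leibniz_pow,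
          hDC, map_mul, map_ofNat, mul_zero, add_zero, nsmul_eq_mul]
        push_cast
        ring
      rw [e1]
      have hQ2 : Q ∈ 𝔭 ^ 2 := by
        refine add_mem (add_mem ?_ ?_) ?_
        · exact Ideal.mul_mem_left _ _ (Ideal.pow_mem_pow hl₁ 2)
        · rw [mul_assoc, sq]; exact Ideal.mul_mem_left _ _ (Ideal.mul_mem_mul hl₁ hl₂)
        · exact Ideal.mul_mem_left _ _ (Ideal.pow_mem_pow hl₂ 2)
      refine add_mem (add_mem (sub_mem (Ideal.mul_mem_left _ _ hQ2) ?_) ?_) ?_
      · exact dirD_mem_pow _ (Ideal.mul_mem_left _ _ hhh)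
      · rw [sq]
        exact Ideal.mul_mem_mul (hsub _) (add_mem (Ideal.mul_mem_left _ _ hl₁) (Ideal.mul_mem_left _ _ hl₂))
      · rw [sq]
        exact Ideal.mul_mem_mul (hsub _) (add_mem (Ideal.mul_mem_left _ _ hl₁) (Ideal.mul_mem_left _ _ hl₂))
    have h5 := Ideal.mul_mem_left _ (C s₀⁻¹) (sub_mem h3 (Ideal.mem_sup_right h4))
    rw [sub_sub_cancel, ← mul_assoc, ← map_mul, inv_mul_cancel₀ hs₀, map_one, one_mul] at h5
    exact h5
  have hd : ∀ (e : Fin 2) (γ : Fin 2), eval p (dirD (w (Sum.inl e)) (![l₁, l₂] γ)) =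
      if γ = e then 1 else 0 := by
    intro e γ
    rw [hw, show dv p (![l₁, l₂] γ) = v (Sum.inl γ) from by fin_cases γ <;> rfl, hwv]
    simp
  have e0 := hlin 0
  have e1 := hlin 1
  simp only [show eval p (dirD (w (Sum.inl 0)) l₁) = 1 from hd 0 0,
    show eval p (dirD (w (Sum.inl 0)) l₂) = 0 from hd 0 1,
    show eval p (dirD (w (Sum.inl 1)) l₁) = 0 from hd 1 0,
    show eval p (dirD (w (Sum.inl 1)) l₂) = 1 from hd 1 1, map_one, map_zero, one_mul, zero_mul,
    add_zero, zero_add] at e0 e1
  have hmem : ∀ q ∈ 𝔮 ⊔ 𝔭 ^ 2, π' q ∈ (maximalIdeal A).map φ ⊔ n ^ 2 := by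
    intro q hq
    have := Ideal.mem_map_of_mem π' hq
    rwa [Ideal.map_sup, Ideal.map_pow, ← h.maximalIdeal'_eq, ← h.map_maximalIdeal_eq] at this
  have key₁ : π' l₁ ∈ (maximalIdeal A).map φ ⊔ n ^ 2 := by
    have := hmem _ (Ideal.mul_mem_left _ (C (4 * a₀ * c₀ - b₀ ^ 2)⁻¹)
      (sub_mem (Ideal.mul_mem_left _ (C (2 * c₀)) e0) (Ideal.mul_mem_left _ (C b₀) e1)))
    convert this using 1
    rw [show C (2 * c₀) * (C (2 * a₀) * l₁ + C b₀ * l₂) - C b₀ * (C b₀ * l₁ + C (2 * c₀) * l₂) =
      C (4 * a₀ * c₀ - b₀ ^ 2) * l₁ from by simp only [map_sub, map_mul, map_pow, map_ofNat]; ring,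
      ← mul_assoc, ← map_mul, inv_mul_cancel₀ hD0, map_one, one_mul]
  have key₂ : π' l₂ ∈ (maximalIdeal A).map φ ⊔ n ^ 2 := by
    have := hmem _ (Ideal.mul_mem_left _ (C (4 * a₀ * c₀ - b₀ ^ 2)⁻¹)
      (sub_mem (Ideal.mul_mem_left _ (C (2 * a₀)) e1) (Ideal.mul_mem_left _ (C b₀) e0)))
    convert this using 1
    rw [show C (2 * a₀) * (C b₀ * l₁ + C (2 * c₀) * l₂) - C b₀ * (C (2 * a₀) * l₁ + C b₀ * l₂) =
      C (4 * a₀ * c₀ - b₀ ^ 2) * l₂ from by simp only [map_sub, map_mul, map_pow, map_ofNat]; ring,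
      ← mul_assoc, ← map_mul, inv_mul_cancel₀ hD0, map_one, one_mul]
  refine le_antisymm hle (Submodule.le_of_le_smul_of_le_jacobson_bot (IsNoetherian.noetherian _)
    (maximalIdeal_le_jacobson ⊥) ?_)
  rw [smul_eq_mul, ← sq]
  conv_lhs => rw [show n = Ideal.span {x', y'} from hxy.symm]
  rw [Ideal.span_le]
  rintro z (rfl | rfl)
  · simpa using sub_mem key₁ (Ideal.mem_sup_right hl₁x)
  · simpa using sub_mem key₂ (Ideal.mem_sup_right hl₂y)

end IsPointPresentation

end Groth.Curves1.Node
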