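import Mathlib
import Groth.Agent.Curves1.Node.PointPres

/-!
# Point presentations from a chart
-/

namespace Groth.Curves1.Node

open IsLocalRing MvPolynomial TensorProduct

universe u

variable {k K R : Type u} [Field k] [Field K] [IsAlgClosed K] [Algebra k K]
  [CommRing R] [Algebra k R] [Algebra.FiniteType k R] {A A' : Type u}
  [CommRing A] [IsLocalRing A] [Algebra k A] [Algebra R A] [IsScalarTower k R A]
  [CommRing A'] [IsLocalRing A'] [Algebra K A'] [Algebra (R ⊗[k] K) A']
  (q : Ideal R) [q.IsPrime] [IsLocalization.AtPrime A q]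
  (hK : ∀ c : K, algebraMap K A' c = algebraMap (R ⊗[k] K) A' ((1 : R) ⊗ₜ[k] c))
  (q' : Ideal (R ⊗[k] K)) [q'.IsMaximal] [IsLocalization.AtPrime A' q']
  (hq : q'.comap (Algebra.TensorProduct.includeLeftRingHom : R →+* R ⊗[k] K) = q)
  (φ : A →+* A') (hφ : ∀ r : R, φ (algebraMap R A r) = algebraMap (R ⊗[k] K) A' (r ⊗ₜ[k] (1 : K)))

include hK hq hφ in
/-- A point presentation refining a given presentation of the chart. -/
theorem exists_pointPresentation' {N : ℕ} (π0 : MvPolynomial (Fin N) k →ₐ[k] R)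
    (hπ0 : Function.Surjective π0) :
    ∃ (π : MvPolynomial (Fin N) k →ₐ[k] A) (π' : MvPolynomial (Fin N) K →ₐ[K] A') (p : Fin N → K),
      (∀ g, π g = algebraMap R A (π0 g)) ∧ IsPointPresentation φ π π' p := by
  classical
  let π : MvPolynomial (Fin N) k →ₐ[k] A := (IsScalarTower.toAlgHom k R A).comp π0
  let il : R →+* R ⊗[k] K := Algebra.TensorProduct.includeLeftRingHom
  let ir : K →+* R ⊗[k] K := (Algebra.TensorProduct.includeRight : K →ₐ[k] R ⊗[k] K).toRingHom
  let θ : MvPolynomial (Fin N) K →+* R ⊗[k] K := eval₂Hom ir (fun i => il (π0 (X i)))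
  let π' : MvPolynomial (Fin N) K →ₐ[K] A' := MvPolynomial.aeval (fun i => φ (π (X i)))
  have hπ' : ∀ f, π' f = algebraMap _ A' (θ f) := by
    intro f
    have : π'.toRingHom = (algebraMap (R ⊗[k] K) A').comp θ := by
      ext c
      · simp [π', θ, ir, hK]
      · simp [π', θ, π, il, hφ]
    exact RingHom.congr_fun this f
  have hθmap : ∀ g, θ (map (algebraMap k K) g) = il (π0 g) := by
    intro g
    have : θ.comp (map (algebraMap k K)) = il.comp π0.toRingHom := by
      ext c
      · show θ (map (algebraMap k K) (C c)) = il (π0 (C c))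
        rw [map_C, ← MvPolynomial.algebraMap_eq, ← MvPolynomial.algebraMap_eq, π0.commutes]
        show eval₂Hom ir _ (C (algebraMap k K c)) = _
        rw [eval₂Hom_C]
        exact (Algebra.TensorProduct.includeRight : K →ₐ[k] R ⊗[k] K).commutes c
      · simp [θ]
    exact RingHom.congr_fun this g
  have hθsurj : Function.Surjective θ := by
    intro z
    induction z using TensorProduct.induction_on with
    | zero => exact ⟨0, map_zero _⟩
    | tmul r c =>
      obtain ⟨g, rfl⟩ := hπ0 r
      refine ⟨map (algebraMap k K) g * C c, ?_⟩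
      rw [map_mul, hθmap]
      simp [θ, il, ir]
    | add x y hx hy =>
      obtain ⟨a, rfl⟩ := hx
      obtain ⟨b, rfl⟩ := hy
      exact ⟨a + b, map_add _ _ _⟩
  have hθker : ∀ f, θ f = 0 → f ∈ (RingHom.ker π0).map (map (algebraMap k K)) := by
    intro f hf
    set J := (RingHom.ker π0).map (map (algebraMap k K))
    let β : MvPolynomial (Fin N) k →ₐ[k] MvPolynomial (Fin N) K ⧸ J :=
      (Ideal.Quotient.mkₐ k J).comp (mapAlgHom (Algebra.ofId k K))
    have hβ : ∀ g ∈ RingHom.ker π0, β g = 0 := fun g hg =>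
      Ideal.Quotient.eq_zero_iff_mem.mpr (Ideal.mem_map_of_mem _ hg)
    let α : R →ₐ[k] MvPolynomial (Fin N) K ⧸ J :=
      (Ideal.Quotient.liftₐ _ β hβ).comp (Ideal.quotientKerAlgEquivOfSurjective hπ0).symm.toAlgHom
    have hα : ∀ g, α (π0 g) = β g := by
      intro g
      show Ideal.Quotient.liftₐ _ β hβ ((Ideal.quotientKerAlgEquivOfSurjective hπ0).symm (π0 g)) = _
      rw [show π0 g = Ideal.quotientKerAlgEquivOfSurjective hπ0 (Ideal.Quotient.mk _ g) from rfl,
        AlgEquiv.symm_apply_apply]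
      rfl
    let γ : R ⊗[k] K →ₐ[k] MvPolynomial (Fin N) K ⧸ J :=
      Algebra.TensorProduct.lift α ((Ideal.Quotient.mkₐ k J).comp (IsScalarTower.toAlgHom k K _))
        (fun _ _ => Commute.all _ _)
    have hγ : γ.toRingHom.comp θ = Ideal.Quotient.mk J := by
      ext c
      · simp [θ, ir, γ, MvPolynomial.algebraMap_eq]
      · simp [θ, il, γ, hα, β]
    rw [← Ideal.Quotient.eq_zero_iff_mem, ← hγ, RingHom.comp_apply, hf, map_zero]
  -- the point
  have : (q'.comap θ).IsMaximal := Ideal.comap_isMaximal_of_surjective θ hθsurj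
  obtain ⟨p, hp⟩ := (MvPolynomial.isMaximal_iff_eq_vanishingIdeal_singleton (K := K) (σ := Fin N)).mp this
  have hker : ∀ f, θ f ∈ q' ↔ eval p f = 0 := by
    intro f
    rw [← Ideal.mem_comap, hp, mem_vanishingIdeal_singleton_iff, aeval_eq_eval]
  have hunit : ∀ f, IsUnit (π' f) ↔ eval p f ≠ 0 := fun f => by
    rw [hπ', IsLocalization.AtPrime.isUnit_to_map_iff A' q']
    exact not_congr (hker f)
  have hcomm : ∀ g, φ (π g) = π' (map (algebraMap k K) g) := fun g => by
    rw [hπ', hθmap]
    exact hφ _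
  have hlocal : IsLocalHom φ := by
    refine ⟨fun a ha => ?_⟩
    obtain ⟨r, s, rfl⟩ := IsLocalization.exists_mk'_eq q.primeCompl a
    rw [IsLocalization.AtPrime.isUnit_mk'_iff A q]
    intro hr
    have h1 : IsUnit (φ (algebraMap R A r)) := by
      rw [← IsLocalization.mk'_spec A r s, map_mul]
      exact ha.mul ((IsLocalization.map_units A s).map φ)
    rw [hφ, IsLocalization.AtPrime.isUnit_to_map_iff A' q'] at h1
    rw [← hq] at hr
    exact h1 hr
  have hflat : φ.Flat := by
    let := φ.toAlgebra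
    let : Algebra R A' := ((algebraMap (R ⊗[k] K) A').comp il).toAlgebra
    have : IsScalarTower R (R ⊗[k] K) A' := IsScalarTower.of_algebraMap_eq' rfl
    have : IsScalarTower R A A' := IsScalarTower.of_algebraMap_eq fun r => (hφ r).symm
    have : Module.Flat (R ⊗[k] K) A' := IsLocalization.flat A' q'.primeCompl
    have : Module.Flat R A' := Module.Flat.trans R (R ⊗[k] K) A'
    exact (Module.flat_iff_of_isLocalization A q.primeCompl A').mpr this
  have hfrac : ∀ a, ∃ b c, IsUnit (π b) ∧ a * π b = π c := by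
    intro a
    obtain ⟨r, s, rfl⟩ := IsLocalization.exists_mk'_eq q.primeCompl a
    obtain ⟨b, hb⟩ := hπ0 s
    obtain ⟨c, hc⟩ := hπ0 r
    refine ⟨b, c, ?_, ?_⟩
    · show IsUnit (algebraMap R A (π0 b))
      rw [hb]; exact IsLocalization.map_units A s
    · show _ * algebraMap R A (π0 b) = algebraMap R A (π0 c)
      rw [hb, hc]; exact IsLocalization.mk'_spec A r s
  refine ⟨π, π', p, fun _ => rfl, ?_⟩
  refine ⟨hlocal, hflat, hcomm, hfrac, fun a => ?_, hunit, fun f hf => ?_⟩
  · obtain ⟨r, s, rfl⟩ := IsLocalization.exists_mk'_eq q'.primeCompl a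
    obtain ⟨b, hb⟩ := hθsurj s
    obtain ⟨c, hc⟩ := hθsurj r
    refine ⟨b, c, ?_, ?_⟩
    · rw [hπ', hb]; exact IsLocalization.map_units A' s
    · rw [hπ', hπ', hb, hc]; exact IsLocalization.mk'_spec A' r s
  · rw [hπ', IsLocalization.map_eq_zero_iff q'.primeCompl] at hf
    obtain ⟨t, ht⟩ := hf
    obtain ⟨s, hs⟩ := hθsurj t
    refine ⟨s, fun h0 => t.2 (show (t : R ⊗[k] K) ∈ q' from hs ▸ (hker s).mpr h0), ?_⟩
    refine Ideal.map_mono (fun g hg => ?_) (hθker _ (by rw [map_mul, hs, ht]))
    show algebraMap R A (π0 g) = 0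
    rw [RingHom.mem_ker.mp hg, map_zero]

include hK hq hφ in
/-- The local ring of a chart at a closed point and the local ring at a geometric point above it have
a point presentation. -/
theorem exists_pointPresentation :
    ∃ (N : ℕ) (π : MvPolynomial (Fin N) k →ₐ[k] A) (π' : MvPolynomial (Fin N) K →ₐ[K] A')
      (p : Fin N → K), IsPointPresentation φ π π' p := by
  obtain ⟨N, π0, hπ0⟩ := Algebra.FiniteType.iff_quotient_mvPolynomial''.mp ‹Algebra.FiniteType k R›
  obtain ⟨π, π', p, -, h⟩ := exists_pointPresentation' q hK q' hq φ hφ π0 hπ0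
  exact ⟨N, π, π', p, h⟩

end Groth.Curves1.Node
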