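import Mathlib
import Groth.Prelude.Def_Curv2
import Groth.Agent.VarietyBC.BC
import Groth.Agent.VarietyBC.SmoothChart
import Groth.Agent.Curves1.Node.ChartPres

/-!
# Point presentations of the stalks of a base change
-/

set_option linter.style.haveILetI false

open CategoryTheory CategoryTheory.Limits AlgebraicGeometry TensorProduct

universe u

namespace Groth.Curves1.Node

attribute [local instance] Curv2.resAlgebra Curv2.stalkAlgebra

theorem germ_app_congr {X Y : Scheme.{u}} {f g : Y ⟶ X} (h : f = g) (U : X.Opens) (y : Y)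
    (hy : f y ∈ U) (hy' : g y ∈ U) (r : Γ(X, U)) :
    Y.presheaf.germ (f ⁻¹ᵁ U) y hy (f.app U r) = Y.presheaf.germ (g ⁻¹ᵁ U) y hy' (g.app U r) := by
  subst h; rfl

variable {k : Type u} [Field k] {X : Scheme.{u}} [X.Over (Spec (CommRingCat.of k))]
  [LocallyOfFiniteType (X ↘ (Spec (CommRingCat.of k)))]
  (K : Type u) [Field K] [IsAlgClosed K] [Algebra k K]

/-- The local rings at a closed point of the base change to an algebraically closed field and at its
image have a point presentation. -/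
theorem exists_stalk_presentation (xb : Curv2.bc k X K)
    (hxb : IsClosed ({xb} : Set (Curv2.bc k X K))) :
    letI : (Curv2.bc k X K).Over (Spec (CommRingCat.of K)) := ⟨Curv2.bcSnd k X K⟩
    letI := Curv2.stalkAlgebra K (Curv2.bc k X K) xb
    ∃ (N : ℕ) (π : MvPolynomial (Fin N) k →ₐ[k] X.presheaf.stalk (Curv2.bcFst k X K xb))
      (π' : MvPolynomial (Fin N) K →ₐ[K] (Curv2.bc k X K).presheaf.stalk xb) (p : Fin N → K),
      IsPointPresentation ((Curv2.bcFst k X K).stalkMap xb).hom π π' p := by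
  obtain ⟨_, ⟨U, hU, rfl⟩, hxU, -⟩ :=
    X.isBasis_affineOpens.exists_subset_of_mem_open (Set.mem_univ (Curv2.bcFst k X K xb)) isOpen_univ
  letI := (Groth.VarietyBC.openMap (k := k) hU).toAlgebra
  have hm : Groth.VarietyBC.OverSpec (k := k) Γ(X, U) hU.fromSpec :=
    ⟨Groth.VarietyBC.fromSpec_str hU⟩
  have : IsOpenImmersion hU.fromSpec := hU.isOpenImmersion_fromSpec
  obtain ⟨P, rfl⟩ : xb ∈ Set.range (Groth.VarietyBC.tensorTo K hm) := by
    rw [Groth.VarietyBC.range_tensorTo K hm, hU.range_fromSpec]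
    exact hxU
  set j := Groth.VarietyBC.tensorTo K hm
  have : IsOpenImmersion j := Groth.VarietyBC.isOpenImmersion_tensorTo K hm
  set x := Curv2.bcFst k X K (j P)
  letI : (Curv2.bc k X K).Over (Spec (CommRingCat.of K)) := ⟨Curv2.bcSnd k X K⟩
  letI := Curv2.stalkAlgebra K (Curv2.bc k X K) (j P)
  letI := TopCat.Presheaf.algebra_section_stalk X.presheaf (⟨x, hxU⟩ : U)
  have hloc : IsLocalization.AtPrime (X.presheaf.stalk x) (hU.primeIdealOf ⟨x, hxU⟩).asIdeal :=
    hU.isLocalization_stalk ⟨x, hxU⟩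
  have : IsScalarTower k Γ(X, U) (X.presheaf.stalk x) :=
    IsScalarTower.of_algebraMap_eq' (Groth.VarietyBC.germ_openMap hU hxU).symm
  have : Algebra.FiniteType k Γ(X, U) := Groth.VarietyBC.finiteType_openMap hU
  -- the prime upstairs
  let il : Γ(X, U) →+* Γ(X, U) ⊗[k] K := Algebra.TensorProduct.includeLeftRingHom
  have hP : Spec.map (CommRingCat.ofHom il) P = hU.primeIdealOf ⟨x, hxU⟩ := by
    apply hU.fromSpec.isOpenEmbedding.injective
    rw [hU.fromSpec_primeIdealOf]
    exact (Groth.VarietyBC.tensorTo_fst_apply K hm P).symm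
  let Q : PrimeSpectrum (Γ(X, U) ⊗[k] K) := P
  have : Q.asIdeal.IsMaximal := by
    rw [← PrimeSpectrum.isClosed_singleton_iff_isMaximal]
    exact preimage_closedPoints_subset j.isOpenEmbedding.injective j.continuous hxb
  -- the localisation upstairs
  let toSt : CommRingCat.of (Γ(X, U) ⊗[k] K) ⟶
      (Spec (CommRingCat.of (Γ(X, U) ⊗[k] K))).presheaf.stalk P :=
    (Scheme.ΓSpecIso _).inv ≫ (Spec (CommRingCat.of (Γ(X, U) ⊗[k] K))).presheaf.germ ⊤ P trivial
  letI : Algebra (Γ(X, U) ⊗[k] K) ((Spec (CommRingCat.of (Γ(X, U) ⊗[k] K))).presheaf.stalk P) :=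
    toSt.hom.toAlgebra
  have hlocP : IsLocalization.AtPrime ((Spec (CommRingCat.of (Γ(X, U) ⊗[k] K))).presheaf.stalk P)
      Q.asIdeal := StructureSheaf.IsLocalization.to_stalk _ _
  letI : Algebra (Γ(X, U) ⊗[k] K) ((Curv2.bc k X K).presheaf.stalk (j P)) :=
    (toSt ≫ inv (j.stalkMap P)).hom.toAlgebra
  have hloc' : IsLocalization.AtPrime ((Curv2.bc k X K).presheaf.stalk (j P)) Q.asIdeal :=
    IsLocalization.isLocalization_of_algEquiv _
      (AlgEquiv.ofRingEquiv (f := (asIso (j.stalkMap P)).commRingCatIsoToRingEquiv.symm)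
        fun _ => rfl)
  have hinj : Function.Injective (j.stalkMap P) :=
    ((ConcreteCategory.isIso_iff_bijective _).mp inferInstance).1
  have halg : ∀ z, j.stalkMap P (algebraMap (Γ(X, U) ⊗[k] K) ((Curv2.bc k X K).presheaf.stalk (j P)) z) =
      toSt z := fun z => by
    show (inv (j.stalkMap P) ≫ j.stalkMap P) (toSt z) = _
    rw [IsIso.inv_hom_id]
    rfl
  refine exists_pointPresentation (hU.primeIdealOf ⟨x, hxU⟩).asIdeal (fun c => hinj ?_) Q.asIdeal ?_
    ((Curv2.bcFst k X K).stalkMap (j P)).hom (fun r => hinj ?_)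
  · rw [halg]
    show j.stalkMap P ((Curv2.bc k X K).presheaf.germ ⊤ (j P) trivial
      ((Curv2.bcSnd k X K).appTop ((Scheme.ΓSpecIso (CommRingCat.of K)).inv c))) = _
    rw [Scheme.Hom.germ_stalkMap_apply]
    have h1 : (Curv2.bcSnd k X K).appTop ≫ j.app ⊤ = (Spec.map (CommRingCat.ofHom
        (Algebra.TensorProduct.includeRight (R := k) (A := Γ(X, U)) (B := K)).toRingHom)).appTop := by
      rw [← Groth.VarietyBC.tensorTo_snd K hm, Scheme.Hom.comp_appTop]
      rfl
    have h2 := congrArg (fun m => (Scheme.ΓSpecIso (CommRingCat.of K)).inv ≫ m) h1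
    replace h2 := h2.trans (Scheme.ΓSpecIso_inv_naturality _).symm
    exact congrArg ((Spec (CommRingCat.of (Γ(X, U) ⊗[k] K))).presheaf.germ ⊤ P trivial)
      (congrArg (fun m => m c) h2)
  · exact congrArg PrimeSpectrum.asIdeal hP
  · rw [halg]
    show j.stalkMap P ((Curv2.bcFst k X K).stalkMap (j P) (X.presheaf.germ U x hxU r)) = _
    rw [Scheme.Hom.germ_stalkMap_apply, Scheme.Hom.germ_stalkMap_apply]
    have hy : (Spec.map (CommRingCat.ofHom il) ≫ hU.fromSpec) P ∈ U := by
      rw [Scheme.Hom.comp_apply, hP, hU.fromSpec_primeIdealOf]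
      exact hxU
    refine (germ_app_congr (Groth.VarietyBC.tensorTo_fst K hm) U P hxU hy r).trans ?_
    rw [Scheme.Hom.comp_app]
    show (Spec (CommRingCat.of (Γ(X, U) ⊗[k] K))).presheaf.germ
      ((Spec.map (CommRingCat.ofHom il)) ⁻¹ᵁ (hU.fromSpec ⁻¹ᵁ U)) P hy
      ((Spec.map (CommRingCat.ofHom il)).app (hU.fromSpec ⁻¹ᵁ U) (hU.fromSpec.app U r)) = _
    rw [← Scheme.Hom.germ_stalkMap_apply]
    have hres : (Spec Γ(X, U)).presheaf.germ (hU.fromSpec ⁻¹ᵁ U) (Spec.map (CommRingCat.ofHom il) P) hy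
        (hU.fromSpec.app U r) = (Spec Γ(X, U)).presheaf.germ ⊤ (Spec.map (CommRingCat.ofHom il) P) trivial
        ((Scheme.ΓSpecIso Γ(X, U)).inv r) := by
      rw [hU.fromSpec_app_self]
      exact TopCat.Presheaf.germ_res_apply _ _ _ _ _
    refine (congrArg _ hres).trans ?_
    refine (Scheme.Hom.germ_stalkMap_apply (Spec.map (CommRingCat.ofHom il)) ⊤ P trivial _).trans ?_
    show (Spec (CommRingCat.of (Γ(X, U) ⊗[k] K))).presheaf.germ ⊤ P trivial
      (((Scheme.ΓSpecIso Γ(X, U)).inv ≫ (Spec.map (CommRingCat.ofHom il)).appTop) r) = _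
    refine (congrArg _ (congrArg (fun m => m r) (Scheme.ΓSpecIso_inv_naturality _).symm)).trans ?_
    rfl

end Groth.Curves1.Node
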