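import Mathlib
import Groth.Agent.Curves1.Node.Criterion

/-!
# Transfer of the quadric criterion along flat local maps preserving the maximal ideal
-/

namespace Groth.Curves1.Node

open IsLocalRing Groth.SGA7.PS

universe u v

section Relation

variable {κ : Type v} [Field κ] {a b c : κ}

/-- Constant term on the quadric. -/
noncomputable def cc (a b c : κ) : Quadric a b c →+* κ :=
  Ideal.Quotient.lift _ MvPowerSeries.constantCoeff fun z hz => by
    obtain ⟨w, rfl⟩ := Ideal.mem_span_singleton'.mp hz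
    rw [map_mul, (mem_varIdeal_iff _).mp (quad_mem_varIdeal a b c), mul_zero]

theorem isUnit_of_cc_ne_zero {z : Quadric a b c} (h : cc a b c z ≠ 0) : IsUnit z := by
  obtain ⟨f, rfl⟩ := Ideal.Quotient.mk_surjective z
  exact (MvPowerSeries.isUnit_iff_constantCoeff.mpr (isUnit_iff_ne_zero.mpr h)).map _

theorem exists_lift_pow {n : ℕ} {z : Quadric a b c} (hz : z ∈ maximalIdeal (Quadric a b c) ^ n) :
    ∃ G ∈ varIdeal (Fin 2) κ ^ n, Ideal.Quotient.mk (Ideal.span {quad a b c}) G = z := by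
  have h : maximalIdeal (Quadric a b c) =
      (varIdeal (Fin 2) κ).map (Ideal.Quotient.mk (Ideal.span {quad a b c})) := by
    rw [← quadric_maximalIdeal, varIdeal, Ideal.map_span, ← Set.range_comp]
    congr 1
    ext w
    simp [Fin.exists_fin_two, eq_comm]
  rw [h, ← Ideal.map_pow, Ideal.mem_map_iff_of_surjective _ Ideal.Quotient.mk_surjective] at hz
  exact hz

local notation "qu" => Ideal.Quotient.mk (Ideal.span {quad a b c}) (MvPowerSeries.X 0)
local notation "qv" => Ideal.Quotient.mk (Ideal.span {quad a b c}) (MvPowerSeries.X 1)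

theorem linear_relation {α β : Quadric a b c}
    (h : α * qu + β * qv ∈ maximalIdeal (Quadric a b c) ^ 2) :
    cc a b c α = 0 ∧ cc a b c β = 0 := by
  obtain ⟨α, rfl⟩ := Ideal.Quotient.mk_surjective α
  obtain ⟨β, rfl⟩ := Ideal.Quotient.mk_surjective β
  obtain ⟨G, hG, hGeq⟩ := exists_lift_pow h
  rw [← map_mul, ← map_mul, ← map_add, Ideal.Quotient.eq, Ideal.mem_span_singleton] at hGeq
  obtain ⟨w, hw⟩ := hGeq
  have he : ee 0 0 = 0 := by simp [ee]
  have hG0 : ∀ i j, i + j = 1 → MvPowerSeries.coeff (ee i j) G = 0 := fun i j hij =>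
    Groth.Calg6.coeff_eq_zero_of_mem_varIdeal_pow _ hG _ (by simp [ee, map_add, Finsupp.degree_single]; omega)
  have key : ∀ i j, i + j = 1 →
      MvPowerSeries.coeff (ee i j) (MvPowerSeries.X 0 * α + MvPowerSeries.X 1 * β) = 0 := by
    intro i j hij
    have h1 := congrArg (MvPowerSeries.coeff (ee i j)) hw
    rw [map_sub, hG0 i j hij, coeff_quad_mul, if_neg (by omega), if_neg (by omega), if_neg (by omega),
      add_zero, add_zero, zero_sub, neg_eq_zero] at h1
    rw [← h1]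
    congr 1
    ring
  have k1 := key 1 0 rfl
  have k2 := key 0 1 rfl
  simp [coeff_X_zero_mul, coeff_X_one_mul, he] at k1 k2
  exact ⟨k1, k2⟩

theorem quadratic_relation {α β γ : Quadric a b c}
    (h : α * qu ^ 2 + β * qu * qv + γ * qv ^ 2 ∈ maximalIdeal (Quadric a b c) ^ 3) :
    ∃ l, cc a b c α = l * a ∧ cc a b c β = l * b ∧ cc a b c γ = l * c := by
  obtain ⟨α, rfl⟩ := Ideal.Quotient.mk_surjective α
  obtain ⟨β, rfl⟩ := Ideal.Quotient.mk_surjective β
  obtain ⟨γ, rfl⟩ := Ideal.Quotient.mk_surjective γ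
  obtain ⟨G, hG, hGeq⟩ := exists_lift_pow h
  rw [← map_pow, ← map_pow, ← map_mul, ← map_mul, ← map_mul, ← map_mul, ← map_add, ← map_add,
    Ideal.Quotient.eq, Ideal.mem_span_singleton] at hGeq
  obtain ⟨w, hw⟩ := hGeq
  have he : ee 0 0 = 0 := by simp [ee]
  have hG0 : ∀ i j, i + j = 2 → MvPowerSeries.coeff (ee i j) G = 0 := fun i j hij =>
    Groth.Calg6.coeff_eq_zero_of_mem_varIdeal_pow _ hG _ (by simp [ee, map_add, Finsupp.degree_single]; omega)
  set F := MvPowerSeries.X 0 * (MvPowerSeries.X 0 * α) + MvPowerSeries.X 0 * (MvPowerSeries.X 1 * β) +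
    MvPowerSeries.X 1 * (MvPowerSeries.X 1 * γ) with hF
  have hFw : G - F = quad a b c * w := by rw [← hw, hF]; ring
  refine ⟨- MvPowerSeries.constantCoeff w, ?_, ?_, ?_⟩
  · have h1 := congrArg (MvPowerSeries.coeff (ee 2 0)) hFw
    rw [map_sub, hG0 2 0 rfl, coeff_quad_mul] at h1
    simp [hF, coeff_X_zero_mul, coeff_X_one_mul, he] at h1
    show MvPowerSeries.constantCoeff α = _
    linear_combination -h1
  · have h1 := congrArg (MvPowerSeries.coeff (ee 1 1)) hFw
    rw [map_sub, hG0 1 1 rfl, coeff_quad_mul] at h1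
    simp [hF, coeff_X_zero_mul, coeff_X_one_mul, he] at h1
    show MvPowerSeries.constantCoeff β = _
    linear_combination -h1
  · have h1 := congrArg (MvPowerSeries.coeff (ee 0 2)) hFw
    rw [map_sub, hG0 0 2 rfl, coeff_quad_mul] at h1
    simp [hF, coeff_X_zero_mul, coeff_X_one_mul, he] at h1
    show MvPowerSeries.constantCoeff γ = _
    linear_combination -h1

/-- On a nondegenerate quadric, a quadratic relation modulo `m³` between generators of the maximal
ideal whose coefficients are not all in the maximal ideal is nondegenerate. -/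
theorem disc_ne_zero_of_relation (hD : 4 * a * c - b ^ 2 ≠ 0) {U V α β γ : Quadric a b c}
    (hUV : Ideal.span {U, V} = maximalIdeal (Quadric a b c))
    (h : α * U ^ 2 + β * U * V + γ * V ^ 2 ∈ maximalIdeal (Quadric a b c) ^ 3)
    (hne : ¬ (cc a b c α = 0 ∧ cc a b c β = 0 ∧ cc a b c γ = 0)) :
    cc a b c (4 * α * γ - β ^ 2) ≠ 0 := by
  have hU : U ∈ maximalIdeal (Quadric a b c) := hUV ▸ Ideal.subset_span (Set.mem_insert _ _)
  have hV : V ∈ maximalIdeal (Quadric a b c) := hUV ▸ Ideal.subset_span (Set.mem_insert_of_mem _ rfl)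
  rw [← quadric_maximalIdeal] at hU hV
  obtain ⟨r₁, s₁, hU'⟩ := Ideal.mem_span_pair.mp hU
  obtain ⟨r₂, s₂, hV'⟩ := Ideal.mem_span_pair.mp hV
  have hu : qu ∈ maximalIdeal (Quadric a b c) :=
    quadric_maximalIdeal a b c ▸ Ideal.subset_span (Set.mem_insert _ _)
  have hv : qv ∈ maximalIdeal (Quadric a b c) :=
    quadric_maximalIdeal a b c ▸ Ideal.subset_span (Set.mem_insert_of_mem _ rfl)
  rw [← hUV] at hu hv
  obtain ⟨p₁, q₁, hu'⟩ := Ideal.mem_span_pair.mp hu
  obtain ⟨p₂, q₂, hv'⟩ := Ideal.mem_span_pair.mp hv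
  set χ := cc a b c
  obtain ⟨e11, e12⟩ := linear_relation (a := a) (b := b) (c := c) (α := p₁ * r₁ + q₁ * r₂ - 1)
    (β := p₁ * s₁ + q₁ * s₂) (by
      rw [show (p₁ * r₁ + q₁ * r₂ - 1) * qu + (p₁ * s₁ + q₁ * s₂) * qv =
        p₁ * (r₁ * qu + s₁ * qv) + q₁ * (r₂ * qu + s₂ * qv) - qu by ring, hU', hV', hu', sub_self]
      exact zero_mem _)
  obtain ⟨e21, e22⟩ := linear_relation (a := a) (b := b) (c := c) (α := p₂ * r₁ + q₂ * r₂)
    (β := p₂ * s₁ + q₂ * s₂ - 1) (by
      rw [show (p₂ * r₁ + q₂ * r₂) * qu + (p₂ * s₁ + q₂ * s₂ - 1) * qv =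
        p₂ * (r₁ * qu + s₁ * qv) + q₂ * (r₂ * qu + s₂ * qv) - qv by ring, hU', hV', hv', sub_self]
      exact zero_mem _)
  simp only [map_add, map_sub, map_mul, map_one] at e11 e12 e21 e22
  set δ := χ r₁ * χ s₂ - χ r₂ * χ s₁
  have hδ : δ ≠ 0 := by
    intro h0
    have : (χ p₁ * χ q₂ - χ p₂ * χ q₁) * δ = 1 := by
      simp only [δ]
      linear_combination (χ p₂ * χ s₁ + χ q₂ * χ s₂) * e11 + e22 -
        (χ p₂ * χ r₁ + χ q₂ * χ r₂) * e12
    rw [h0, mul_zero] at this
    exact zero_ne_one this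
  obtain ⟨l, hA, hB, hC⟩ := quadratic_relation (a := a) (b := b) (c := c)
    (α := α * r₁ ^ 2 + β * r₁ * r₂ + γ * r₂ ^ 2)
    (β := 2 * α * r₁ * s₁ + β * (r₁ * s₂ + r₂ * s₁) + 2 * γ * r₂ * s₂)
    (γ := α * s₁ ^ 2 + β * s₁ * s₂ + γ * s₂ ^ 2) (by
      convert h using 1
      rw [← hU', ← hV']
      ring)
  simp only [map_add, map_mul, map_pow, map_ofNat] at hA hB hC
  intro hdisc
  simp only [map_sub, map_mul, map_pow, map_ofNat] at hdisc
  have hl : l = 0 := by
    have : l ^ 2 * (4 * a * c - b ^ 2) = 0 := by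
      have hA' : l * a = _ := hA.symm
      have hB' : l * b = _ := hB.symm
      have hC' : l * c = _ := hC.symm
      rw [show l ^ 2 * (4 * a * c - b ^ 2) = 4 * (l * a) * (l * c) - (l * b) ^ 2 by ring, hA', hB', hC']
      linear_combination δ ^ 2 * hdisc
    exact sq_eq_zero_iff.mp ((mul_eq_zero.mp this).resolve_right hD)
  rw [hl, zero_mul] at hA hB hC
  refine hne ⟨?_, ?_, ?_⟩
  · refine (mul_eq_zero.mp (?_ : δ ^ 2 * χ α = 0)).resolve_left (pow_ne_zero _ hδ)
    simp only [δ]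
    linear_combination χ s₂ ^ 2 * hA - χ s₂ * χ r₂ * hB + χ r₂ ^ 2 * hC
  · refine (mul_eq_zero.mp (?_ : δ ^ 2 * χ β = 0)).resolve_left (pow_ne_zero _ hδ)
    simp only [δ]
    linear_combination -2 * χ s₁ * χ s₂ * hA + (χ s₂ * χ r₁ + χ r₂ * χ s₁) * hB -
      2 * χ r₁ * χ r₂ * hC
  · refine (mul_eq_zero.mp (?_ : δ ^ 2 * χ γ = 0)).resolve_left (pow_ne_zero _ hδ)
    simp only [δ]
    linear_combination χ s₁ ^ 2 * hA - χ s₁ * χ r₁ * hB + χ r₁ ^ 2 * hC

end Relation

section Transfer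

variable {A : Type u} [CommRing A] [IsLocalRing A] [IsNoetherianRing A] {A' : Type u} [CommRing A']
  [IsLocalRing A'] [IsNoetherianRing A'] (φ : A →+* A') [IsLocalHom φ]

/-- If the completion of `A'` is a nondegenerate quadric, relations between generators are
nondegenerate. -/
theorem residue_disc_ne_zero {κ : Type v} [Field κ] {a b c : κ} (hD : 4 * a * c - b ^ 2 ≠ 0)
    (e : AdicCompletion (maximalIdeal A') A' ≃+* Quadric a b c) {X Y α β γ : A'}
    (hXY : Ideal.span {X, Y} = maximalIdeal A')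
    (h : α * X ^ 2 + β * X * Y + γ * Y ^ 2 ∈ maximalIdeal A' ^ 3)
    (hne : ¬ (α ∈ maximalIdeal A' ∧ β ∈ maximalIdeal A' ∧ γ ∈ maximalIdeal A')) :
    residue A' (4 * α * γ - β ^ 2) ≠ 0 := by
  set j := e.toRingHom.comp (algebraMap A' (AdicCompletion (maximalIdeal A') A'))
  have hcc : ∀ z ∈ maximalIdeal A', cc a b c (j z) = 0 := by
    intro z hz
    by_contra h0
    have hu := (isUnit_of_cc_ne_zero h0).map e.symm
    simp only [j, RingHom.comp_apply, RingEquiv.toRingHom_eq_coe, RingEquiv.coe_toRingHom,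
      RingEquiv.symm_apply_apply] at hu
    exact (mem_maximalIdeal _).mp hz (isUnit_of_map_unit _ _ hu)
  have hunit : ∀ z, z ∉ maximalIdeal A' → cc a b c (j z) ≠ 0 := by
    intro z hz
    rw [mem_maximalIdeal, mem_nonunits_iff, not_not] at hz
    exact ((hz.map j).map (cc a b c)).ne_zero
  have hm : (maximalIdeal A').map j = maximalIdeal (Quadric a b c) := by
    rw [show j = e.toRingHom.comp _ from rfl, ← Ideal.map_map, ← AdicCompletion.maximalIdeal_eq_map]
    refine le_antisymm (Ideal.map_le_iff_le_comap.mpr fun z hz => ?_) fun z hz => ?_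
    · rw [Ideal.mem_comap, mem_maximalIdeal, mem_nonunits_iff]
      intro hu
      exact (mem_maximalIdeal _).mp hz (by simpa using hu.map e.symm)
    · rw [show z = e.toRingHom (e.symm z) from (e.apply_symm_apply z).symm]
      refine Ideal.mem_map_of_mem _ ?_
      rw [mem_maximalIdeal, mem_nonunits_iff] at hz ⊢
      exact fun hu => hz (by simpa using hu.map e)
  have hjXY : Ideal.span {j X, j Y} = maximalIdeal (Quadric a b c) := by
    rw [← hm, ← hXY, Ideal.map_span, Set.image_pair]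
  have hj3 := Ideal.mem_map_of_mem j h
  rw [Ideal.map_pow, hm] at hj3
  simp only [map_add, map_mul, map_pow] at hj3
  have := disc_ne_zero_of_relation hD hjXY hj3 fun ⟨h1, h2, h3⟩ => hne
    ⟨by_contra fun hc => hunit _ hc h1, by_contra fun hc => hunit _ hc h2,
      by_contra fun hc => hunit _ hc h3⟩
  intro h0
  rw [residue_eq_zero_iff] at h0
  apply this
  have h4 := hcc _ h0
  simpa [map_ofNat] using h4

omit [IsNoetherianRing A] [IsLocalHom φ] in
/-- A minimal pair of generators may be chosen among images. -/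
theorem exists_pair_generators {x' y' : A'} (hxy : Ideal.span {x', y'} = maximalIdeal A')
    (hnp : ∀ z ∈ maximalIdeal A', ¬ maximalIdeal A' ≤ Ideal.span {z})
    (hm : (maximalIdeal A).map φ = maximalIdeal A') :
    ∃ x ∈ maximalIdeal A, ∃ y ∈ maximalIdeal A, Ideal.span {φ x, φ y} = maximalIdeal A' := by
  set n := maximalIdeal A' with hn
  have hnak : ∀ z ∈ n, n ≤ Ideal.span {z} ⊔ n ^ 2 → False := fun z hz hle => hnp z hz <|
    Submodule.le_of_le_smul_of_le_jacobson_bot (IsNoetherian.noetherian _)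
      (maximalIdeal_le_jacobson ⊥) (hle.trans_eq (by rw [smul_eq_mul, sq]))
  have hx'm : x' ∈ n := hxy ▸ Ideal.subset_span (Set.mem_insert _ _)
  have hy'm : y' ∈ n := hxy ▸ Ideal.subset_span (Set.mem_insert_of_mem _ rfl)
  obtain ⟨x, hx, hx2⟩ : ∃ x ∈ maximalIdeal A, φ x ∉ n ^ 2 := by
    by_contra hall
    push Not at hall
    have h1 : n ≤ n ^ 2 := hm.ge.trans (Ideal.map_le_iff_le_comap.mpr hall)
    exact hnak 0 (zero_mem _) (h1.trans le_sup_right)
  have hφx : φ x ∈ n := hm.le (Ideal.mem_map_of_mem _ hx)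
  obtain ⟨y, hy, hy2⟩ : ∃ y ∈ maximalIdeal A, φ y ∉ Ideal.span {φ x} ⊔ n ^ 2 := by
    by_contra hall
    push Not at hall
    exact hnak _ hφx (hm.ge.trans (Ideal.map_le_iff_le_comap.mpr hall))
  have hφy : φ y ∈ n := hm.le (Ideal.mem_map_of_mem _ hy)
  refine ⟨x, hx, y, hy, ?_⟩
  rw [← hxy] at hφx hφy
  obtain ⟨α, β, hαβ⟩ := Ideal.mem_span_pair.mp hφx
  obtain ⟨γ, δ, hγδ⟩ := Ideal.mem_span_pair.mp hφy
  have hdet : IsUnit (α * δ - β * γ) := by
    by_contra hnu
    have hmem : α * δ - β * γ ∈ n := by rwa [hn, mem_maximalIdeal, mem_nonunits_iff]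
    by_cases hα : IsUnit α
    · obtain ⟨ε, hε⟩ := isUnit_iff_exists_inv.mp hα
      apply hy2
      rw [show φ y = γ * ε * φ x + (α * δ - β * γ) * ε * y' by
        rw [← hαβ, ← hγδ]; linear_combination -(γ * x' + δ * y') * hε]
      refine Submodule.add_mem_sup (Ideal.mem_span_singleton'.mpr ⟨_, rfl⟩) ?_
      rw [sq, mul_assoc]
      exact Ideal.mul_mem_mul hmem (Ideal.mul_mem_left _ _ hy'm)
    by_cases hβ : IsUnit β
    · obtain ⟨ε, hε⟩ := isUnit_iff_exists_inv.mp hβ
      apply hy2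
      rw [show φ y = δ * ε * φ x + (α * δ - β * γ) * (-ε * x') by
        rw [← hαβ, ← hγδ]; linear_combination -(γ * x' + δ * y') * hε]
      refine Submodule.add_mem_sup (Ideal.mem_span_singleton'.mpr ⟨_, rfl⟩) ?_
      rw [sq]
      exact Ideal.mul_mem_mul hmem (Ideal.mul_mem_left _ _ hx'm)
    · apply hx2
      rw [← hαβ, sq]
      exact add_mem (Ideal.mul_mem_mul (by rwa [hn, mem_maximalIdeal, mem_nonunits_iff]) hx'm)
        (Ideal.mul_mem_mul (by rwa [hn, mem_maximalIdeal, mem_nonunits_iff]) hy'm)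
  obtain ⟨ε, hε⟩ := isUnit_iff_exists_inv.mp hdet
  refine le_antisymm (Ideal.span_le.mpr ?_) ?_
  · rintro z (rfl | rfl)
    exacts [hm.le (Ideal.mem_map_of_mem _ hx), hm.le (Ideal.mem_map_of_mem _ hy)]
  · rw [← hxy, Ideal.span_le]
    rintro z (rfl | rfl)
    · exact Ideal.mem_span_pair.mpr ⟨δ * ε, -β * ε, by
        rw [← hαβ, ← hγδ]; linear_combination z * hε⟩
    · exact Ideal.mem_span_pair.mpr ⟨-γ * ε, α * ε, by
        rw [← hαβ, ← hγδ]; linear_combination z * hε⟩

theorem maximalIdeal_pow_three_eq {R : Type u} [CommRing R] [IsLocalRing R] {X Y e : R}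
    (hXY : Ideal.span {X, Y} = maximalIdeal R) (he : e ∈ maximalIdeal R ^ 3) :
    ∃ p ∈ maximalIdeal R, ∃ q ∈ maximalIdeal R, ∃ r ∈ maximalIdeal R,
      e = p * X ^ 2 + q * X * Y + r * Y ^ 2 := by
  have h : maximalIdeal R ^ 3 = maximalIdeal R * (Ideal.span {X, Y} * Ideal.span {X, Y}) := by
    rw [hXY]; ring
  rw [h] at he
  refine Submodule.mul_induction_on he (fun m hm z hz => ?_) ?_
  · obtain ⟨z₁, -, z₂, -, hz'⟩ := exists_eq_mul_add_mul (I := ⊤)
      (Ideal.mul_mono_right le_top hz)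
    obtain ⟨a₁, ha₁, a₂, ha₂, hzz⟩ := exists_eq_mul_add_mul hz
    obtain ⟨u₁, v₁, rfl⟩ := Ideal.mem_span_pair.mp ha₁
    obtain ⟨u₂, v₂, rfl⟩ := Ideal.mem_span_pair.mp ha₂
    exact ⟨m * u₁, Ideal.mul_mem_right _ _ hm, m * (v₁ + u₂), Ideal.mul_mem_right _ _ hm,
      m * v₂, Ideal.mul_mem_right _ _ hm, by rw [hzz]; ring⟩
  · rintro _ _ ⟨p, hp, q, hq, r, hr, rfl⟩ ⟨p', hp', q', hq', r', hr', rfl⟩
    exact ⟨p + p', add_mem hp hp', q + q', add_mem hq hq', r + r', add_mem hr hr', by ring⟩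

omit [IsNoetherianRing A] in
/-- Descent of the criterion. -/
theorem descend (hflat : φ.Flat) (hm : (maximalIdeal A).map φ = maximalIdeal A') {κ : Type v}
    [Field κ] {a b c : κ} (hD : 4 * a * c - b ^ 2 ≠ 0)
    (e : AdicCompletion (maximalIdeal A') A' ≃+* Quadric a b c) :
    IsReduced A ∧ IsQuadraticCriterion A := by
  algebraize [φ]
  have : Module.FaithfullyFlat A A' := by
    have : IsLocalHom (algebraMap A A') := ‹IsLocalHom φ›
    exact Module.FaithfullyFlat.of_flat_of_isLocalHom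
  have hinj : Function.Injective φ := FaithfulSMul.algebraMap_injective A A'
  obtain ⟨hred, hnp, x', y', a', b', c', hxy, hD', hQ⟩ := criterion_of_equiv hD e
  refine ⟨isReduced_of_injective φ hinj, ?_⟩
  obtain ⟨x, hx, y, hy, hXY⟩ := exists_pair_generators φ hxy hnp hm
  have hcomap : ∀ (I : Ideal A), (I.map φ).comap φ = I := fun I =>
    Ideal.comap_map_eq_self_of_faithfullyFlat I
  have hxyA : Ideal.span {x, y} = maximalIdeal A := by
    rw [← hcomap (Ideal.span {x, y}), ← hcomap (maximalIdeal A), hm, Ideal.map_span, Set.image_pair, hXY]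
  refine ⟨fun z hz hle => hnp (φ z) (hm.le (Ideal.mem_map_of_mem _ hz)) ?_, ?_⟩
  · rw [← hm]
    refine (Ideal.map_mono hle).trans ?_
    rw [Ideal.map_span, Set.image_singleton]
  have hx' : x' ∈ Ideal.span {φ x, φ y} := hXY ▸ hxy ▸ Ideal.subset_span (Set.mem_insert _ _)
  have hy' : y' ∈ Ideal.span {φ x, φ y} := hXY ▸ hxy ▸ Ideal.subset_span (Set.mem_insert_of_mem _ rfl)
  obtain ⟨r₁, s₁, rfl⟩ := Ideal.mem_span_pair.mp hx'
  obtain ⟨r₂, s₂, rfl⟩ := Ideal.mem_span_pair.mp hy'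
  obtain ⟨p, hp, q, hq, r, hr, hpqr⟩ := maximalIdeal_pow_three_eq hXY hQ
  set α := a' * r₁ ^ 2 + b' * r₁ * r₂ + c' * r₂ ^ 2 - p
  set β := 2 * a' * r₁ * s₁ + b' * (r₁ * s₂ + r₂ * s₁) + 2 * c' * r₂ * s₂ - q
  set γ := a' * s₁ ^ 2 + b' * s₁ * s₂ + c' * s₂ ^ 2 - r
  have hrel : α * φ x ^ 2 + β * φ x * φ y + γ * φ y ^ 2 = 0 := by
    simp only [α, β, γ]
    linear_combination hpqr
  have hdet : IsUnit (r₁ * s₂ - r₂ * s₁) := by
    by_contra hnu
    have hmem : r₁ * s₂ - r₂ * s₁ ∈ maximalIdeal A' := by rwa [mem_maximalIdeal, mem_nonunits_iff]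
    have hX : φ x ∈ maximalIdeal A' := hm.le (Ideal.mem_map_of_mem _ hx)
    have hY : φ y ∈ maximalIdeal A' := hm.le (Ideal.mem_map_of_mem _ hy)
    have hXin : φ x ∈ Ideal.span {r₁ * φ x + s₁ * φ y, r₂ * φ x + s₂ * φ y} := hxy.symm ▸ hX
    have hYin : φ y ∈ Ideal.span {r₁ * φ x + s₁ * φ y, r₂ * φ x + s₂ * φ y} := hxy.symm ▸ hY
    obtain ⟨g₁, h₁, e1⟩ := Ideal.mem_span_pair.mp hXin
    obtain ⟨g₂, h₂, e2⟩ := Ideal.mem_span_pair.mp hYin
    by_cases hu : IsUnit (g₁ * r₁ + h₁ * r₂ - 1)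
    · obtain ⟨ε, hε⟩ := isUnit_iff_exists_inv.mp hu
      refine hnp (φ y) hY (hXY.symm.trans_le (Ideal.span_le.mpr ?_))
      rintro z (rfl | rfl)
      · exact Ideal.mem_span_singleton'.mpr ⟨-(g₁ * s₁ + h₁ * s₂) * ε, by
          linear_combination -ε * e1 + φ x * hε⟩
      · exact Ideal.mem_span_singleton_self _
    by_cases hu' : IsUnit (g₂ * s₁ + h₂ * s₂ - 1)
    · obtain ⟨ε, hε⟩ := isUnit_iff_exists_inv.mp hu'
      refine hnp (φ x) hX (hXY.symm.trans_le (Ideal.span_le.mpr ?_))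
      rintro z (rfl | rfl)
      · exact Ideal.mem_span_singleton_self _
      · exact Ideal.mem_span_singleton'.mpr ⟨-(g₂ * r₁ + h₂ * r₂) * ε, by
          linear_combination -ε * e2 + φ y * hε⟩
    by_cases hu'' : IsUnit (g₁ * s₁ + h₁ * s₂)
    · obtain ⟨ε, hε⟩ := isUnit_iff_exists_inv.mp hu''
      refine hnp (φ x) hX (hXY.symm.trans_le (Ideal.span_le.mpr ?_))
      rintro z (rfl | rfl)
      · exact Ideal.mem_span_singleton_self _
      · exact Ideal.mem_span_singleton'.mpr ⟨-(g₁ * r₁ + h₁ * r₂ - 1) * ε, by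
          linear_combination -ε * e1 + φ y * hε⟩
    have m1 : g₁ * r₁ + h₁ * r₂ - 1 ∈ maximalIdeal A' := by rwa [mem_maximalIdeal, mem_nonunits_iff]
    have m2 : g₂ * s₁ + h₂ * s₂ - 1 ∈ maximalIdeal A' := by rwa [mem_maximalIdeal, mem_nonunits_iff]
    have m3 : g₁ * s₁ + h₁ * s₂ ∈ maximalIdeal A' := by rwa [mem_maximalIdeal, mem_nonunits_iff]
    rw [← residue_eq_zero_iff] at hmem m1 m2 m3
    simp only [map_sub, map_add, map_mul, map_one] at hmem m1 m2 m3
    have : (1 : ResidueField A') = 0 := by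
      linear_combination (residue A' g₁ * residue A' h₂ - residue A' g₂ * residue A' h₁) * hmem -
        (residue A' g₂ * residue A' s₁ + residue A' h₂ * residue A' s₂) * m1 - m2 +
        (residue A' g₂ * residue A' r₁ + residue A' h₂ * residue A' r₂) * m3
    exact one_ne_zero this
  have hne : ¬ (α ∈ maximalIdeal A' ∧ β ∈ maximalIdeal A' ∧ γ ∈ maximalIdeal A') := by
    rintro ⟨h1, h2, h3⟩
    rw [← residue_eq_zero_iff] at h1 h2 h3 hp hq hr
    simp only [α, β, γ, map_sub, map_add, map_mul, map_pow, map_ofNat, hp, hq, hr, sub_zero] at h1 h2 h3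
    simp only [map_sub, map_mul, map_pow, map_ofNat] at hD'
    apply hD'
    have hd := (hdet.map (residue A')).ne_zero
    simp only [map_sub, map_mul] at hd
    refine (mul_eq_zero.mp (?_ : (residue A' r₁ * residue A' s₂ - residue A' r₂ * residue A' s₁) ^ 2 *
      (4 * residue A' a' * residue A' c' - residue A' b' ^ 2) = 0)).resolve_left (pow_ne_zero _ hd)
    linear_combination 4 * (residue A' a' * residue A' s₁ ^ 2 + residue A' b' * residue A' s₁ * residue A' s₂ +
      residue A' c' * residue A' s₂ ^ 2) * h1 -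
      (2 * residue A' a' * residue A' r₁ * residue A' s₁ + residue A' b' *
        (residue A' r₁ * residue A' s₂ + residue A' r₂ * residue A' s₁) +
        2 * residue A' c' * residue A' r₂ * residue A' s₂) * h2
  -- the equational criterion of flatness
  obtain ⟨κ', _, coef, y'', hy'', hcoef⟩ : ∃ (ι : Type u) (_ : Fintype ι) (coef : Fin 3 → ι → A)
      (ys : ι → A'), (∀ i, ![α, β, γ] i = ∑ j, coef i j • ys j) ∧
      ∀ j, x ^ 2 * coef 0 j + x * y * coef 1 j + y ^ 2 * coef 2 j = 0 := by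
    obtain ⟨κ₀, a₀, y₀, h1, h2⟩ := Module.Flat.isTrivialRelation_of_sum_smul_eq_zero (R := A)
      (M := A') (f := ![x ^ 2, x * y, y ^ 2]) (x := ![α, β, γ]) (by
        simp [Fin.sum_univ_three, Algebra.smul_def, RingHom.algebraMap_toAlgebra]
        linear_combination hrel)
    refine ⟨ULift.{u} (Fin κ₀), inferInstance, fun i j => a₀ i j.down, fun j => y₀ j.down, fun i => ?_,
      fun j => ?_⟩
    · rw [h1 i]
      exact (Equiv.sum_comp Equiv.ulift (fun j => a₀ i j • y₀ j)).symm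
    · simpa [Fin.sum_univ_three] using h2 j.down
  obtain ⟨j, hj⟩ : ∃ j, ¬ (coef 0 j ∈ maximalIdeal A ∧ coef 1 j ∈ maximalIdeal A ∧ coef 2 j ∈ maximalIdeal A) := by
    by_contra hall
    push Not at hall
    have hmem : ∀ i, (∀ j, coef i j ∈ maximalIdeal A) → ![α, β, γ] i ∈ maximalIdeal A' := fun i hi => by
      rw [hy'' i]
      refine sum_mem fun j _ => ?_
      rw [Algebra.smul_def]
      exact Ideal.mul_mem_right _ _ (hm.le (Ideal.mem_map_of_mem _ (hi j)))
    exact hne ⟨hmem 0 fun j => (hall j).1, hmem 1 fun j => (hall j).2.1, hmem 2 fun j => (hall j).2.2⟩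
  refine ⟨x, y, coef 0 j, coef 1 j, coef 2 j, hxyA, ?_, ?_⟩
  · intro h0
    refine residue_disc_ne_zero hD e hXY (α := φ (coef 0 j)) (β := φ (coef 1 j)) (γ := φ (coef 2 j))
      ?_ ?_ ?_
    · have h1 := congrArg φ (hcoef j)
      simp only [map_add, map_mul, map_pow, map_zero] at h1
      convert zero_mem (maximalIdeal A' ^ 3) using 1
      linear_combination h1
    · rintro ⟨h1, h2, h3⟩
      refine hj ⟨?_, ?_, ?_⟩ <;> rw [← hcomap (maximalIdeal A), hm, Ideal.mem_comap] <;> assumption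
    · rw [residue_eq_zero_iff] at h0 ⊢
      have := hm.le (Ideal.mem_map_of_mem φ h0)
      simpa [map_ofNat] using this
  · convert zero_mem (maximalIdeal A ^ 3) using 1
    linear_combination hcoef j

omit [IsNoetherianRing A] [IsNoetherianRing A'] in
/-- Ascent of the criterion. -/
theorem ascend (hflat : φ.Flat) (hm : (maximalIdeal A).map φ = maximalIdeal A')
    (hA : IsQuadraticCriterion A) {t : A} (ht' : t ∈ nonZeroDivisors A) :
    IsQuadraticCriterion A' ∧ φ t ∈ nonZeroDivisors A' := by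
  algebraize [φ]
  have : Module.FaithfullyFlat A A' := by
    have : IsLocalHom (algebraMap A A') := ‹IsLocalHom φ›
    exact Module.FaithfullyFlat.of_flat_of_isLocalHom
  obtain ⟨hnp, x, y, a, b, c, hxy, hD, hQ⟩ := hA
  have hXY : Ideal.span {φ x, φ y} = maximalIdeal A' := by
    rw [← hm, ← hxy, Ideal.map_span, Set.image_pair]
  refine ⟨⟨fun z hz hle => ?_, φ x, φ y, φ a, φ b, φ c, hXY, ?_, ?_⟩, ?_⟩
  · have key : ∀ w ∈ maximalIdeal A, Ideal.span {φ w} = maximalIdeal A' → False := by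
      intro w hw hspan
      refine hnp w hw ?_
      rw [← Ideal.comap_map_eq_self_of_faithfullyFlat (B := A') (maximalIdeal A),
        ← Ideal.comap_map_eq_self_of_faithfullyFlat (B := A') (Ideal.span {w})]
      refine Ideal.comap_mono ?_
      show (maximalIdeal A).map φ ≤ (Ideal.span {w}).map φ
      rw [hm, Ideal.map_span, Set.image_singleton, hspan]
    have hxm : x ∈ maximalIdeal A := hxy ▸ Ideal.subset_span (Set.mem_insert _ _)
    have hym : y ∈ maximalIdeal A := hxy ▸ Ideal.subset_span (Set.mem_insert_of_mem _ rfl)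
    have hzs : maximalIdeal A' = Ideal.span {z} :=
      le_antisymm hle ((Ideal.span_singleton_le_iff_mem _).mpr hz)
    have hxz : φ x ∈ Ideal.span {z} := hzs ▸ hXY ▸ Ideal.subset_span (Set.mem_insert _ _)
    have hyz : φ y ∈ Ideal.span {z} := hzs ▸ hXY ▸ Ideal.subset_span (Set.mem_insert_of_mem _ rfl)
    obtain ⟨p, hp⟩ := Ideal.mem_span_singleton'.mp hxz
    obtain ⟨q, hq⟩ := Ideal.mem_span_singleton'.mp hyz
    by_cases hpu : IsUnit p
    · exact key x hxm (by rw [hzs, ← hp, Ideal.span_singleton_mul_left_unit hpu])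
    by_cases hqu : IsUnit q
    · exact key y hym (by rw [hzs, ← hq, Ideal.span_singleton_mul_left_unit hqu])
    obtain ⟨g, k, hgk⟩ := Ideal.mem_span_pair.mp (hXY.symm ▸ hz)
    have hu : IsUnit (1 - (g * p + k * q)) := by
      rw [← not_not (a := IsUnit _), ← mem_nonunits_iff, ← mem_maximalIdeal]
      intro h1
      have h2 : g * p + k * q ∈ maximalIdeal A' :=
        add_mem (Ideal.mul_mem_left _ _ ((mem_maximalIdeal _).mpr hpu))
          (Ideal.mul_mem_left _ _ ((mem_maximalIdeal _).mpr hqu))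
      exact (maximalIdeal.isMaximal A').ne_top ((Ideal.eq_top_iff_one _).mpr
        (by simpa using add_mem h1 h2))
    have hz0 : z = 0 := hu.mul_right_eq_zero.mp (by rw [← hp, ← hq] at hgk; linear_combination -hgk)
    exact key x hxm (by rw [hzs, hz0, ← hp, hz0, mul_zero])
  · intro h0
    rw [residue_eq_zero_iff] at h0
    rw [← map_ofNat φ 4, ← map_mul, ← map_mul, ← map_pow, ← map_sub] at h0
    exact hD ((residue_eq_zero_iff _).mpr (by
      rw [← Ideal.comap_map_eq_self_of_faithfullyFlat (B := A') (maximalIdeal A), Ideal.mem_comap]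
      exact hm.symm ▸ h0))
  · have := Ideal.mem_map_of_mem φ hQ
    rw [Ideal.map_pow, hm] at this
    simpa using this
  · have hreg : IsSMulRegular A t := fun u v huv => sub_eq_zero.mp
      ((mem_nonZeroDivisors_iff_left.mp ht') _ (by rw [mul_sub]; exact sub_eq_zero.mpr huv))
    have h2 := IsSMulRegular.of_flat (S := A') hreg
    rw [mem_nonZeroDivisors_iff_left]
    intro u hu
    exact h2 (show φ t * u = φ t * 0 by rw [hu, mul_zero])

end Transfer

end Groth.Curves1.Node
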