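import Mathlib
import Groth.Prelude.Def_Curv2
import Groth.Agent.VarietyBC.Fibre
import Groth.Agent.Curves1.Node.StalkPres
import Groth.Agent.Curves1.Node.Jacobian
import Groth.Agent.Curves1.Node.Transfer

/-!
# Nodes and the quadric criterion
-/

open CategoryTheory AlgebraicGeometry IsLocalRing

universe u

namespace Groth.Curves1.Node

attribute [local instance] Curv2.resAlgebra Curv2.stalkAlgebra

section Local

variable {K A' : Type u} [Field K] [IsAlgClosed K] [CommRing A'] [IsLocalRing A'] [IsNoetherianRing A']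
  [Algebra K A']

omit [IsAlgClosed K] in
theorem criterion_of_isOrdDoublePt (h : Curv2.IsOrdDoublePt K A') :
    IsQuadraticCriterion A' ∧ ∃ a b c : K, 4 * a * c - b ^ 2 ≠ 0 ∧
      Nonempty (AdicCompletion (maximalIdeal A') A' ≃+* Quadric a b c) := by
  obtain ⟨e, -⟩ := h
  have hD : 4 * (0 : K) * 0 - 1 ^ 2 ≠ 0 := by simp
  let e' : AdicCompletion (maximalIdeal A') A' ≃+* Quadric (0 : K) 1 0 :=
    e.trans (Ideal.quotEquivOfEq (by simp [quad]))
  exact ⟨(criterion_of_equiv hD e').2, 0, 1, 0, hD, ⟨e'⟩⟩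

theorem isOrdDoublePt_of_criterion (hres : ∀ a : A', ∃ c : K, a - algebraMap K A' c ∈ maximalIdeal A')
    (hA : IsQuadraticCriterion A') {t : A'} (ht : t ∈ maximalIdeal A') (ht' : t ∈ nonZeroDivisors A') :
    Curv2.IsOrdDoublePt K A' := by
  let j : K ≃ₐ[K] ResidueField A' := AlgEquiv.ofBijective (Algebra.ofId K _)
    ⟨(algebraMap K (ResidueField A')).injective, fun z => by
      obtain ⟨a, rfl⟩ := residue_surjective z
      obtain ⟨c, hc⟩ := hres a
      exact ⟨c, ((Ideal.Quotient.eq).mpr hc).symm⟩⟩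
  obtain ⟨a, b, c, hD, e, he⟩ := equiv_of_criterion j hA ht ht'
  obtain ⟨f⟩ := nonempty_equiv_uv hD
  refine ⟨e.trans f.toRingEquiv, fun s => ?_⟩
  show f (e _) = _
  rw [he]
  exact f.commutes s

/-- Ordinary double points are invariant under isomorphisms. -/
theorem isOrdDoublePt_of_ringEquiv {B : Type u} [CommRing B] [IsLocalRing B] [IsNoetherianRing B]
    [Algebra K B] (e : A' ≃+* B)
    (hres : ∀ b : B, ∃ c : K, b - algebraMap K B c ∈ maximalIdeal B)
    (h : Curv2.IsOrdDoublePt K A') : Curv2.IsOrdDoublePt K B := by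
  obtain ⟨hA, a, b, c, hD, ⟨ec⟩⟩ := criterion_of_isOrdDoublePt h
  have hred := (criterion_of_equiv hD ec).1
  have hspan : (maximalIdeal A').spanFinrank ≠ 0 := by
    obtain ⟨hnp, x, y, -, -, -, hxy, -, -⟩ := hA
    rw [spanFinrank_eq_two hxy hnp]
    norm_num
  obtain ⟨t, ht, ht'⟩ := exists_nonZeroDivisor_of_isReduced hspan
  have : IsLocalHom e.toRingHom := ⟨fun a ha => by simpa using ha.map e.symm⟩
  have hflat : e.toRingHom.Flat := RingHom.Flat.of_bijective e.bijective
  have hm : (maximalIdeal A').map e.toRingHom = maximalIdeal B := by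
    refine le_antisymm (Ideal.map_le_iff_le_comap.mpr fun a ha => ?_) fun b hb => ?_
    · rw [Ideal.mem_comap, mem_maximalIdeal, mem_nonunits_iff]
      exact fun hu => (mem_maximalIdeal _).mp ha (by simpa using hu.map e.symm)
    · rw [← e.apply_symm_apply b]
      refine Ideal.mem_map_of_mem _ ?_
      rw [mem_maximalIdeal, mem_nonunits_iff] at hb ⊢
      exact fun hu => hb (by simpa using hu.map e)
  obtain ⟨hB, htn⟩ := ascend _ hflat hm hA ht'
  exact isOrdDoublePt_of_criterion hres hB (hm.le (Ideal.mem_map_of_mem _ ht)) htn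

end Local

variable {k : Type u} [Field k] {X : Scheme.{u}} [X.Over (Spec (CommRingCat.of k))]
  [LocallyOfFiniteType (X ↘ (Spec (CommRingCat.of k)))]

include k in
theorem isNoetherianRing_stalk (x : X) : IsNoetherianRing (X.presheaf.stalk x) := by
  have := LocallyOfFiniteType.isLocallyNoetherian (X ↘ (Spec (CommRingCat.of k)))
  infer_instance

theorem isNoetherianRing_stalk_bc (K : Type u) [Field K] [Algebra k K] (xb : Curv2.bc k X K) :
    IsNoetherianRing ((Curv2.bc k X K).presheaf.stalk xb) := by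
  have := LocallyOfFiniteType.isLocallyNoetherian (Curv2.bcSnd k X K)
  infer_instance

/-- The algebraic description of a node. -/
def IsNodeStalk (k : Type u) [Field k] (X : Scheme.{u}) [X.Over (Spec (CommRingCat.of k))] (x : X) : Prop :=
  Algebra.IsSeparable k (X.residueField x) ∧ IsReduced (X.presheaf.stalk x) ∧
    IsQuadraticCriterion (X.presheaf.stalk x)

/-- A point with separable residue field is closed. -/
theorem isClosed_of_isSeparable_residueField (x : X) (h : Algebra.IsSeparable k (X.residueField x)) :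
    IsClosed ({x} : Set X) := by
  have := LocallyOfFiniteType.jacobsonSpace (X ↘ (Spec (CommRingCat.of k)))
  obtain ⟨_, ⟨U, hU, rfl⟩, hxU, -⟩ :=
    X.isBasis_affineOpens.exists_subset_of_mem_open (Set.mem_univ x) isOpen_univ
  let := (Groth.VarietyBC.openMap (k := k) hU).toAlgebra
  have : IsOpenImmersion hU.fromSpec := hU.isOpenImmersion_fromSpec
  obtain ⟨e⟩ := Groth.VarietyBC.nonempty_residueAlgEquiv (k := k) hU hxU
  set q := (hU.primeIdealOf ⟨x, hxU⟩).asIdeal
  let f : (Γ(X, U) ⧸ q) →ₐ[k] X.residueField x :=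
    e.toAlgHom.comp (IsScalarTower.toAlgHom k (Γ(X, U) ⧸ q) q.ResidueField)
  have hf : Function.Injective f :=
    e.injective.comp (IsFractionRing.injective (Γ(X, U) ⧸ q) q.ResidueField)
  have : Algebra.IsIntegral k (Γ(X, U) ⧸ q) := Algebra.IsIntegral.of_injective f hf
  have hq : q.IsMaximal :=
    Ideal.Quotient.maximal_of_isField q (isField_of_isIntegral_of_isField' (R := k) (Field.toIsField k))
  have h1 : hU.primeIdealOf ⟨x, hxU⟩ ∈ hU.fromSpec ⁻¹' closedPoints X := by
    rw [hU.fromSpec.isOpenEmbedding.preimage_closedPoints]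
    exact (PrimeSpectrum.isClosed_singleton_iff_isMaximal _).mpr hq
  have h2 : hU.fromSpec (hU.primeIdealOf ⟨x, hxU⟩) ∈ closedPoints X := h1
  rw [hU.fromSpec_primeIdealOf] at h2
  exact h2

omit [X.Over (Spec (CommRingCat.of k))] [LocallyOfFiniteType (X ↘ (Spec (CommRingCat.of k)))] in
/-- The spectrum of `L ⊗ K` has closed points only, for a finite algebra `L`. -/
theorem isClosed_spec_tensor_of_finite {L K : Type u} [CommRing L] [Algebra k L] [Module.Finite k L]
    [Field K] [Algebra k K] (P : Spec (CommRingCat.of (TensorProduct k L K))) :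
    IsClosed ({P} : Set (Spec (CommRingCat.of (TensorProduct k L K)))) := by
  have : IsArtinianRing (TensorProduct k K L) := isArtinian_of_tower K inferInstance
  have : IsArtinianRing (TensorProduct k L K) :=
    Function.Surjective.isArtinianRing (f := (Algebra.TensorProduct.comm k K L).toRingEquiv.toRingHom)
      (Algebra.TensorProduct.comm k K L).surjective
  let Q : PrimeSpectrum (TensorProduct k L K) := P
  exact (PrimeSpectrum.isClosed_singleton_iff_isMaximal Q).mpr inferInstance

/-- Points of a base change above a closed point are closed. -/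
theorem isClosed_bc (K : Type u) [Field K] [Algebra k K] (xb : Curv2.bc k X K)
    (hx : IsClosed ({Curv2.bcFst k X K xb} : Set X)) : IsClosed ({xb} : Set (Curv2.bc k X K)) := by
  have := LocallyOfFiniteType.jacobsonSpace (X ↘ (Spec (CommRingCat.of k)))
  generalize hxe : Curv2.bcFst k X K xb = x at hx
  have : IsClosedImmersion (X.fromSpecResidueField x) := isClosed_singleton_iff_isClosedImmersion.mp hx
  have hfin : IsFinite (X.fromSpecResidueField x ≫ (X ↘ (Spec (CommRingCat.of k)))) :=
    (isFinite_iff_locallyOfFiniteType_of_jacobsonSpace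
      (f := X.fromSpecResidueField x ≫ (X ↘ (Spec (CommRingCat.of k))))).mpr inferInstance
  rw [Groth.VarietyBC.fromSpecResidueField_str, IsFinite.SpecMap_iff] at hfin
  have hfinκ : Module.Finite k (X.residueField x) := hfin
  obtain ⟨P, rfl⟩ : xb ∈ Set.range (Groth.VarietyBC.fibreMap (k := k) K x) := by
    rw [Groth.VarietyBC.range_fibreMap]
    exact hxe
  have hP : IsClosed ({P} : Set (Spec (CommRingCat.of _))) :=
    @isClosed_spec_tensor_of_finite k _ (X.residueField x) K _ (Curv2.resAlgebra k X x) hfinκ _ _ P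
  rw [← Set.image_singleton]
  have hcl : Topology.IsClosedEmbedding (Groth.VarietyBC.fibreMap (k := k) K x) :=
    ⟨Groth.VarietyBC.isEmbedding_fibreMap K x, by
      rw [Groth.VarietyBC.range_fibreMap]
      exact hx.preimage (Curv2.bcFst k X K).continuous⟩
  exact hcl.isClosedMap _ hP

theorem isNodeStalk_of_isOrdDoublePt (K : Type u) [Field K] [IsAlgClosed K] [Algebra k K]
    (xb : Curv2.bc k X K) (hxb : IsClosed ({xb} : Set (Curv2.bc k X K)))
    (h : letI : (Curv2.bc k X K).Over (Spec (CommRingCat.of K)) := ⟨Curv2.bcSnd k X K⟩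
      Curv2.IsOrdDoublePt K ((Curv2.bc k X K).presheaf.stalk xb)) :
    IsNodeStalk k X (Curv2.bcFst k X K xb) := by
  let : (Curv2.bc k X K).Over (Spec (CommRingCat.of K)) := ⟨Curv2.bcSnd k X K⟩
  let := Curv2.stalkAlgebra K (Curv2.bc k X K) xb
  have := isNoetherianRing_stalk (k := k) (Curv2.bcFst k X K xb)
  have := isNoetherianRing_stalk_bc (k := k) K xb
  obtain ⟨N, π, π', p, hP⟩ := exists_stalk_presentation K xb hxb
  obtain ⟨hcr, a, b, c, hD, ⟨e⟩⟩ := criterion_of_isOrdDoublePt h
  have hm := hP.map_maximalIdeal_of_criterion hcr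
  have := hP.isLocalHom
  obtain ⟨hred, hA⟩ := descend _ hP.flat hm hD e
  exact ⟨hP.isSeparable_residueField_iff.mpr (hP.separable_of_map_maximalIdeal hm), hred, hA⟩

theorem isOrdDoublePt_of_isNodeStalk (K : Type u) [Field K] [IsAlgClosed K] [Algebra k K]
    (xb : Curv2.bc k X K) (h : IsNodeStalk k X (Curv2.bcFst k X K xb)) :
    letI : (Curv2.bc k X K).Over (Spec (CommRingCat.of K)) := ⟨Curv2.bcSnd k X K⟩
    Curv2.IsOrdDoublePt K ((Curv2.bc k X K).presheaf.stalk xb) := by
  let : (Curv2.bc k X K).Over (Spec (CommRingCat.of K)) := ⟨Curv2.bcSnd k X K⟩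
  let := Curv2.stalkAlgebra K (Curv2.bc k X K) xb
  obtain ⟨hs, hred, hA⟩ := h
  have := isNoetherianRing_stalk (k := k) (Curv2.bcFst k X K xb)
  have := isNoetherianRing_stalk_bc (k := k) K xb
  obtain ⟨N, π, π', p, hP⟩ := exists_stalk_presentation K xb
    (isClosed_bc K xb (isClosed_of_isSeparable_residueField _ hs))
  have hm := hP.map_maximalIdeal_of_separable (hP.isSeparable_residueField_iff.mp hs)
  have := hP.isLocalHom
  have hspan : (maximalIdeal (X.presheaf.stalk (Curv2.bcFst k X K xb))).spanFinrank ≠ 0 := by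
    obtain ⟨hnp, x, y, -, -, -, hxy, -, -⟩ := hA
    rw [spanFinrank_eq_two hxy hnp]
    norm_num
  obtain ⟨t, ht, ht'⟩ := exists_nonZeroDivisor_of_isReduced hspan
  obtain ⟨hA', htn⟩ := ascend _ hP.flat hm hA ht'
  exact isOrdDoublePt_of_criterion hP.exists_sub_algebraMap_mem hA'
    (hm.le (Ideal.mem_map_of_mem _ ht)) htn

/-- A point is a node iff its residue field is separable and its local ring is reduced and
satisfies the quadric criterion. -/
theorem isNode_iff_isNodeStalk (x : X) : Curv2.IsNode k X x ↔ IsNodeStalk k X x := by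
  constructor
  · rintro ⟨hx, xb, rfl, h⟩
    exact isNodeStalk_of_isOrdDoublePt _ xb (isClosed_bc _ xb hx) h
  · intro h
    have : Surjective (Spec.map (CommRingCat.ofHom (algebraMap k (AlgebraicClosure k)))) :=
      ⟨fun y => ⟨⟨⊥, Ideal.isPrime_bot⟩, Subsingleton.elim _ _⟩⟩
    obtain ⟨xb, rfl⟩ := (Curv2.bcFst k X (AlgebraicClosure k)).surjective x
    exact ⟨isClosed_of_isSeparable_residueField _ h.1, xb, rfl, isOrdDoublePt_of_isNodeStalk _ xb h⟩

end Groth.Curves1.Node
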