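import Mathlib
import Groth.Agent.Curves1.Node.NodeChar

/-!
# Nodes along étale morphisms
-/

open CategoryTheory AlgebraicGeometry IsLocalRing

universe u

namespace Groth.Curves1.Node

attribute [local instance] Curv2.resAlgebra Curv2.stalkAlgebra

/-- The criterion with separable residue field along a formally unramified flat map of local rings. -/
theorem nodeRing_iff {k A B : Type u} [Field k] [CommRing A] [IsLocalRing A] [IsNoetherianRing A]
    [Algebra k A] [CommRing B] [IsLocalRing B] [IsNoetherianRing B] [Algebra k B] [Algebra A B]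
    [IsScalarTower k A B] [IsLocalHom (algebraMap A B)] [Module.Flat A B] [Algebra.EssFiniteType A B]
    [Algebra.FormallyUnramified A B] :
    (Algebra.IsSeparable k (ResidueField A) ∧ IsReduced A ∧ IsQuadraticCriterion A) ↔
      (Algebra.IsSeparable k (ResidueField B) ∧ IsReduced B ∧ IsQuadraticCriterion B) := by
  have hm : (maximalIdeal A).map (algebraMap A B) = maximalIdeal B :=
    Algebra.FormallyUnramified.map_maximalIdeal
  have hflat : (algebraMap A B).Flat := RingHom.flat_algebraMap_iff.mpr inferInstance
  have : IsScalarTower k (ResidueField A) (ResidueField B) :=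
    IsScalarTower.of_algebraMap_eq fun c => by
      show residue B (algebraMap k B c) =
        ResidueField.map (algebraMap A B) (residue A (algebraMap k A c))
      rw [ResidueField.map_residue, ← IsScalarTower.algebraMap_apply]
  have hspanne : ∀ {R : Type u} [CommRing R] [IsLocalRing R] [IsNoetherianRing R],
      IsQuadraticCriterion R → (maximalIdeal R).spanFinrank ≠ 0 := by
    intro R _ _ _ hR
    obtain ⟨hnp, x, y, -, -, -, hxy, -, -⟩ := hR
    rw [spanFinrank_eq_two hxy hnp]
    norm_num
  constructor
  · rintro ⟨hsep, hred, hA⟩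
    obtain ⟨t, ht, ht'⟩ := exists_nonZeroDivisor_of_isReduced (hspanne hA)
    obtain ⟨hB, htn⟩ := ascend _ hflat hm hA ht'
    have hsepB : Algebra.IsSeparable k (ResidueField B) :=
      Algebra.IsSeparable.trans k (ResidueField A) (ResidueField B)
    have : Algebra.FormallyEtale k (ResidueField B) :=
      Algebra.FormallyEtale.of_isSeparable k (ResidueField B)
    obtain ⟨a, b, c, hD, e, -⟩ :=
      equiv_of_criterion (k := k) (AlgEquiv.refl (R := k) (A₁ := ResidueField B)) hB
        (hm.le (Ideal.mem_map_of_mem _ ht)) htn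
    exact ⟨hsepB, (criterion_of_equiv hD e).1, hB⟩
  · rintro ⟨hsep, hred, hB⟩
    obtain ⟨t, ht, ht'⟩ := exists_nonZeroDivisor_of_isReduced (hspanne hB)
    have : Algebra.FormallyEtale k (ResidueField B) :=
      Algebra.FormallyEtale.of_isSeparable k (ResidueField B)
    obtain ⟨a, b, c, hD, e, -⟩ :=
      equiv_of_criterion (k := k) (AlgEquiv.refl (R := k) (A₁ := ResidueField B)) hB ht ht'
    obtain ⟨hredA, hA⟩ := descend _ hflat hm hD e
    exact ⟨Algebra.isSeparable_tower_bot_of_isSeparable k (ResidueField A) (ResidueField B), hredA, hA⟩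

variable {k : Type u} [Field k] {X Y : Scheme.{u}} [X.Over (Spec (CommRingCat.of k))]
  [Y.Over (Spec (CommRingCat.of k))]

/-- Stalk maps of morphisms over `k` commute with the structure maps. -/
theorem stalkMap_comp_stalkMap (π : Y ⟶ X)
    (h : π ≫ (X ↘ (Spec (CommRingCat.of k))) = Y ↘ (Spec (CommRingCat.of k))) (y : Y) :
    (π.stalkMap y).hom.comp (Curv2.stalkMap k X (π y)) = Curv2.stalkMap k Y y := by
  have e : Spec.map (CommRingCat.ofHom ((π.stalkMap y).hom.comp (Curv2.stalkMap k X (π y)))) =
      Spec.map (CommRingCat.ofHom (Curv2.stalkMap k Y y)) := by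
    rw [← Groth.VarietyBC.fromSpecStalk_str, ← h, ← Category.assoc,
      ← Scheme.SpecMap_stalkMap_fromSpecStalk, Category.assoc, Groth.VarietyBC.fromSpecStalk_str,
      ← Spec.map_comp]
    rfl
  exact congrArg CommRingCat.Hom.hom (Spec.map_injective e)

/-- Being a node is étale local. -/
theorem isNodeStalk_iff_of_etale [LocallyOfFiniteType (X ↘ (Spec (CommRingCat.of k)))] (π : Y ⟶ X)
    [Etale π] (h : π ≫ (X ↘ (Spec (CommRingCat.of k))) = Y ↘ (Spec (CommRingCat.of k))) (y : Y) :
    IsNodeStalk k X (π y) ↔ IsNodeStalk k Y y := by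
  have : LocallyOfFiniteType (Y ↘ (Spec (CommRingCat.of k))) := h ▸ inferInstance
  have := isNoetherianRing_stalk (k := k) (π y)
  have := isNoetherianRing_stalk (k := k) y
  let : Algebra (X.presheaf.stalk (π y)) (Y.presheaf.stalk y) := (π.stalkMap y).hom.toAlgebra
  have : IsLocalHom (algebraMap (X.presheaf.stalk (π y)) (Y.presheaf.stalk y)) :=
    inferInstanceAs <| IsLocalHom (π.stalkMap y).hom
  have : IsScalarTower k (X.presheaf.stalk (π y)) (Y.presheaf.stalk y) :=
    IsScalarTower.of_algebraMap_eq' (stalkMap_comp_stalkMap π h y).symm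
  have : Module.Flat (X.presheaf.stalk (π y)) (Y.presheaf.stalk y) := Flat.stalkMap π y
  have : Algebra.EssFiniteType (X.presheaf.stalk (π y)) (Y.presheaf.stalk y) := by
    rw [← RingHom.essFiniteType_algebraMap]
    exact LocallyOfFiniteType.stalkMap π y
  have : Algebra.FormallyUnramified (X.presheaf.stalk (π y)) (Y.presheaf.stalk y) :=
    AlgebraicGeometry.FormallyUnramified.stalkMap π y
  exact nodeRing_iff

end Groth.Curves1.Node
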