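import Mathlib
import Groth.Agent.Curves1.Node.NodeEtale
import Groth.Agent.AlgSpBasic.LocPInst
import Groth.Agent.Variety2.DimScheme
import Groth.Agent.Variety2.DimFiber

/-!
# At-worst-nodal curves along étale morphisms
-/

open CategoryTheory CategoryTheory.Limits AlgebraicGeometry

universe u

namespace Groth.Curves1.Node

/-- Equidimensional of dimension one with at-worst-nodal singularities. -/
def IsNodalCurveOver (k : Type u) [Field k] (X : Scheme.{u}) [X.Over (Spec (CommRingCat.of k))] : Prop :=
  (∀ Z ∈ irreducibleComponents (X : Type u), topologicalKrullDim Z = 1) ∧ Curv2.AtWorstNodal k X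

variable {k : Type u} [Field k] {X Y : Scheme.{u}}

theorem mem_genericPoints_iff_isMax (x : X) : x ∈ genericPoints (X : Type u) ↔ IsMax x := by
  constructor
  · intro hx y hy
    have h1 : y ⤳ x := Scheme.le_iff_specializes.1 hy
    refine Scheme.le_iff_specializes.2 (specializes_iff_mem_closure.2 ?_)
    have h2 : closure ({x} : Set X) ⊆ closure {y} :=
      closure_minimal (Set.singleton_subset_iff.2 (specializes_iff_mem_closure.1 h1)) isClosed_closure
    exact hx.2 isIrreducible_singleton.closure h2 (subset_closure rfl)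
  · intro hx
    obtain ⟨Z, hZ, hxZ⟩ := exists_mem_irreducibleComponents_subset_of_isIrreducible
      (closure ({x} : Set X)) isIrreducible_singleton.closure
    obtain ⟨η, hη⟩ := QuasiSober.sober hZ.1 (isClosed_of_mem_irreducibleComponents Z hZ)
    have h1 : η ⤳ x := hη.specializes (hxZ (subset_closure rfl))
    have h2 : x ⤳ η := Scheme.le_iff_specializes.1 (hx (Scheme.le_iff_specializes.2 h1))
    show closure ({x} : Set X) ∈ irreducibleComponents (X : Type u)
    rw [show x = η from (h2.antisymm h1).eq, hη.def]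
    exact hZ

theorem dim_irreducibleComponents_iff (f : X ⟶ Spec (CommRingCat.of k)) [LocallyOfFiniteType f] :
    (∀ Z ∈ irreducibleComponents (X : Type u), topologicalKrullDim Z = 1) ↔
      ∀ x : X, IsMax x → Order.height x = 1 := by
  constructor
  · intro h x hx
    have h1 := h _ ((mem_genericPoints_iff_isMax x).2 hx)
    rw [Variety2.Dim.dim_closure_singleton] at h1
    exact_mod_cast h1
  · intro h Z hZ
    obtain ⟨η, hη⟩ := QuasiSober.sober hZ.1 (isClosed_of_mem_irreducibleComponents Z hZ)
    rw [← hη.def, Variety2.Dim.dim_closure_singleton,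
      h η ((mem_genericPoints_iff_isMax η).1 (show closure ({η} : Set X) ∈ _ from hη.def.symm ▸ hZ))]
    rfl

section Etale

variable [X.Over (Spec (CommRingCat.of k))] [Y.Over (Spec (CommRingCat.of k))]
  [LocallyOfFiniteType (X ↘ (Spec (CommRingCat.of k)))] (π : Y ⟶ X) [Etale π]
  (h : π ≫ (X ↘ (Spec (CommRingCat.of k))) = Y ↘ (Spec (CommRingCat.of k)))

include h in
theorem height_eq_of_etale (y : Y) : Order.height (π y) = Order.height y := by
  have : LocallyOfFiniteType (Y ↘ (Spec (CommRingCat.of k))) := h ▸ inferInstance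
  obtain ⟨a, ha, ha'⟩ := Variety2.Dim.exists_trdegAt_eq_height (Y ↘ (Spec (CommRingCat.of k))) y
  obtain ⟨b, hb, hb'⟩ := Variety2.Dim.exists_trdegAt_eq_height (X ↘ (Spec (CommRingCat.of k))) (π y)
  have h1 := Variety2.Dim.trdegAt_eq_add (Y ↘ (Spec (CommRingCat.of k))) _ π h y
  have h0 : Variety2.Dim.relTrdeg π y = 0 := by
    let := (π.residueFieldMap y).hom.toAlgebra
    have : Algebra.IsSeparable (X.residueField (π y)) (Y.residueField y) := inferInstance
    exact trdeg_eq_zero
  rw [h0, add_zero, ha, hb, Nat.cast_inj] at h1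
  rw [ha', hb', h1]

omit [X.Over (Spec (CommRingCat.of k))] [Y.Over (Spec (CommRingCat.of k))]
  [LocallyOfFiniteType (X ↘ (Spec (CommRingCat.of k)))] in
theorem isMax_image_of_etale {y : Y} (hy : IsMax y) : IsMax (π y) := by
  intro x hx
  obtain ⟨y', hy', rfl⟩ := (Flat.generalizingMap π) (Scheme.le_iff_specializes.1 hx)
  exact Scheme.le_iff_specializes.2
    ((Scheme.le_iff_specializes.1 (hy (Scheme.le_iff_specializes.2 hy'))).map π.continuous)

include h in
theorem isMax_of_etale {y : Y} (hy : IsMax (π y)) : IsMax y := by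
  intro y' hy'
  have : LocallyOfFiniteType (Y ↘ (Spec (CommRingCat.of k))) := h ▸ inferInstance
  by_contra hne
  have hlt : y < y' := lt_of_le_not_ge hy' hne
  have h1 := Variety2.Dim.height_toNat_lt (Y ↘ (Spec (CommRingCat.of k))) hlt
  rw [← height_eq_of_etale π h y, ← height_eq_of_etale π h y'] at h1
  have h2 : π y ≤ π y' := Scheme.le_iff_specializes.2 ((Scheme.le_iff_specializes.1 hy').map π.continuous)
  exact h1.not_ge (Order.height_mono (hy h2))

include h in
/-- A scheme étale over a nodal curve is a nodal curve. -/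
theorem IsNodalCurveOver.of_etale (hX : IsNodalCurveOver k X) : IsNodalCurveOver k Y := by
  have : LocallyOfFiniteType (Y ↘ (Spec (CommRingCat.of k))) := h ▸ inferInstance
  refine ⟨(dim_irreducibleComponents_iff (Y ↘ (Spec (CommRingCat.of k)))).2 fun y hy => ?_, fun y hy => ?_⟩
  · rw [← height_eq_of_etale π h y]
    exact (dim_irreducibleComponents_iff (X ↘ (Spec (CommRingCat.of k)))).1 hX.1 _
      (isMax_image_of_etale π hy)
  · have hx : IsClosed ({π y} : Set X) := by
      rw [← Variety2.Dim.height_eq_zero_iff, height_eq_of_etale π h,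
        Variety2.Dim.height_eq_zero_iff]
      exact hy
    rcases hX.2 (π y) hx with ⟨U, hxU, hU⟩ | hn
    · refine Or.inl ⟨π ⁻¹ᵁ U, hxU, ?_⟩
      rw [← h, ← Category.assoc, ← morphismRestrict_ι, Category.assoc]
      infer_instance
    · right
      rw [isNode_iff_isNodeStalk] at hn ⊢
      exact (isNodeStalk_iff_of_etale π h y).1 hn

end Etale

/-- Being a nodal curve is local for the étale topology. -/
theorem IsNodalCurveOver.of_etale_cover [X.Over (Spec (CommRingCat.of k))]
    [LocallyOfFiniteType (X ↘ (Spec (CommRingCat.of k)))] {ι : Type*} (U : ι → Scheme.{u})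
    [∀ i, (U i).Over (Spec (CommRingCat.of k))] (π : ∀ i, U i ⟶ X) [∀ i, Etale (π i)]
    (h : ∀ i, π i ≫ (X ↘ (Spec (CommRingCat.of k))) = U i ↘ (Spec (CommRingCat.of k)))
    (hsurj : ∀ x, ∃ i, x ∈ Set.range (π i)) (hU : ∀ i, IsNodalCurveOver k (U i)) :
    IsNodalCurveOver k X := by
  have : ∀ i, LocallyOfFiniteType (U i ↘ (Spec (CommRingCat.of k))) := fun i => h i ▸ inferInstance
  refine ⟨(dim_irreducibleComponents_iff (X ↘ (Spec (CommRingCat.of k)))).2 fun x hx => ?_, fun x hx => ?_⟩
  · obtain ⟨i, y, rfl⟩ := hsurj x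
    rw [height_eq_of_etale (π i) (h i) y]
    exact (dim_irreducibleComponents_iff (U i ↘ (Spec (CommRingCat.of k)))).1 (hU i).1 y
      (isMax_of_etale (π i) (h i) hx)
  · obtain ⟨i, y, rfl⟩ := hsurj x
    have hy : IsClosed ({y} : Set (U i)) := by
      rw [← Variety2.Dim.height_eq_zero_iff, ← height_eq_of_etale (π i) (h i),
        Variety2.Dim.height_eq_zero_iff]
      exact hx
    rcases (hU i).2 y hy with ⟨V, hyV, hV⟩ | hn
    · let W : X.Opens := ⟨π i '' V, (π i).isOpenMap _ V.2⟩
      refine Or.inl ⟨W, Set.mem_image_of_mem _ hyV, ?_⟩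
      have hle : V ≤ π i ⁻¹ᵁ W := fun z hz => Set.mem_image_of_mem _ hz
      let χ : (V : Scheme.{u}) ⟶ W := (U i).homOfLE hle ≫ (π i) ∣_ W
      have hχ : χ ≫ W.ι = V.ι ≫ π i := by
        rw [Category.assoc, morphismRestrict_ι, ← Category.assoc, Scheme.homOfLE_ι]
      have : Surjective χ := ⟨fun w => by
        obtain ⟨z, hz, hzw⟩ := w.2
        refine ⟨⟨z, hz⟩, W.ι.isOpenEmbedding.injective ?_⟩
        rw [← Scheme.Hom.comp_apply, hχ]
        exact hzw⟩
      have : Smooth (χ ≫ W.ι ≫ (X ↘ (Spec (CommRingCat.of k)))) := by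
        rw [← Category.assoc, hχ, Category.assoc, h]
        exact hV
      exact Groth.AlgSpBasic.SourceDescent.smooth_of_comp_surjective χ _
    · right
      rw [isNode_iff_isNodeStalk] at hn ⊢
      exact (isNodeStalk_iff_of_etale (π i) (h i) y).2 hn

end Groth.Curves1.Node
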