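import Mathlib
import Groth.Agent.Curves1.Node.AtWorst
import Groth.Agent.FlatMor2.FlatComp
import Groth.Agent.DescentBase.SourceLocal

/-!
# At-worst-nodal families along étale morphisms
-/

open CategoryTheory CategoryTheory.Limits AlgebraicGeometry

universe u

namespace Groth.Curves1.Node

/-- A nodal curve over a finite separable extension is a nodal curve over the smaller field. -/
theorem IsNodalCurveOver.restrictScalars {k : Type u} [Field k] {k' : Type u} [Field k'] {X : Scheme.{u}}
    (φ : k →+* k') (hfin : φ.Finite) (hsep : @Algebra.IsSeparable k k' _ _ φ.toAlgebra)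
    [O' : X.Over (Spec (CommRingCat.of k'))] [O : X.Over (Spec (CommRingCat.of k))]
    [LocallyOfFiniteType (X ↘ (Spec (CommRingCat.of k')))]
    (h : (X ↘ (Spec (CommRingCat.of k'))) ≫ Spec.map (CommRingCat.ofHom φ) = X ↘ (Spec (CommRingCat.of k)))
    (hX : IsNodalCurveOver k' X) : IsNodalCurveOver k X := by
  let := φ.toAlgebra
  have : Module.Finite k k' := hfin
  have : Algebra.FormallyEtale k k' := Algebra.FormallyEtale.of_isSeparable k k'
  have : Algebra.FinitePresentation k k' := Algebra.FinitePresentation.of_finiteType.mp inferInstance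
  have : Algebra.Etale k k' := ⟨inferInstance, inferInstance⟩
  have : Etale (Spec.map (CommRingCat.ofHom φ)) :=
    (HasRingHomProperty.Spec_iff (P := @Etale)).2 (RingHom.etale_algebraMap.mpr ‹_›)
  have : LocallyOfFiniteType (X ↘ (Spec (CommRingCat.of k))) := h ▸ inferInstance
  refine ⟨hX.1, fun x hx => ?_⟩
  rcases hX.2 x hx with ⟨U, hxU, hU⟩ | hn
  · refine Or.inl ⟨U, hxU, ?_⟩
    rw [← h, ← Category.assoc]
    infer_instance
  · right
    rw [isNode_iff_isNodeStalk] at hn ⊢
    obtain ⟨hs, hn⟩ := hn
    refine ⟨?_, hn⟩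
    let := Curv2.resAlgebra k' X x
    let := Curv2.resAlgebra k X x
    have : IsScalarTower k k' (X.residueField x) := IsScalarTower.of_algebraMap_eq' (by
      show Curv2.resMap k X x = (Curv2.resMap k' X x).comp φ
      have e : CommRingCat.ofHom (Curv2.resMap k X x) =
          CommRingCat.ofHom ((Curv2.resMap k' X x).comp φ) := by
        apply Spec.map_injective
        rw [CommRingCat.ofHom_comp, Spec.map_comp, ← Groth.VarietyBC.fromSpecResidueField_str,
          ← Groth.VarietyBC.fromSpecResidueField_str, ← h, Category.assoc]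
      exact congrArg CommRingCat.Hom.hom e)
    exact Algebra.IsSeparable.trans k k' (X.residueField x)

section Fibre

variable {X Y S : Scheme.{u}}

/-- The map of fibres induced on the source. -/
noncomputable def fibreMapSource (g : Y ⟶ X) (f : X ⟶ S) (s : S) : (g ≫ f).fiber s ⟶ f.fiber s :=
  (pullbackRightPullbackFstIso f (S.fromSpecResidueField s) g).inv ≫ pullback.snd _ _

theorem fibreMapSource_snd (g : Y ⟶ X) (f : X ⟶ S) (s : S) :
    fibreMapSource g f s ≫ f.fiberToSpecResidueField s = (g ≫ f).fiberToSpecResidueField s := by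
  rw [fibreMapSource, Category.assoc]
  exact pullbackRightPullbackFstIso_inv_snd_snd _ _ _

theorem etale_fibreMapSource (g : Y ⟶ X) [Etale g] (f : X ⟶ S) (s : S) : Etale (fibreMapSource g f s) := by
  exact MorphismProperty.comp_mem (@Etale : MorphismProperty Scheme.{u}) _ _ inferInstance
    (MorphismProperty.pullback_snd (P := (@Etale : MorphismProperty Scheme.{u})) _ _ inferInstance)

theorem mem_range_fibreMapSource (g : Y ⟶ X) (f : X ⟶ S) (s : S) (z : f.fiber s)
    (hz : f.fiberι s z ∈ Set.range g) : z ∈ Set.range (fibreMapSource g f s) := by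
  obtain ⟨y, hy⟩ := hz
  obtain ⟨w, -, hw⟩ := Scheme.Pullback.exists_preimage_pullback (f := g)
    (g := pullback.fst f (S.fromSpecResidueField s)) y z hy
  refine ⟨(pullbackRightPullbackFstIso f (S.fromSpecResidueField s) g).hom w, ?_⟩
  show ((pullbackRightPullbackFstIso f (S.fromSpecResidueField s) g).hom ≫
    (pullbackRightPullbackFstIso f (S.fromSpecResidueField s) g).inv ≫ pullback.snd g _) w = z
  rw [Iso.hom_inv_id_assoc]
  exact hw

theorem isNodalFamily_iff (f : X ⟶ S) : Curv2.IsNodalFamily f ↔
    Flat f ∧ LocallyOfFinitePresentation f ∧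
      ∀ s : S, @IsNodalCurveOver (S.residueField s) _ (f.fiber s) ⟨f.fiberToSpecResidueField s⟩ :=
  Iff.rfl

theorem isNodalFamily_comp_etale (f : X ⟶ S) (hf : Curv2.IsNodalFamily f) (g : Y ⟶ X) [Etale g] :
    Curv2.IsNodalFamily (g ≫ f) := by
  obtain ⟨h1, h2, h3⟩ := (isNodalFamily_iff f).1 hf
  refine (isNodalFamily_iff _).2 ⟨inferInstance, inferInstance, fun s => ?_⟩
  let : (f.fiber s).Over (Spec (CommRingCat.of (S.residueField s))) := ⟨f.fiberToSpecResidueField s⟩
  let : ((g ≫ f).fiber s).Over (Spec (CommRingCat.of (S.residueField s))) :=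
    ⟨(g ≫ f).fiberToSpecResidueField s⟩
  have : LocallyOfFiniteType ((f.fiber s) ↘ (Spec (CommRingCat.of (S.residueField s)))) :=
    inferInstanceAs (LocallyOfFiniteType (pullback.snd f (S.fromSpecResidueField s)))
  have := etale_fibreMapSource g f s
  exact IsNodalCurveOver.of_etale (fibreMapSource g f s) (fibreMapSource_snd g f s) (h3 s)

theorem isNodalFamily_of_etale_cover (f : X ⟶ S) {ι : Type u} (U : ι → Scheme.{u}) (g : ∀ i, U i ⟶ X)
    [∀ i, Etale (g i)] (hsurj : ∀ x : X, ∃ i, x ∈ Set.range (g i))
    (h : ∀ i, Curv2.IsNodalFamily (g i ≫ f)) : Curv2.IsNodalFamily f := by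
  have hflat : ∀ i, Flat (g i ≫ f) := fun i => (h i).1
  have hlfp : ∀ i, LocallyOfFinitePresentation (g i ≫ f) := fun i => (h i).2.1
  let χ : (∐ U) ⟶ X := Sigma.desc g
  have : Etale χ := IsZariskiLocalAtSource.sigmaDesc fun i => (inferInstance : Etale (g i))
  have : Surjective χ := ⟨fun x => by
    obtain ⟨i, y, hy⟩ := hsurj x
    refine ⟨Sigma.ι U i y, ?_⟩
    rw [← Scheme.Hom.comp_apply, Sigma.ι_desc]
    exact hy⟩
  have hχ : χ ≫ f = Sigma.desc fun i => g i ≫ f := Sigma.hom_ext _ _ fun i => by simp [χ]
  have : Flat (χ ≫ f) := hχ ▸ IsZariskiLocalAtSource.sigmaDesc hflat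
  have : LocallyOfFinitePresentation (χ ≫ f) := hχ ▸ IsZariskiLocalAtSource.sigmaDesc hlfp
  have h1 : Flat f := Groth.FlatMor2.flat_of_comp_surjective χ f
  have h2 : LocallyOfFinitePresentation f :=
    Groth.DescentBase.locallyOfFinitePresentation_of_smooth (f := χ) (g := f)
  refine (isNodalFamily_iff _).2 ⟨h1, h2, fun s => ?_⟩
  let : (f.fiber s).Over (Spec (CommRingCat.of (S.residueField s))) := ⟨f.fiberToSpecResidueField s⟩
  let : ∀ i, ((g i ≫ f).fiber s).Over (Spec (CommRingCat.of (S.residueField s))) :=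
    fun i => ⟨(g i ≫ f).fiberToSpecResidueField s⟩
  have : LocallyOfFiniteType ((f.fiber s) ↘ (Spec (CommRingCat.of (S.residueField s)))) :=
    inferInstanceAs (LocallyOfFiniteType (pullback.snd f (S.fromSpecResidueField s)))
  have := fun i => etale_fibreMapSource (g i) f s
  refine IsNodalCurveOver.of_etale_cover (fun i => (g i ≫ f).fiber s) (fun i => fibreMapSource (g i) f s)
    (fun i => fibreMapSource_snd (g i) f s) (fun z => ?_) fun i => (h i).2.2 s
  obtain ⟨i, hi⟩ := hsurj (f.fiberι s z)
  exact ⟨i, mem_range_fibreMapSource _ _ _ _ hi⟩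

theorem finite_residueFieldMap {T : Scheme.{u}} (e : T ⟶ S) [LocallyOfFiniteType e]
    [FormallyUnramified e] (t : T) : (e.residueFieldMap t).hom.Finite := by
  let := (e.stalkMap t).hom.toAlgebra
  have : IsLocalHom (algebraMap (S.presheaf.stalk (e t)) (T.presheaf.stalk t)) :=
    inferInstanceAs <| IsLocalHom (e.stalkMap t).hom
  have : Algebra.EssFiniteType (S.presheaf.stalk (e t)) (T.presheaf.stalk t) := by
    rw [← RingHom.essFiniteType_algebraMap]
    exact LocallyOfFiniteType.stalkMap e t
  have : Algebra.FormallyUnramified (S.presheaf.stalk (e t)) (T.presheaf.stalk t) :=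
    AlgebraicGeometry.FormallyUnramified.stalkMap e t
  exact RingHom.finite_algebraMap.mpr (inferInstance : Module.Finite
    (IsLocalRing.ResidueField (S.presheaf.stalk (e t))) (IsLocalRing.ResidueField (T.presheaf.stalk t)))

theorem isSeparable_residueFieldMap {T : Scheme.{u}} (e : T ⟶ S) [LocallyOfFiniteType e]
    [FormallyUnramified e] (t : T) :
    @Algebra.IsSeparable (S.residueField (e t)) (T.residueField t) _ _ (e.residueFieldMap t).hom.toAlgebra :=
  inferInstance

theorem etale_SpecMap_residueFieldMap {T : Scheme.{u}} (e : T ⟶ S) [Etale e] (t : T) :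
    Etale (Spec.map (e.residueFieldMap t)) := by
  let := (e.residueFieldMap t).hom.toAlgebra
  have : Module.Finite (S.residueField (e t)) (T.residueField t) := finite_residueFieldMap e t
  have : Algebra.IsSeparable (S.residueField (e t)) (T.residueField t) := isSeparable_residueFieldMap e t
  have : Algebra.FormallyEtale (S.residueField (e t)) (T.residueField t) :=
    Algebra.FormallyEtale.of_isSeparable _ _
  have : Algebra.FinitePresentation (S.residueField (e t)) (T.residueField t) :=
    Algebra.FinitePresentation.of_finiteType.mp inferInstance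
  exact (HasRingHomProperty.Spec_iff (P := @Etale)).2
    (RingHom.etale_algebraMap.mpr ⟨inferInstance, inferInstance⟩)

theorem etale_asFiberHom {T : Scheme.{u}} (e : T ⟶ S) [Etale e] (t : T) : Etale (e.asFiberHom t) := by
  have := etale_SpecMap_residueFieldMap e t
  have : Etale (e.asFiberHom t ≫ e.fiberToSpecResidueField (e t)) := by
    rw [e.asFiberHom_fiberToSpecResidueField]
    infer_instance
  have : Etale (e.fiberToSpecResidueField (e t)) :=
    MorphismProperty.pullback_snd (P := (@Etale : MorphismProperty Scheme.{u})) _ _ inferInstance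
  exact MorphismProperty.of_postcomp (W := (@Etale : MorphismProperty Scheme.{u}))
    (W' := (@Etale : MorphismProperty Scheme.{u})) _ (e.fiberToSpecResidueField (e t)) inferInstance
    inferInstance

theorem exists_etale_nodal_nhd {T : Scheme.{u}} (e : T ⟶ S) [Etale e] (f : X ⟶ T)
    (hf : Curv2.IsNodalFamily f) (s : S) (z : (f ≫ e).fiber s) :
    ∃ (W : Scheme.{u}) (π : W ⟶ (f ≫ e).fiber s), Etale π ∧ z ∈ Set.range π ∧
      @IsNodalCurveOver (S.residueField s) _ W ⟨π ≫ (f ≫ e).fiberToSpecResidueField s⟩ := by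
  obtain ⟨x, hx⟩ : ∃ x, (f ≫ e).fiberι s z = x := ⟨_, rfl⟩
  have hs : e (f x) = s := by
    have h1 : (f ≫ e).fiberι s z ∈ Set.range ((f ≫ e).fiberι s) := ⟨z, rfl⟩
    rw [Scheme.Hom.range_fiberι, hx] at h1
    exact h1
  subst hs
  let π : f.fiber (f x) ⟶ (f ≫ e).fiber (e (f x)) :=
    pullback.lift (f.fiberι (f x)) (f.fiberToSpecResidueField (f x) ≫ Spec.map (e.residueFieldMap (f x))) (by
      rw [Category.assoc, Scheme.Hom.SpecMap_residueFieldMap_fromSpecResidueField]
      exact pullback.condition_assoc e)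
  let m : (f ≫ e).fiber (e (f x)) ⟶ e.fiber (e (f x)) :=
    pullback.lift ((f ≫ e).fiberι _ ≫ f) ((f ≫ e).fiberToSpecResidueField _)
      (by rw [Category.assoc]; exact pullback.condition)
  have hm : m ≫ e.fiberι _ = (f ≫ e).fiberι _ ≫ f := pullback.lift_fst _ _ _
  have hright : IsPullback ((f ≫ e).fiberι (e (f x))) m f (e.fiberι (e (f x))) := by
    refine IsPullback.of_bot ?_ hm.symm (IsPullback.of_hasPullback e (S.fromSpecResidueField (e (f x))))
    rw [show m ≫ pullback.snd e (S.fromSpecResidueField (e (f x))) =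
      (f ≫ e).fiberToSpecResidueField (e (f x)) from pullback.lift_snd _ _ _]
    exact IsPullback.of_hasPullback _ _
  have hleft : IsPullback π (f.fiberToSpecResidueField (f x)) m (e.asFiberHom (f x)) := by
    refine IsPullback.of_right ?_ ?_ hright
    · rw [show π ≫ (f ≫ e).fiberι (e (f x)) = f.fiberι (f x) from pullback.lift_fst _ _ _,
        e.asFiberHom_fiberι]
      exact IsPullback.of_hasPullback _ _
    · refine pullback.hom_ext ?_ ?_
      · refine (Category.assoc π m _).trans ?_
        refine (congrArg (π ≫ ·) hm).trans ?_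
        refine (Category.assoc π _ f).symm.trans ?_
        refine (congrArg (· ≫ f) (pullback.lift_fst _ _ _)).trans ?_
        refine (pullback.condition (f := f) (g := T.fromSpecResidueField (f x))).trans ?_
        exact ((Category.assoc _ _ _).trans
          (congrArg (f.fiberToSpecResidueField (f x) ≫ ·) (e.asFiberHom_fiberι (f x)))).symm
      · refine (Category.assoc π m _).trans ?_
        refine (congrArg (π ≫ ·) (pullback.lift_snd _ _ _)).trans ?_
        refine (pullback.lift_snd _ _ _).trans ?_
        exact ((Category.assoc _ _ _).trans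
          (congrArg (f.fiberToSpecResidueField (f x) ≫ ·) (e.asFiberHom_fiberToSpecResidueField (f x)))).symm
  have : Etale π := MorphismProperty.of_isPullback (P := (@Etale : MorphismProperty Scheme.{u}))
    hleft.flip (etale_asFiberHom e (f x))
  refine ⟨f.fiber (f x), π, inferInstance, ⟨f.asFiber x, ?_⟩, ?_⟩
  · apply ((f ≫ e).fiberι (e (f x))).isEmbedding.injective
    rw [hx, ← Scheme.Hom.comp_apply, show π ≫ (f ≫ e).fiberι (e (f x)) = f.fiberι (f x) from
      pullback.lift_fst _ _ _, f.fiberι_asFiber]
  · let : (f.fiber (f x)).Over (Spec (CommRingCat.of (T.residueField (f x)))) :=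
      ⟨f.fiberToSpecResidueField (f x)⟩
    let : (f.fiber (f x)).Over (Spec (CommRingCat.of (S.residueField (e (f x))))) :=
      ⟨π ≫ (f ≫ e).fiberToSpecResidueField _⟩
    have := hf.2.1
    have : LocallyOfFiniteType ((f.fiber (f x)) ↘ (Spec (CommRingCat.of (T.residueField (f x))))) :=
      inferInstanceAs (LocallyOfFiniteType (pullback.snd f (T.fromSpecResidueField (f x))))
    exact IsNodalCurveOver.restrictScalars (e.residueFieldMap (f x)).hom
      (finite_residueFieldMap e (f x)) (isSeparable_residueFieldMap e (f x))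
      (pullback.lift_snd _ _ _).symm (hf.2.2 (f x))

theorem isNodalFamily_comp_etale_base {T : Scheme.{u}} (e : T ⟶ S) [Etale e] (f : X ⟶ T)
    (hf : Curv2.IsNodalFamily f) : Curv2.IsNodalFamily (f ≫ e) := by
  have := hf.1
  have := hf.2.1
  refine (isNodalFamily_iff _).2 ⟨inferInstance, inferInstance, fun s => ?_⟩
  choose W π hπ hz hN using exists_etale_nodal_nhd e f hf s
  let : ((f ≫ e).fiber s).Over (Spec (CommRingCat.of (S.residueField s))) :=
    ⟨(f ≫ e).fiberToSpecResidueField s⟩
  let : ∀ z, (W z).Over (Spec (CommRingCat.of (S.residueField s))) :=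
    fun z => ⟨π z ≫ (f ≫ e).fiberToSpecResidueField s⟩
  have : LocallyOfFiniteType (((f ≫ e).fiber s) ↘ (Spec (CommRingCat.of (S.residueField s)))) :=
    inferInstanceAs (LocallyOfFiniteType (pullback.snd (f ≫ e) (S.fromSpecResidueField s)))
  exact IsNodalCurveOver.of_etale_cover W π (fun _ => rfl) (fun z => ⟨z, hz z⟩) hN

end Fibre

end Groth.Curves1.Node
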