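import Mathlib
import Groth.Agent.Curves1.Node.AtWorst
import Groth.Agent.Gorenstein.FlatLocal
import Groth.Agent.Gorenstein.Regular
import Groth.Agent.Gorenstein.RingEquiv
import Groth.Agent.Misc15.GorLoc
import Groth.Agent.Calg6.PowerSeries
import Groth.Agent.VarietyBC.Reduced
import Groth.Agent.Agf.SmoothRed

/-!
# Local rings of at-worst-nodal curves
-/

open CategoryTheory CategoryTheory.Limits AlgebraicGeometry IsLocalRing Groth.SGA7.PS

universe u

namespace Groth.Curves1.Node

/-- The stalk at a generalisation is a localisation. -/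
theorem exists_stalk_localization {X : Scheme.{u}} {x x₀ : X} (h : x ⤳ x₀) :
    ∃ (p : Ideal (X.presheaf.stalk x₀)) (_ : p.IsPrime),
      Nonempty (Localization.AtPrime p ≃+* X.presheaf.stalk x) := by
  obtain ⟨P, rfl⟩ : x ∈ Set.range (X.fromSpecStalk x₀) := by
    rw [X.range_fromSpecStalk]
    exact h
  have := Groth.VarietyBC.flat_fromSpecStalk X x₀
  have := Groth.VarietyBC.isIso_stalkMap_of_flat_preimmersion (X.fromSpecStalk x₀) P
  exact ⟨P.asIdeal, inferInstance,
    ⟨(asIso ((X.fromSpecStalk x₀).stalkMap P) ≪≫ Spec.stalkIso _ P).commRingCatIsoToRingEquiv.symm⟩⟩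

theorem isReduced_stalk_of_specializes {X : Scheme.{u}} {x x₀ : X} (h : x ⤳ x₀)
    [_root_.IsReduced (X.presheaf.stalk x₀)] : _root_.IsReduced (X.presheaf.stalk x) := by
  obtain ⟨p, hp, ⟨e⟩⟩ := exists_stalk_localization h
  exact isReduced_of_injective e.symm e.symm.injective

theorem isGorenstein_stalk_of_specializes {X : Scheme.{u}} {x x₀ : X} (h : x ⤳ x₀)
    [IsNoetherianRing (X.presheaf.stalk x₀)] (hx₀ : LocCoh.IsGorensteinLocalRing (X.presheaf.stalk x₀)) :
    LocCoh.IsGorensteinLocalRing (X.presheaf.stalk x) := by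
  obtain ⟨p, hp, ⟨e⟩⟩ := exists_stalk_localization h
  obtain ⟨n, hn⟩ := (GrothGoren.isGorenstein_iff _).1 hx₀
  have : IsNoetherianRing (Localization.AtPrime p) :=
    IsLocalization.isNoetherianRing p.primeCompl _ inferInstance
  have : IsNoetherianRing (X.presheaf.stalk x) := isNoetherianRing_of_ringEquiv _ e
  exact (GrothGoren.isGorenstein_iff _).2
    ((GrothGoren.exists_injLT_iff_of_ringEquiv e).1 ⟨_, GrothGoren.exists_injLT_localization _ hn⟩)

/-- A Noetherian local ring whose completion is a nondegenerate quadric is Gorenstein. -/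
theorem isGorenstein_of_equiv {A : Type u} [CommRing A] [IsLocalRing A] [IsNoetherianRing A]
    {κ : Type u} [Field κ] {a b c : κ} (hD : 4 * a * c - b ^ 2 ≠ 0)
    (e : AdicCompletion (maximalIdeal A) A ≃+* Quadric a b c) :
    LocCoh.IsGorensteinLocalRing A := by
  classical
  let P := MvPowerSeries (Fin 2) κ
  have := Groth.Calg6.isRegularLocalRing_mvPowerSeries κ 2
  have hne : quad a b c ≠ 0 := by
    intro h0
    have key : ∀ i j, i + j = 2 → MvPowerSeries.coeff (ee i j) (quad a b c * 1) = 0 := fun i j _ => by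
      rw [h0, zero_mul, map_zero]
    have he : ee 0 0 = 0 := by simp [ee]
    have k1 := key 2 0 rfl
    have k2 := key 1 1 rfl
    have k3 := key 0 2 rfl
    rw [coeff_quad_mul] at k1 k2 k3
    simp [he] at k1 k2 k3
    exact hD (by rw [k1, k2, k3]; ring)
  have hreg : IsSMulRegular P (quad a b c) := fun x y hxy => mul_left_cancel₀ hne hxy
  have hmem : quad a b c ∈ maximalIdeal P := by
    rw [mem_maximalIdeal, mem_nonunits_iff, MvPowerSeries.isUnit_iff_constantCoeff,
      (mem_varIdeal_iff _).mp (quad_mem_varIdeal a b c)]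
    exact not_isUnit_zero
  have : IsLocalRing (P ⧸ Ideal.span {quad a b c}) :=
    (inferInstance : IsLocalRing (Quadric a b c))
  have hP : ∃ n, GrothGoren.InjLT P P n :=
    (GrothGoren.isGorenstein_iff P).1 (Groth.Misc15.GorLoc.gor_of_regular P)
  have hQ := (GrothGoren.exists_injLT_quotient_iff P hmem hreg).1 hP
  let R := AdicCompletion (maximalIdeal A) A
  have : IsNoetherianRing R := isNoetherianRing_completion A
  have hR : ∃ n, GrothGoren.InjLT R R n := (GrothGoren.exists_injLT_iff_of_ringEquiv e).2 hQ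
  have : IsLocalHom (algebraMap A R) := ⟨fun a ha => by
    by_contra hna
    have h1 : algebraMap A R a ∈ maximalIdeal R := by
      rw [AdicCompletion.maximalIdeal_eq_map]
      exact Ideal.mem_map_of_mem _ ((mem_maximalIdeal _).mpr hna)
    exact (mem_maximalIdeal _).mp h1 ha⟩
  exact (GrothGoren.isGorenstein_iff A).2 (GrothGoren.exists_injLT_of_flat A R hR)

attribute [local instance] Curv2.resAlgebra Curv2.stalkAlgebra

variable {k : Type u} [Field k] {X : Scheme.{u}} [X.Over (Spec (CommRingCat.of k))]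
  [LocallyOfFiniteType (X ↘ (Spec (CommRingCat.of k)))]

theorem isGorenstein_of_isNodeStalk {x : X} (h : IsNodeStalk k X x) :
    LocCoh.IsGorensteinLocalRing (X.presheaf.stalk x) := by
  obtain ⟨hsep, hred, hA⟩ := h
  have := isNoetherianRing_stalk (k := k) x
  have : Algebra.FormallyEtale k (X.residueField x) :=
    Algebra.FormallyEtale.of_isSeparable k (X.residueField x)
  have hspan : (maximalIdeal (X.presheaf.stalk x)).spanFinrank ≠ 0 := by
    obtain ⟨hnp, u, v, -, -, -, huv, -, -⟩ := hA
    rw [spanFinrank_eq_two huv hnp]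
    norm_num
  obtain ⟨t, ht, ht'⟩ := exists_nonZeroDivisor_of_isReduced hspan
  obtain ⟨a, b, c, hD, e, -⟩ := equiv_of_criterion (k := k) (κ := X.residueField x)
    (AlgEquiv.ofRingEquiv (f := RingEquiv.refl (X.residueField x)) fun _ => rfl) hA ht ht'
  exact isGorenstein_of_equiv hD e

include k in
theorem exists_closed_specialization (x : X) : ∃ x₀, x ⤳ x₀ ∧ IsClosed ({x₀} : Set X) := by
  have := LocallyOfFiniteType.jacobsonSpace (X ↘ (Spec (CommRingCat.of k)))
  obtain ⟨x₀, hx₀, hx₀'⟩ := nonempty_inter_closedPoints (Z := closure ({x} : Set X))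
    ⟨x, subset_closure rfl⟩ isClosed_closure.isLocallyClosed
  exact ⟨x₀, specializes_iff_mem_closure.2 hx₀, hx₀'⟩

/-- All local rings of an at-worst-nodal curve are Gorenstein. -/
theorem isGorenstein_stalk_of_atWorstNodal (hX : Curv2.AtWorstNodal k X) (x : X) :
    LocCoh.IsGorensteinLocalRing (X.presheaf.stalk x) := by
  obtain ⟨x₀, hxx₀, hx₀⟩ := exists_closed_specialization (k := k) x
  have := isNoetherianRing_stalk (k := k) x₀
  refine isGorenstein_stalk_of_specializes hxx₀ ?_
  rcases hX x₀ hx₀ with ⟨U, hxU, hU⟩ | hn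
  · have : IsLocallyNoetherian X := LocallyOfFiniteType.isLocallyNoetherian (X ↘ (Spec (CommRingCat.of k)))
    have : LocallyOfFinitePresentation (X ↘ (Spec (CommRingCat.of k))) :=
      inferInstance
    have h1 : x₀ ∈ (X ↘ (Spec (CommRingCat.of k))).smoothLocus := by
      have h2 : (⟨x₀, hxU⟩ : U) ∈ (U.ι ≫ (X ↘ (Spec (CommRingCat.of k)))).smoothLocus := by
        rw [Scheme.Hom.smoothLocus_eq_top]; trivial
      rw [← Scheme.Hom.preimage_smoothLocus_eq] at h2
      exact h2
    have := Groth.VarietyBC.isRegularLocalRing_of_mem_smoothLocus h1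
    exact Groth.Misc15.GorLoc.gor_of_regular _
  · exact isGorenstein_of_isNodeStalk ((isNode_iff_isNodeStalk x₀).1 hn)

/-- An at-worst-nodal curve is geometrically reduced. -/
theorem geometricallyReduced_of_atWorstNodal (hX : Curv2.AtWorstNodal k X) :
    GeometricallyReduced (X ↘ (Spec (CommRingCat.of k))) := by
  let K := AlgebraicClosure k
  let : (Curv2.bc k X K).Over (Spec (CommRingCat.of K)) := ⟨Curv2.bcSnd k X K⟩
  have : LocallyOfFiniteType ((Curv2.bc k X K) ↘ (Spec (CommRingCat.of K))) :=
    inferInstanceAs (LocallyOfFiniteType (Curv2.bcSnd k X K))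
  have hclosed : ∀ z : Curv2.bc k X K, IsClosed ({z} : Set (Curv2.bc k X K)) →
      _root_.IsReduced ((Curv2.bc k X K).presheaf.stalk z) := by
    intro z hz
    have hx : IsClosed ({Curv2.bcFst k X K z} : Set X) := by
      have : IsIntegralHom (Spec.map (CommRingCat.ofHom (algebraMap k K))) := by
        rw [IsIntegralHom.SpecMap_iff]
        exact algebraMap_isIntegral_iff.mpr inferInstance
      rw [← Set.image_singleton]
      exact (Curv2.bcFst k X K).isClosedMap _ hz
    rcases hX _ hx with ⟨U, hxU, hU⟩ | hn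
    · let V := Curv2.bcFst k X K ⁻¹ᵁ U
      have hV : Smooth (V.ι ≫ Curv2.bcSnd k X K) :=
        MorphismProperty.of_isPullback (P := (@Smooth : MorphismProperty Scheme.{u}))
          ((isPullback_morphismRestrict (Curv2.bcFst k X K) U).paste_vert
            (IsPullback.of_hasPullback (X ↘ (Spec (CommRingCat.of k)))
              (Spec.map (CommRingCat.ofHom (algebraMap k K))))) hU
      have : IsReduced (V : Scheme.{u}) := Groth.Agf.isReduced_of_smooth (V.ι ≫ Curv2.bcSnd k X K)
      exact isReduced_of_injective (V.stalkIso ⟨z, hxU⟩).inv.hom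
        (V.stalkIso ⟨z, hxU⟩).commRingCatIsoToRingEquiv.symm.injective
    · let := Curv2.stalkAlgebra K (Curv2.bc k X K) z
      have := isNoetherianRing_stalk_bc (k := k) K z
      obtain ⟨-, a, b, c, hD, ⟨e⟩⟩ := criterion_of_isOrdDoublePt
        (isOrdDoublePt_of_isNodeStalk K z ((isNode_iff_isNodeStalk _).1 hn))
      exact (criterion_of_equiv hD e).1
  refine Groth.VarietyBC.geometricallyReduced_iff_forall.2 fun x =>
    (Groth.VarietyBC.isGeomReducedAt_iff x).2 ?_
  rw [Algebra.isGeometricallyReduced_field_iff]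
  refine Groth.VarietyBC.isReduced_tensor_comm (Groth.VarietyBC.isReduced_tensor_of_stalks K x fun z _ => ?_)
  obtain ⟨z₀, hz, hz₀⟩ := exists_closed_specialization (k := K) z
  have := hclosed z₀ hz₀
  exact isReduced_stalk_of_specializes hz

end Groth.Curves1.Node
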