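import Mathlib
import Groth.Agent.Curves1.Node.Family
import Groth.Agent.Curves1.Node.NodalLocal
import Groth.Agent.FibreDim.RelDim
import Groth.Agent.FibreDim.BaseChange
import Groth.Agent.PropsBasic.LociBaseChange.Scheme
import Groth.Agent.VarietyBC.GeomReducedGeneric
import Groth.Agent.VarietyBC.Tower
import Groth.Agent.Variety2.GenSmooth

/-!
# At-worst-nodal curves and extensions of the base field
-/

open CategoryTheory CategoryTheory.Limits AlgebraicGeometry

universe u

namespace Groth.Curves1.Node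

attribute [local instance] Curv2.resAlgebra Curv2.stalkAlgebra

section Smooth

variable {X Y : Scheme.{u}} (f : X ⟶ Y) [LocallyOfFinitePresentation f]

theorem exists_smooth_nhd_iff (x : X) :
    (∃ U : X.Opens, x ∈ U ∧ Smooth (U.ι ≫ f)) ↔ x ∈ f.smoothLocus := by
  constructor
  · rintro ⟨U, hxU, hU⟩
    have h2 : (⟨x, hxU⟩ : U) ∈ (U.ι ≫ f).smoothLocus := by
      rw [Scheme.Hom.smoothLocus_eq_top]; trivial
    rw [← Scheme.Hom.preimage_smoothLocus_eq] at h2
    exact h2
  · exact fun h => ⟨f.smoothLocus, h, Groth.Variety2.smooth_of_le_smoothLocus f _ le_rfl⟩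

end Smooth

variable {k : Type u} [Field k] {X : Scheme.{u}} [X.Over (Spec (CommRingCat.of k))]
  [LocallyOfFiniteType (X ↘ (Spec (CommRingCat.of k)))] (K : Type u) [Field K] [Algebra k K]

noncomputable local instance : (Curv2.bc k X K).Over (Spec (CommRingCat.of K)) := ⟨Curv2.bcSnd k X K⟩

/-- Nodes are preserved and reflected by extensions of the base field. -/
theorem isNodeStalk_bc_iff (y : Curv2.bc k X K) :
    IsNodeStalk k X (Curv2.bcFst k X K y) ↔ IsNodeStalk K (Curv2.bc k X K) y := by
  let Ω := AlgebraicClosure K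
  have : LocallyOfFiniteType ((Curv2.bc k X K) ↘ (Spec (CommRingCat.of K))) :=
    inferInstanceAs (LocallyOfFiniteType (Curv2.bcSnd k X K))
  let e := Groth.VarietyBC.towerIso (k := k) (X := X) (K := K) (L := Ω)
  have : Surjective (Spec.map (CommRingCat.ofHom (algebraMap K Ω))) :=
    ⟨fun y => ⟨⟨⊥, Ideal.isPrime_bot⟩, Subsingleton.elim _ _⟩⟩
  obtain ⟨z, rfl⟩ := (Curv2.bcFst K (Curv2.bc k X K) Ω).surjective y
  let O₁ : (Curv2.bc K (Curv2.bc k X K) Ω).Over (Spec (CommRingCat.of Ω)) :=
    ⟨Curv2.bcSnd K (Curv2.bc k X K) Ω⟩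
  let O₂ : (Curv2.bc k X Ω).Over (Spec (CommRingCat.of Ω)) := ⟨Curv2.bcSnd k X Ω⟩
  let := Curv2.stalkAlgebra Ω (Curv2.bc K (Curv2.bc k X K) Ω) z
  let := Curv2.stalkAlgebra Ω (Curv2.bc k X Ω) (e.hom z)
  have hfst : Curv2.bcFst k X Ω (e.hom z) = Curv2.bcFst k X K (Curv2.bcFst K (Curv2.bc k X K) Ω z) := by
    rw [← Scheme.Hom.comp_apply, Groth.VarietyBC.towerIso_hom_fst, Scheme.Hom.comp_apply]
    rfl
  have := isNoetherianRing_stalk_bc (k := K) Ω z
  have := isNoetherianRing_stalk_bc (k := k) Ω (e.hom z)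
  let ρ : (Curv2.bc k X Ω).presheaf.stalk (e.hom z) ≃+*
      (Curv2.bc K (Curv2.bc k X K) Ω).presheaf.stalk z :=
    (asIso (e.hom.stalkMap z)).commRingCatIsoToRingEquiv
  have hclosed : IsClosed ({z} : Set (Curv2.bc K (Curv2.bc k X K) Ω)) ↔
      IsClosed ({e.hom z} : Set (Curv2.bc k X Ω)) := by
    rw [← (e.hom.homeomorph).isClosed_image, Set.image_singleton]
    rfl
  constructor
  · intro hx
    rw [← hfst] at hx
    have h' := isOrdDoublePt_of_isNodeStalk Ω (e.hom z) hx
    have hcl : IsClosed ({z} : Set (Curv2.bc K (Curv2.bc k X K) Ω)) := hclosed.mpr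
      (isClosed_bc Ω _ (isClosed_of_isSeparable_residueField _ hx.1))
    obtain ⟨N, π, π', p, hP⟩ := exists_stalk_presentation (k := K) Ω z hcl
    exact isNodeStalk_of_isOrdDoublePt Ω z hcl (isOrdDoublePt_of_ringEquiv ρ hP.exists_sub_algebraMap_mem h')
  · intro hy
    have hcl : IsClosed ({z} : Set (Curv2.bc K (Curv2.bc k X K) Ω)) :=
      isClosed_bc Ω z (isClosed_of_isSeparable_residueField _ hy.1)
    have h' := isOrdDoublePt_of_isNodeStalk Ω z hy
    have hcl' := hclosed.mp hcl
    obtain ⟨N, π, π', p, hP⟩ := exists_stalk_presentation (k := k) Ω (e.hom z) hcl'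
    rw [← hfst]
    exact isNodeStalk_of_isOrdDoublePt Ω (e.hom z) hcl'
      (isOrdDoublePt_of_ringEquiv ρ.symm hP.exists_sub_algebraMap_mem h')

/-- An at-worst-nodal curve is reduced. -/
theorem isReduced_of_atWorstNodal (hX : Curv2.AtWorstNodal k X) : IsReduced X := by
  have := geometricallyReduced_of_atWorstNodal hX
  have : IsLocallyNoetherian (Spec (CommRingCat.of k)) := inferInstance
  exact GeometricallyReduced.isReduced_of_flat_of_isLocallyNoetherian (X ↘ (Spec (CommRingCat.of k)))

/-- Being a nodal curve is invariant under extensions of the base field. -/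
theorem isNodalCurveOver_bc_iff :
    IsNodalCurveOver K (Curv2.bc k X K) ↔ IsNodalCurveOver k X := by
  have : IsLocallyNoetherian X := LocallyOfFiniteType.isLocallyNoetherian (X ↘ (Spec (CommRingCat.of k)))
  have : LocallyOfFinitePresentation (X ↘ (Spec (CommRingCat.of k))) := inferInstance
  have : LocallyOfFiniteType ((Curv2.bc k X K) ↘ (Spec (CommRingCat.of K))) :=
    inferInstanceAs (LocallyOfFiniteType (Curv2.bcSnd k X K))
  have : LocallyOfFinitePresentation ((Curv2.bc k X K) ↘ (Spec (CommRingCat.of K))) :=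
    inferInstanceAs (LocallyOfFinitePresentation (Curv2.bcSnd k X K))
  have hpb : IsPullback (Curv2.bcFst k X K) (Curv2.bcSnd k X K) (X ↘ (Spec (CommRingCat.of k)))
      (Spec.map (CommRingCat.ofHom (algebraMap k K))) := IsPullback.of_hasPullback _ _
  have hsurj : Surjective (Spec.map (CommRingCat.ofHom (algebraMap k K))) :=
    ⟨fun y => ⟨⟨⊥, Ideal.isPrime_bot⟩, Subsingleton.elim _ _⟩⟩
  have hequi : (∀ Z ∈ irreducibleComponents (Curv2.bc k X K : Type u), topologicalKrullDim Z = 1) ↔
      ∀ Z ∈ irreducibleComponents (X : Type u), topologicalKrullDim Z = 1 := by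
    have h1 := Groth.FibreDim.forall_component_dim_eq_iff ((Curv2.bc k X K) ↘ (Spec (CommRingCat.of K))) 1
    have h2 := Groth.FibreDim.forall_component_dim_eq_iff (X ↘ (Spec (CommRingCat.of k))) 1
    rw [Nat.cast_one] at h1 h2
    rw [h1, h2]
    have h3 := Groth.FibreDim.localDim_eq_of_isPullback (CommRingCat.ofHom (algebraMap k K))
      (X ↘ (Spec (CommRingCat.of k))) (Curv2.bcSnd k X K) (Curv2.bcFst k X K) hpb
    refine ⟨fun h x => ?_, fun h z => (h3 z).trans (h _)⟩
    obtain ⟨z, rfl⟩ := (Curv2.bcFst k X K).surjective x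
    exact (h3 z).symm.trans (h z)
  constructor
  · intro h
    refine ⟨hequi.1 h.1, fun x hx => ?_⟩
    obtain ⟨y, rfl⟩ := (Curv2.bcFst k X K).surjective x
    have : Flat (Spec.map (CommRingCat.ofHom (algebraMap k K))) := inferInstance
    rcases h.2 y (isClosed_bc K y hx) with hs | hn
    · left
      rw [exists_smooth_nhd_iff] at hs ⊢
      exact Groth.PropsBasic.Loci.mem_smoothLocus_of_flat hpb hs
    · right
      rw [isNode_iff_isNodeStalk] at hn ⊢
      exact (isNodeStalk_bc_iff K y).2 hn
  · intro h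
    refine ⟨hequi.2 h.1, fun y hy => ?_⟩
    have hsm : Curv2.bcFst k X K y ∈ (X ↘ (Spec (CommRingCat.of k))).smoothLocus →
        y ∈ ((Curv2.bc k X K) ↘ (Spec (CommRingCat.of K))).smoothLocus :=
      fun hs => Groth.PropsBasic.Loci.preimage_smoothLocus_le hpb hs
    by_cases hx : IsClosed ({Curv2.bcFst k X K y} : Set X)
    · rcases h.2 _ hx with hs | hn
      · left
        rw [exists_smooth_nhd_iff] at hs ⊢
        exact hsm hs
      · right
        rw [isNode_iff_isNodeStalk] at hn ⊢
        exact (isNodeStalk_bc_iff K y).1 hn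
    · left
      rw [exists_smooth_nhd_iff]
      refine hsm ?_
      have := geometricallyReduced_of_atWorstNodal h.2
      have := isReduced_of_atWorstNodal h.2
      refine Groth.VarietyBC.mem_smoothLocus_of_maximal fun z hz => ?_
      by_contra hne
      set x := Curv2.bcFst k X K y
      have hlt : x < z := Groth.Variety2.Dim.lt_iff.2 ⟨hz, Ne.symm hne⟩
      obtain ⟨η, hηz, hη⟩ := Groth.FibreDim.exists_genericPoint_specializes z
      have hη1 := (dim_irreducibleComponents_iff (X ↘ (Spec (CommRingCat.of k)))).1 h.1 η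
        (Groth.FibreDim.isMax_of_mem_genericPoints hη)
      have hx0 : Order.height x ≠ 0 := fun h0 => hx ((Groth.Variety2.Dim.height_eq_zero_iff x).1 h0)
      have h1 : Order.height x < Order.height z :=
        Groth.Variety2.Dim.height_toNat_lt (X ↘ (Spec (CommRingCat.of k))) hlt
      have h2 : Order.height z ≤ 1 := hη1 ▸ Order.height_mono (Scheme.le_iff_specializes.2 hηz)
      exact absurd (h1.trans_le h2) (not_lt.2 (Order.one_le_iff_ne_zero.2 hx0))

/-- Being a nodal curve is invariant under extensions of the base field, for any base change. -/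
theorem isNodalCurveOver_iff_of_isPullback {Z' : Scheme.{u}} [Z'.Over (Spec (CommRingCat.of K))]
    (q : Z' ⟶ X) (h : IsPullback q (Z' ↘ (Spec (CommRingCat.of K))) (X ↘ (Spec (CommRingCat.of k)))
      (Spec.map (CommRingCat.ofHom (algebraMap k K)))) :
    IsNodalCurveOver K Z' ↔ IsNodalCurveOver k X := by
  rw [← isNodalCurveOver_bc_iff (k := k) (X := X) K]
  have : LocallyOfFiniteType ((Curv2.bc k X K) ↘ (Spec (CommRingCat.of K))) :=
    inferInstanceAs (LocallyOfFiniteType (Curv2.bcSnd k X K))
  have : LocallyOfFiniteType (Z' ↘ (Spec (CommRingCat.of K))) :=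
    MorphismProperty.of_isPullback (P := (@LocallyOfFiniteType : MorphismProperty Scheme.{u})) h
      inferInstance
  exact ⟨fun hZ => IsNodalCurveOver.of_etale h.isoPullback.inv h.isoPullback_inv_snd hZ,
    fun hX => IsNodalCurveOver.of_etale h.isoPullback.hom h.isoPullback_hom_snd hX⟩

/-- The fibres of a base change are base changes of fibres. -/
theorem exists_fibre_isPullback {X Y X' Y' : Scheme.{u}} (f : X ⟶ Y) (g : Y' ⟶ Y) (f' : X' ⟶ Y')
    (g' : X' ⟶ X) (hc : IsPullback g' f' f g) (y' : Y') :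
    ∃ q : f'.fiber y' ⟶ f.fiber (g y'), IsPullback q (f'.fiberToSpecResidueField y')
      (f.fiberToSpecResidueField (g y')) (Spec.map (g.residueFieldMap y')) := by
  let σ := g.residueFieldMap y'
  let q : f'.fiber y' ⟶ f.fiber (g y') := pullback.lift (f'.fiberι y' ≫ g')
    (f'.fiberToSpecResidueField y' ≫ Spec.map σ) (by
      rw [Category.assoc, hc.w, Category.assoc, Scheme.Hom.SpecMap_residueFieldMap_fromSpecResidueField]
      exact pullback.condition_assoc g)
  have hq1 : q ≫ f.fiberι (g y') = f'.fiberι y' ≫ g' := pullback.lift_fst _ _ _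
  have hbig : IsPullback (f'.fiberι y' ≫ g') (f'.fiberToSpecResidueField y') f
      (Y'.fromSpecResidueField y' ≫ g) :=
    IsPullback.paste_horiz (IsPullback.of_hasPullback f' (Y'.fromSpecResidueField y')) hc
  rw [← Scheme.Hom.SpecMap_residueFieldMap_fromSpecResidueField, ← hq1] at hbig
  exact ⟨q, hbig.of_right (pullback.lift_snd _ _ _)
    (IsPullback.of_hasPullback f (Y.fromSpecResidueField (g y')))⟩

end Groth.Curves1.Node
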