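import Mathlib
import Groth.Agent.Curves1.Node.NodalLocal
import Groth.Agent.CI.Locus
import Groth.Agent.Calg1.CompletionLocal
import Groth.Agent.Syntomic.Fibrewise
import Groth.Agent.Variety2.DimAffine

/-!
# Equations of a flat family at a node of a fibre

A node is a complete intersection of dimension one, so a flat family of finite presentation is cut
out by `n` equations in affine `(n + 1)`-space near a node of a fibre.
-/

namespace Groth.Curves1.Node

open IsLocalRing Groth.SGA7.PS

universe u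

/-- A node, in terms of the local ring. -/
def IsNodeRing (k A : Type u) [Field k] [CommRing A] [IsLocalRing A] [Algebra k A] : Prop :=
  Algebra.IsSeparable k (ResidueField A) ∧ IsReduced A ∧ IsQuadraticCriterion A

/-- A node is a one-dimensional complete intersection. -/
theorem IsNodeRing.ci {k A : Type u} [Field k] [CommRing A] [IsLocalRing A] [IsNoetherianRing A]
    [Algebra k A] (hA : IsNodeRing k A) :
    Pi1.IsCompleteIntersection A ∧ ringKrullDim A = 1 := by
  classical
  obtain ⟨hsep, hred, hcrit⟩ := hA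
  have : Algebra.FormallyEtale k (ResidueField A) := Algebra.FormallyEtale.of_isSeparable k _
  have hspan : (maximalIdeal A).spanFinrank ≠ 0 := by
    obtain ⟨hnp, u, v, -, -, -, huv, -, -⟩ := hcrit
    rw [spanFinrank_eq_two huv hnp]
    norm_num
  obtain ⟨t, ht, ht'⟩ := exists_nonZeroDivisor_of_isReduced hspan
  obtain ⟨a, b, c, hD, e, -⟩ := equiv_of_criterion (k := k) (κ := ResidueField A)
    (AlgEquiv.ofRingEquiv (f := RingEquiv.refl (ResidueField A)) fun _ => rfl) hcrit ht ht'
  let P := MvPowerSeries (Fin 2) (ResidueField A)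
  have hPreg : IsRegularLocalRing P := Groth.Calg6.isRegularLocalRing_mvPowerSeries _ 2
  have hne : quad a b c ≠ 0 := by
    intro h0
    have key : ∀ i j, i + j = 2 → MvPowerSeries.coeff (ee i j) (quad a b c * 1) = 0 := fun i j _ => by
      rw [h0, zero_mul, map_zero]
    have he : ee 0 0 = 0 := by simp [ee]
    have k1 := key 2 0 rfl
    have k2 := key 1 1 rfl
    have k3 := key 0 2 rfl
    rw [coeff_quad_mul] at k1 k2 k3
    simp [he] at k1 k2 k3
    exact hD (by rw [k1, k2, k3]; ring)
  have hmem : quad a b c ∈ maximalIdeal P := by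
    rw [mem_maximalIdeal, mem_nonunits_iff, MvPowerSeries.isUnit_iff_constantCoeff,
      (mem_varIdeal_iff _).mp (quad_mem_varIdeal a b c)]
    exact not_isUnit_zero
  have hmem' : ∀ r ∈ [quad a b c], r ∈ maximalIdeal P := by simpa using hmem
  have hreg : RingTheory.Sequence.IsRegular P [quad a b c] :=
    (IsLocalRing.isRegular_iff_isWeaklyRegular_of_subset_maximalIdeal hmem').mpr
      ((RingTheory.Sequence.isWeaklyRegular_singleton_iff P _).mpr
        fun x y hxy => mul_left_cancel₀ hne hxy)
  have hspan' : Ideal.span {quad a b c} = Ideal.ofList [quad a b c] := (Ideal.ofList_singleton _).symm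
  refine ⟨⟨P, inferInstance, hPreg, [quad a b c], hmem', hreg,
    ⟨e.trans (Ideal.quotEquivOfEq hspan')⟩⟩, ?_⟩
  have h1 := ringKrullDim_add_length_eq_ringKrullDim_of_isRegular _ hreg
  rw [← ringKrullDim_eq_of_ringEquiv (e.trans (Ideal.quotEquivOfEq hspan')),
    Groth.Calg1.ringKrullDim_adicCompletion, Groth.Calg6.ringKrullDim_mvPowerSeries] at h1
  obtain ⟨d, hd⟩ := Groth.CI.exists_nat_ringKrullDim A
  rw [hd, List.length_singleton] at h1
  rw [hd]
  have : d + 1 = 2 := by exact_mod_cast h1
  exact_mod_cast (by omega : d = 1)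

/-- `A` is the local ring of the fibre of `R → S` over the point `χ`, via `ρ`. -/
structure IsFibreLocal {R S k A : Type u} [CommRing R] [CommRing S] [Algebra R S] [Field k]
    [CommRing A] [IsLocalRing A] [Algebra k A] (χ : R →+* k) (ρ : S →+* A) : Prop where
  comm : ∀ r, ρ (algebraMap R S r) = algebraMap k A (χ r)
  frac : ∀ a, ∃ b c, IsUnit (ρ b) ∧ a * ρ b = ρ c
  ker : ∀ z, ρ z = 0 → ∃ s, IsUnit (ρ s) ∧ s * z ∈ (RingHom.ker χ).map (algebraMap R S)
  exists_eq_div : ∀ c : k, ∃ r r', χ r' ≠ 0 ∧ c * χ r' = χ r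

namespace IsFibreLocal

open MvPolynomial

variable {R S k A : Type u} [CommRing R] [CommRing S] [Algebra R S] [Field k]
  [CommRing A] [IsLocalRing A] [Algebra k A] {χ : R →+* k} {ρ : S →+* A} (h : IsFibreLocal χ ρ)
  {N : ℕ} (φ : MvPolynomial (Fin N) R →ₐ[R] S)

/-- The presentation of the fibre. -/
noncomputable def pres (_h : IsFibreLocal χ ρ) (φ : MvPolynomial (Fin N) R →ₐ[R] S) :
    MvPolynomial (Fin N) k →ₐ[k] A :=
  MvPolynomial.aeval fun i => ρ (φ (X i))

include h

theorem pres_map (f : MvPolynomial (Fin N) R) : h.pres φ (map χ f) = ρ (φ f) := by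
  refine RingHom.congr_fun (f := (h.pres φ).toRingHom.comp (map χ)) (g := ρ.comp φ.toRingHom) ?_ f
  ext r
  · show h.pres φ (map χ (C r)) = ρ (φ (C r))
    rw [map_C, ← MvPolynomial.algebraMap_eq, ← MvPolynomial.algebraMap_eq, AlgHom.commutes,
      AlgHom.commutes, h.comm]
  · simp [pres]

theorem pres_frac (hφ : Function.Surjective φ) (a : A) :
    ∃ b c, IsUnit (h.pres φ b) ∧ a * h.pres φ b = h.pres φ c := by
  obtain ⟨b, c, hb, hbc⟩ := h.frac a
  obtain ⟨b, rfl⟩ := hφ b
  obtain ⟨c, rfl⟩ := hφ c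
  exact ⟨map χ b, map χ c, by rwa [h.pres_map], by rw [h.pres_map, h.pres_map, hbc]⟩

theorem exists_C_mul_eq_map (q : MvPolynomial (Fin N) k) :
    ∃ r, χ r ≠ 0 ∧ ∃ a, C (χ r) * q = map χ a := by
  induction q using MvPolynomial.induction_on with
  | C c =>
    obtain ⟨r, r', hr', hc⟩ := h.exists_eq_div c
    exact ⟨r', hr', C r, by rw [map_C, ← map_mul, mul_comm, hc]⟩
  | add x y hx hy =>
    obtain ⟨r, hr, a, ha⟩ := hx
    obtain ⟨s, hs, b, hb⟩ := hy
    refine ⟨r * s, by rw [map_mul]; exact mul_ne_zero hr hs, C s * a + C r * b, ?_⟩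
    simp only [map_add, map_mul, map_C, ← ha, ← hb]
    ring
  | mul_X x i hx =>
    obtain ⟨r, hr, a, ha⟩ := hx
    exact ⟨r, hr, a * X i, by rw [map_mul, map_X, ← ha, mul_assoc]⟩

theorem exists_C_mul_mem (I : Ideal (MvPolynomial (Fin N) R)) {y : MvPolynomial (Fin N) k}
    (hy : y ∈ I.map (map χ)) : ∃ r, χ r ≠ 0 ∧ ∃ a ∈ I, C (χ r) * y = map χ a := by
  rw [Ideal.map] at hy
  induction hy using Submodule.span_induction with
  | mem y hy =>
    obtain ⟨a, ha, rfl⟩ := hy
    exact ⟨1, by simp, a, ha, by simp⟩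
  | zero => exact ⟨1, by simp, 0, zero_mem _, by simp⟩
  | add x y _ _ hx hy =>
    obtain ⟨r, hr, a, haI, ha⟩ := hx
    obtain ⟨s, hs, b, hbI, hb⟩ := hy
    refine ⟨r * s, by rw [map_mul]; exact mul_ne_zero hr hs, C s * a + C r * b,
      add_mem (Ideal.mul_mem_left _ _ haI) (Ideal.mul_mem_left _ _ hbI), ?_⟩
    simp only [map_add, map_mul, map_C, ← ha, ← hb]
    ring
  | smul z x _ hx =>
    obtain ⟨r, hr, a, haI, ha⟩ := hx
    obtain ⟨s, hs, b, hb⟩ := h.exists_C_mul_eq_map z
    refine ⟨s * r, by rw [map_mul]; exact mul_ne_zero hs hr, b * a, Ideal.mul_mem_left _ _ haI, ?_⟩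
    simp only [map_mul, smul_eq_mul, ← ha, ← hb]
    ring

theorem pres_ker (hφ : Function.Surjective φ) {q : MvPolynomial (Fin N) k} (hq : h.pres φ q = 0) :
    ∃ s, IsUnit (ρ (φ s)) ∧ map χ s * q ∈ (RingHom.ker φ.toRingHom).map (map χ) := by
  obtain ⟨r, hr, a, ha⟩ := h.exists_C_mul_eq_map q
  have h0 : ρ (φ a) = 0 := by rw [← h.pres_map, ← ha, map_mul, hq, mul_zero]
  obtain ⟨s, hs, hsz⟩ := h.ker _ h0
  obtain ⟨s, rfl⟩ := hφ s
  refine ⟨s, hs, (Ideal.unit_mul_mem_iff_mem _ ((Ne.isUnit hr).map C)).1 ?_⟩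
  rw [← map_mul, show algebraMap R S = φ.toRingHom.comp C from RingHom.ext fun r => (φ.commutes r).symm,
    ← Ideal.map_map] at hsz
  obtain ⟨z, hz, hzeq⟩ := (Ideal.mem_map_iff_of_surjective φ.toRingHom hφ).1 hsz
  have hz0 : map χ z = 0 := by
    have : (RingHom.ker χ).map C ≤ RingHom.ker (map (σ := Fin N) χ) := by
      rw [Ideal.map_le_iff_le_comap]
      intro x hx
      rw [Ideal.mem_comap, RingHom.mem_ker, map_C, RingHom.mem_ker.1 hx, map_zero]
    exact this hz
  have hI : s * a - z ∈ RingHom.ker φ.toRingHom := by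
    rw [RingHom.mem_ker, map_sub, hzeq]
    exact sub_self _
  have := Ideal.mem_map_of_mem (map χ) hI
  rw [map_sub, hz0, sub_zero, map_mul, ← ha, mul_left_comm] at this
  exact this

theorem comap_C_eq :
    (((maximalIdeal A).comap (h.pres φ)).comap (map χ)).comap C = RingHom.ker χ := by
  ext r
  rw [Ideal.mem_comap, Ideal.mem_comap, Ideal.mem_comap, map_C, ← MvPolynomial.algebraMap_eq,
    AlgHom.commutes, mem_maximalIdeal, mem_nonunits_iff, RingHom.mem_ker]
  constructor
  · intro hu
    by_contra h0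
    exact hu ((Ne.isUnit h0).map _)
  · intro h0
    rw [h0, map_zero]
    exact not_isUnit_zero

/-- Near a closed point of a fibre at which the fibre is a one-dimensional complete intersection, a
flat family is cut out by one equation less than the number of variables. -/
theorem exists_equations_of_ci [IsNoetherianRing A] [Algebra.IsIntegral k (ResidueField A)]
    (hφ : Function.Surjective φ) [Module.Flat R S] (hI : (RingHom.ker φ.toRingHom).FG)
    (hci : Pi1.IsCompleteIntersection A) (hdim : ringKrullDim A = 1) :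
    ∃ (n : ℕ) (g : Fin n → MvPolynomial (Fin N) R) (hh : MvPolynomial (Fin N) R), N = n + 1 ∧
      (∀ i, φ (g i) = 0) ∧ IsUnit (ρ (φ hh)) ∧
      ∀ x, φ x = 0 → hh * x ∈ Ideal.span (Set.range g) := by
  classical
  set π := h.pres φ
  set I := RingHom.ker φ.toRingHom
  let P := (maximalIdeal A).comap π
  have hPmax : P.IsMaximal := by
    let : Algebra (MvPolynomial (Fin N) k) (ResidueField A) :=
      ((residue A).comp π.toRingHom).toAlgebra
    have : IsScalarTower k (MvPolynomial (Fin N) k) (ResidueField A) :=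
      IsScalarTower.of_algebraMap_eq fun c => congrArg (residue A) (π.commutes c).symm
    have : Algebra.IsIntegral (MvPolynomial (Fin N) k) (ResidueField A) :=
      Algebra.IsIntegral.tower_top (R := k)
    have := Ideal.isMaximal_comap_of_isIntegral_of_isMaximal (R := MvPolynomial (Fin N) k)
      (⊥ : Ideal (ResidueField A))
    have heq : P = (⊥ : Ideal (ResidueField A)).comap
        (algebraMap (MvPolynomial (Fin N) k) (ResidueField A)) := by
      ext x
      exact (residue_eq_zero_iff _).symm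
    rwa [heq]
  let O := Localization.AtPrime P
  have : IsRegularRing (MvPolynomial (Fin N) k) := MvPolynomial.isRegularRing_of_isRegularRing k
  have hOdim : ringKrullDim O = (N : WithBot ℕ∞) := by
    rw [IsLocalization.AtPrime.ringKrullDim_eq_height P O,
      Groth.Variety2.Dim.height_isMaximal_mvPolynomial k N P hPmax]
    rfl
  have hu : ∀ y : P.primeCompl, IsUnit (π.toRingHom y.1) := fun y => by
    by_contra hn
    exact y.2 ((mem_maximalIdeal _).2 hn)
  let ψ : O →+* A := IsLocalization.lift (M := P.primeCompl) (g := π.toRingHom) hu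
  have hψ : ∀ q, ψ (algebraMap _ O q) = π q := fun q => IsLocalization.lift_eq _ q
  have hψsurj : Function.Surjective ψ := by
    intro z
    obtain ⟨b, c, hb, hbc⟩ := h.pres_frac φ hφ z
    refine ⟨IsLocalization.mk' O c (⟨b, fun hbP => (mem_maximalIdeal _).1 hbP hb⟩ : P.primeCompl), ?_⟩
    rw [IsLocalization.lift_mk'_spec]
    show π c = π b * z
    rw [← hbc, mul_comm]
  obtain ⟨rs, hrsI, hrs⟩ := (Groth.CI.isCompleteIntersection_iff_of_surjective ψ hψsurj).1 hci
  have hlen : N = rs.length + 1 := by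
    have h1 := ringKrullDim_add_length_eq_ringKrullDim_of_isRegular rs hrs
    rw [ringKrullDim_eq_of_ringEquiv ((Ideal.quotEquivOfEq hrsI).trans
      (RingHom.quotientKerEquivOfSurjective hψsurj)), hdim, hOdim] at h1
    have : 1 + rs.length = N := by exact_mod_cast h1
    omega
  have hlift : ∀ y ∈ rs, ∃ a ∈ I, ∃ u : O, IsUnit u ∧ algebraMap _ O (map χ a) = u * y := by
    intro y hy
    obtain ⟨q, s, rfl⟩ := IsLocalization.exists_mk'_eq P.primeCompl y
    have hy0 : ψ (IsLocalization.mk' O q s) = 0 := hrsI.le (Ideal.subset_span hy)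
    have hq : π q = 0 := by
      rw [← hψ, ← IsLocalization.mk'_spec O q s, map_mul, hy0, zero_mul]
    obtain ⟨s₁, hs₁, hmem⟩ := h.pres_ker φ hφ hq
    obtain ⟨r, hr, a, ha, hraq⟩ := h.exists_C_mul_mem _ hmem
    refine ⟨a, ha, algebraMap _ O (C (χ r) * map χ s₁ * s.1), ?_, ?_⟩
    · rw [map_mul, map_mul]
      refine ((((Ne.isUnit hr).map C).map _).mul (IsLocalization.map_units O
        (⟨map χ s₁, fun hm => (mem_maximalIdeal _).1 hm ?_⟩ : P.primeCompl))).mul
        (IsLocalization.map_units O s)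
      rwa [h.pres_map]
    · rw [← hraq]
      rw [map_mul, map_mul, map_mul, map_mul, ← IsLocalization.mk'_spec O q s]
      ring
  choose! aa haI uu huu haa using hlift
  let g : Fin rs.length → MvPolynomial (Fin N) R := fun i => aa (rs.get i)
  have hgI : ∀ i, g i ∈ I := fun i => haI _ (List.get_mem rs i)
  have hkerψ : RingHom.ker ψ ≤ (Ideal.span (Set.range fun i => map χ (g i))).map (algebraMap _ O) := by
    rw [← hrsI]
    refine Ideal.span_le.2 fun y hy => ?_
    obtain ⟨i, rfl⟩ := List.mem_iff_get.1 hy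
    refine (Ideal.unit_mul_mem_iff_mem _ (huu _ (List.get_mem rs i))).1 ?_
    rw [← haa _ (List.get_mem rs i)]
    exact Ideal.mem_map_of_mem _ (Ideal.subset_span ⟨i, rfl⟩)
  -- transport to the residue field of the point
  set p := RingHom.ker χ
  have hp : p.IsPrime := RingHom.ker_isPrime χ
  let e : p.ResidueField →+* k := Ideal.ResidueField.lift p χ le_rfl
    fun r hr => Ne.isUnit hr
  have he : e.comp (algebraMap R p.ResidueField) = χ :=
    RingHom.ext fun r => Ideal.ResidueField.lift_algebraMap p χ le_rfl (fun r hr => Ne.isUnit hr) r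
  have hebij : Function.Bijective e := by
    refine ⟨e.injective, fun c => ?_⟩
    obtain ⟨r, r', hr', hc⟩ := h.exists_eq_div c
    refine ⟨algebraMap R _ r / algebraMap R _ r', ?_⟩
    rw [map_div₀, ← RingHom.comp_apply, ← RingHom.comp_apply e, he, ← hc, mul_div_cancel_right₀ _ hr']
  let em : MvPolynomial (Fin N) p.ResidueField →+* MvPolynomial (Fin N) k := map e
  have hem : Function.Bijective em :=
    ⟨map_injective e hebij.1, map_surjective e hebij.2⟩
  have hemΦ : ∀ f, em (map (algebraMap R p.ResidueField) f) = map χ f := fun f => by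
    rw [map_map, he]
  let q : Ideal (MvPolynomial (Fin N) R) := P.comap (map χ)
  have : q.IsPrime := inferInstanceAs (P.comap (map χ)).IsPrime
  let q' : Ideal (MvPolynomial (Fin N) p.ResidueField) := P.comap em
  have : q'.IsPrime := inferInstanceAs (P.comap em).IsPrime
  have hq' : q'.comap (map (algebraMap R p.ResidueField)) = q := by
    ext f
    rw [Ideal.mem_comap, Ideal.mem_comap, hemΦ]
    exact Ideal.mem_comap.symm
  obtain ⟨hh, hhq, hhI⟩ := Groth.Syntomic.exists_generators_of_fibre (p := p) φ hφ hI q (h.comap_C_eq φ)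
    q' hq' (List.ofFn g) (by rw [Groth.Calg5.RelGCI.ofList_ofFn, Ideal.span_le]
                             rintro _ ⟨i, rfl⟩; exact hgI i)
    fun x hx => by
      have h0 : algebraMap _ O (map χ x) ∈ RingHom.ker ψ := by
        rw [RingHom.mem_ker, hψ, h.pres_map, show φ x = 0 from hx, map_zero]
      obtain ⟨⟨⟨y, hy⟩, s⟩, hs⟩ := (IsLocalization.mem_map_algebraMap_iff P.primeCompl _).1 (hkerψ h0)
      rw [← map_mul] at hs
      obtain ⟨c, hc⟩ := IsLocalization.exists_of_eq (M := P.primeCompl) hs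
      obtain ⟨u, hu'⟩ := hem.2 (c.1 * s.1)
      refine ⟨u, fun hm => ?_, ?_⟩
      · have : c.1 * s.1 ∈ P := hu' ▸ hm
        exact (hPmax.isPrime.mem_or_mem this).elim c.2 s.2
      · rw [← Ideal.comap_map_of_bijective em hem (I := (Ideal.ofList (List.ofFn g)).map _), Ideal.mem_comap,
          map_mul, hu', hemΦ, Ideal.map_map, show em.comp (map (algebraMap R p.ResidueField)) = map χ from
            RingHom.ext hemΦ, Groth.Calg5.RelGCI.ofList_ofFn, Ideal.map_span, ← Set.range_comp,
          mul_comm (c : MvPolynomial (Fin N) k) s, mul_assoc, mul_left_comm, mul_comm (s : MvPolynomial (Fin N) k) (map χ x), hc]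
        exact Ideal.mul_mem_left _ _ hy
  refine ⟨rs.length, g, hh, hlen, hgI, ?_, fun x hx => ?_⟩
  · by_contra hn
    refine hhq ?_
    rw [← h.pres_map φ hh] at hn
    exact (mem_maximalIdeal _).2 hn
  · rw [← Groth.Calg5.RelGCI.ofList_ofFn]
    exact hhI x hx

/-- Near a node of a fibre, a flat family is cut out by one equation less than the number of
variables. -/
theorem exists_equations [IsNoetherianRing A] (hφ : Function.Surjective φ) [Module.Flat R S]
    (hI : (RingHom.ker φ.toRingHom).FG) (hA : IsNodeRing k A) :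
    ∃ (n : ℕ) (g : Fin n → MvPolynomial (Fin N) R) (hh : MvPolynomial (Fin N) R), N = n + 1 ∧
      (∀ i, φ (g i) = 0) ∧ IsUnit (ρ (φ hh)) ∧
      ∀ x, φ x = 0 → hh * x ∈ Ideal.span (Set.range g) := by
  have := hA.1
  exact h.exists_equations_of_ci φ hφ hI hA.ci.1 hA.ci.2

end IsFibreLocal

end Groth.Curves1.Node
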