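import Mathlib
import Groth.Agent.Curves1.Node.Completion
import Groth.Agent.Curves1.Node.Criterion

/-!
# Reduced quotients of nodes and of regular one-dimensional local rings
-/

open IsLocalRing

universe u

namespace Groth.Curves1.Node

variable {A B : Type u} [CommRing A] [IsLocalRing A] [CommRing B] [IsLocalRing B]
  {φ : A →+* B}

theorem map_maximalIdeal_of_surjective (hφ : Function.Surjective φ) :
    (maximalIdeal A).map φ = maximalIdeal B := by
  rcases Ideal.map_eq_top_or_isMaximal_of_surjective φ hφ (maximalIdeal.isMaximal A) with h | h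
  · exfalso
    have h1 : (1 : B) ∈ (maximalIdeal A).map φ := h ▸ Submodule.mem_top
    obtain ⟨a, ha, ha1⟩ := (Ideal.mem_map_iff_of_surjective φ hφ).1 h1
    have h2 : (1 : A) - a ∈ RingHom.ker φ := by simp [RingHom.mem_ker, ha1]
    have h3 := RingHom.ker_ne_top φ
    exact h3 (Ideal.eq_top_of_isUnit_mem _ h2
      ((isUnit_or_isUnit_of_add_one (show a + (1 - a) = 1 by ring)).resolve_left
        ((mem_maximalIdeal a).1 ha)))
  · exact eq_maximalIdeal h

theorem exists_mem_pow_not_mem_pow_succ [IsNoetherianRing A] {z : A} (hz : z ≠ 0) :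
    ∃ n : ℕ, z ∈ maximalIdeal A ^ n ∧ z ∉ maximalIdeal A ^ (n + 1) := by
  classical
  have h : ∃ n : ℕ, z ∉ maximalIdeal A ^ n := by
    by_contra hall
    push Not at hall
    have h1 : z ∈ ⨅ n : ℕ, maximalIdeal A ^ n := Submodule.mem_iInf _ |>.2 hall
    rw [Ideal.iInf_pow_eq_bot_of_isLocalRing _ (maximalIdeal.isMaximal A).ne_top] at h1
    exact hz h1
  have h0 : Nat.find h ≠ 0 := fun h0 => by
    have h1 := Nat.find_spec h
    rw [h0, pow_zero, Ideal.one_eq_top] at h1
    exact h1 Submodule.mem_top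
  refine ⟨Nat.find h - 1, not_not.1 (Nat.find_min h (by omega)), ?_⟩
  rw [Nat.sub_add_cancel (Nat.one_le_iff_ne_zero.2 h0)]
  exact Nat.find_spec h

omit [IsLocalRing A] in
theorem pow_succ_le_span_pow_mul {m : Ideal A} {t : A} (h : m * m ≤ Ideal.span {t} * m) (n : ℕ) :
    m ^ (n + 1) ≤ Ideal.span {t ^ n} * m := by
  induction n with
  | zero => simp
  | succ n ih =>
    rw [pow_succ, pow_succ t, ← Ideal.span_singleton_mul_span_singleton, mul_assoc]
    calc m ^ (n + 1) * m ≤ Ideal.span {t ^ n} * m * m := Ideal.mul_mono_left ih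
      _ = Ideal.span {t ^ n} * (m * m) := mul_assoc _ _ _
      _ ≤ _ := Ideal.mul_mono_right h

theorem ringKrullDim_le_zero_of_isNilpotent (h : ∀ t ∈ maximalIdeal B, IsNilpotent t) :
    ringKrullDim B ≤ 0 := by
  have : Ring.KrullDimLE 0 B := Ring.KrullDimLE.mk₀ fun P hP => by
    have hle : maximalIdeal B ≤ P := fun t ht => by
      obtain ⟨n, hn⟩ := h t ht
      exact hP.mem_of_pow_mem n (hn ▸ P.zero_mem)
    rw [le_antisymm (le_maximalIdeal hP.ne_top) hle]
    exact maximalIdeal.isMaximal B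
  have := (Ring.krullDimLE_iff (n := 0) (R := B)).1 this
  exact_mod_cast this

/-- A surjection from a local ring with principal maximal ideal onto a reduced ring of positive
dimension is injective. -/
theorem injective_of_principal [IsNoetherianRing A] [IsReduced B] (hφ : Function.Surjective φ)
    (hB : 1 ≤ ringKrullDim B) {π : A} (hπ : maximalIdeal A = Ideal.span {π}) :
    Function.Injective φ := by
  rw [injective_iff_map_eq_zero]
  intro z hz
  by_contra hne
  obtain ⟨n, hn, hn'⟩ := exists_mem_pow_not_mem_pow_succ hne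
  rw [hπ, Ideal.span_singleton_pow, Ideal.mem_span_singleton'] at hn
  obtain ⟨e, rfl⟩ := hn
  have he : IsUnit e := by
    by_contra he
    refine hn' ?_
    rw [pow_succ']
    exact Ideal.mul_mem_mul ((mem_maximalIdeal e).2 he)
      (Ideal.pow_mem_pow (hπ.ge (Ideal.mem_span_singleton_self π)) n)
  rw [map_mul, (he.map φ).mul_right_eq_zero, map_pow] at hz
  refine absurd (hB.trans (ringKrullDim_le_zero_of_isNilpotent (B := B) fun t ht => ?_)) (by simp)
  rw [← map_maximalIdeal_of_surjective hφ, hπ, Ideal.map_span, Set.image_singleton,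
    Ideal.mem_span_singleton'] at ht
  obtain ⟨c, rfl⟩ := ht
  exact ⟨n, by rw [mul_pow, hz, mul_zero]⟩

theorem isRegularLocalRing_of_principal {B : Type u} [CommRing B] [IsLocalRing B] [IsNoetherianRing B] (hB : 1 ≤ ringKrullDim B) {π : B}
    (hπ : maximalIdeal B = Ideal.span {π}) : IsRegularLocalRing B := by
  refine IsRegularLocalRing.of_spanFinrank_maximalIdeal_le (R := B) ?_
  refine le_trans ?_ hB
  have h := Submodule.spanFinrank_span_le_ncard_of_finite (R := B) (Set.finite_singleton π)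
  rw [show Submodule.span B {π} = maximalIdeal B from hπ.symm, Set.ncard_singleton] at h
  exact_mod_cast h

theorem exists_principal_of_spanFinrank_le_one [IsNoetherianRing A]
    (h : (maximalIdeal A).spanFinrank ≤ 1) : ∃ π, maximalIdeal A = Ideal.span {π} := by
  by_contra hall
  push Not at hall
  obtain ⟨s, hs, hspan⟩ := Submodule.FG.exists_span_finset_card_eq_spanFinrank
    (IsNoetherian.noetherian (maximalIdeal A))
  rcases Finset.eq_empty_or_nonempty s with rfl | ⟨z, hz⟩
  · refine hall 0 ?_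
    rw [← hspan, Finset.coe_empty, Submodule.span_empty, Ideal.span_singleton_zero]
  · have hs1 : s = {z} := Finset.eq_singleton_iff_unique_mem.mpr
      ⟨hz, fun w hw => Finset.card_le_one.mp (by omega) w hw z hz⟩
    refine hall z ?_
    rw [← hspan, hs1, Finset.coe_singleton]

/-- For a node there is an element `t` of the maximal ideal `m` with `m² = t m`, modulo `m³`;
hence, by Nakayama, on the nose. -/
theorem exists_sq_le_span_mul [IsNoetherianRing A] (hA : IsQuadraticCriterion A) :
    ∃ t ∈ maximalIdeal A,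
      maximalIdeal A * maximalIdeal A ≤ Ideal.span {t} * maximalIdeal A := by
  obtain ⟨-, x, y, a, b, c, hxy, hD, hq⟩ := hA
  set m := maximalIdeal A with hm
  have hx : x ∈ m := hxy ▸ Ideal.subset_span (Set.mem_insert _ _)
  have hy : y ∈ m := hxy ▸ Ideal.subset_span (Set.mem_insert_of_mem _ rfl)
  have key : ∀ t ∈ m, x * x ∈ Ideal.span {t} * m ⊔ m ^ 3 → x * y ∈ Ideal.span {t} * m ⊔ m ^ 3 →
      y * y ∈ Ideal.span {t} * m ⊔ m ^ 3 → m * m ≤ Ideal.span {t} * m := by
    intro t _ h1 h2 h3
    have hle : m * m ≤ Ideal.span {t} * m ⊔ m • (m * m) := by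
      rw [smul_eq_mul, show m * (m * m) = m ^ 3 by ring]
      conv_lhs => rw [← hxy, Ideal.span_pair_mul_span_pair]
      rw [Ideal.span_le]
      rintro w (rfl | rfl | rfl | rfl)
      exacts [h1, h2, by rw [mul_comm y x]; exact h2, h3]
    exact Submodule.le_of_le_smul_of_le_jacobson_bot (IsNoetherian.noetherian _)
      (maximalIdeal_le_jacobson _) hle
  have hD' : IsUnit (4 * a * c - b ^ 2) := by
    rwa [residue_ne_zero_iff_isUnit] at hD
  set q := a * x ^ 2 + b * x * y + c * y ^ 2 with hqdef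
  have hmem : ∀ {t w : A}, w ∈ m → t * w ∈ Ideal.span {t} * m ⊔ m ^ 3 := fun hw =>
    Ideal.mem_sup_left (Ideal.mul_mem_mul (Ideal.mem_span_singleton_self _) hw)
  have hq' : ∀ {t : A}, q ∈ Ideal.span {t} * m ⊔ m ^ 3 := Ideal.mem_sup_right hq
  have hdiv : ∀ {I : Ideal A} {e w : A}, IsUnit e → e * w ∈ I → w ∈ I := fun he h =>
    (Ideal.unit_mul_mem_iff_mem _ he).1 h
  by_cases ha : IsUnit a
  · refine ⟨y, hy, key y hy (hdiv ha ?_) (mul_comm y x ▸ hmem hx) (hmem hy)⟩
    rw [show a * (x * x) = q - y * (b * x + c * y) by ring]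
    exact sub_mem hq' (hmem (add_mem (m.mul_mem_left _ hx) (m.mul_mem_left _ hy)))
  by_cases hc : IsUnit c
  · refine ⟨x, hx, key x hx (hmem hx) (hmem hy) (hdiv hc ?_)⟩
    rw [show c * (y * y) = q - x * (a * x + b * y) by ring]
    exact sub_mem hq' (hmem (add_mem (m.mul_mem_left _ hx) (m.mul_mem_left _ hy)))
  have ha' : a ∈ m := (mem_maximalIdeal a).2 ha
  have hc' : c ∈ m := (mem_maximalIdeal c).2 hc
  have hb : IsUnit b := by
    by_contra hb
    refine (mem_maximalIdeal _).1 ?_ hD'
    exact sub_mem (m.mul_mem_left _ hc') (Ideal.pow_mem_of_mem _ ((mem_maximalIdeal b).2 hb) 2 two_pos)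
  have hxy' : x * y ∈ Ideal.span {x + y} * m ⊔ m ^ 3 := by
    refine hdiv hb ?_
    rw [show b * (x * y) = q - (a * (x * x) + c * (y * y)) by ring]
    refine sub_mem hq' (Ideal.mem_sup_right ?_)
    rw [show m ^ 3 = m * (m * m) by ring]
    exact add_mem (Ideal.mul_mem_mul ha' (Ideal.mul_mem_mul hx hx))
      (Ideal.mul_mem_mul hc' (Ideal.mul_mem_mul hy hy))
  refine ⟨x + y, add_mem hx hy, key _ (add_mem hx hy) ?_ hxy' ?_⟩
  · rw [show x * x = (x + y) * x - x * y by ring]
    exact sub_mem (hmem hx) hxy'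
  · rw [show y * y = (x + y) * y - x * y by ring]
    exact sub_mem (hmem hy) hxy'

/-- A surjection from a node onto a reduced local ring of positive dimension is bijective or has
regular target. -/
theorem injective_or_isRegularLocalRing [IsNoetherianRing A] [IsNoetherianRing B] [IsReduced B]
    (hA : IsQuadraticCriterion A) (hφ : Function.Surjective φ) (hB : 1 ≤ ringKrullDim B) :
    Function.Injective φ ∨ IsRegularLocalRing B := by
  obtain ⟨t, ht, hsq⟩ := exists_sq_le_span_mul hA
  set m := maximalIdeal A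
  have hmB : m.map φ = maximalIdeal B := map_maximalIdeal_of_surjective hφ
  have hnzd : ∀ b : B, φ t * b = 0 → b = 0 := by
    intro b hb
    by_contra hb0
    obtain ⟨Q, hQ, hbQ⟩ : ∃ Q : Ideal B, Q.IsPrime ∧ b ∉ Q := by
      by_contra hall
      push Not at hall
      exact hb0 (IsReduced.eq_zero b (nilpotent_iff_mem_prime.2 hall))
    obtain ⟨P, hP, hPQ⟩ := Ideal.exists_minimalPrimes_le (I := (⊥ : Ideal B)) (J := Q) bot_le
    have hPp : P.IsPrime := hP.1.1
    have htP : φ t ∈ P := (hPp.mem_or_mem (hb ▸ P.zero_mem)).resolve_right fun h => hbQ (hPQ h)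
    have hle : maximalIdeal B ≤ P := fun w hw => by
      obtain ⟨v, hv, rfl⟩ := (Ideal.mem_map_iff_of_surjective φ hφ).1 (hmB.ge hw)
      obtain ⟨s, -, hs⟩ := Ideal.mem_span_singleton_mul.1 (hsq (Ideal.mul_mem_mul hv hv))
      have h2 : φ v * φ v ∈ P := by
        rw [← map_mul, ← hs, map_mul]
        exact P.mul_mem_right _ htP
      exact (hPp.mem_or_mem h2).elim id id
    refine absurd (hB.trans (ringKrullDim_le_zero_of_isNilpotent (B := B) fun w hw => ?_)) (by simp)
    refine nilpotent_iff_mem_prime.2 fun R hR => ?_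
    obtain ⟨R₀, hR₀, hle₀⟩ := Ideal.exists_minimalPrimes_le (I := (⊥ : Ideal B)) (J := R) bot_le
    exact hle₀ (hP.2 hR₀.1 ((le_maximalIdeal hR₀.1.1.ne_top).trans hle) (hle hw))
  by_cases hinj : Function.Injective φ
  · exact Or.inl hinj
  right
  rw [injective_iff_map_eq_zero] at hinj
  push Not at hinj
  obtain ⟨z, hz, hz0⟩ := hinj
  obtain ⟨n, hn, hn'⟩ := exists_mem_pow_not_mem_pow_succ hz0
  obtain _ | n := n
  · rw [pow_one] at hn'
    exact absurd (((not_not.1 ((mem_maximalIdeal z).not.1 hn')).map φ)) (by simp [hz])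
  obtain ⟨w, hw, rfl⟩ := Ideal.mem_span_singleton_mul.1 (pow_succ_le_span_pow_mul hsq n hn)
  have hw2 : w ∉ m ^ 2 := fun hw2 => hn' <| by
    rw [show n + 1 + 1 = n + 2 by ring, pow_add]
    exact Ideal.mul_mem_mul (Ideal.pow_mem_pow ht n) hw2
  have hw0 : φ w = 0 := by
    rw [map_mul, map_pow] at hz
    clear hn hn' hz0
    induction n with
    | zero => simpa using hz
    | succ n ih => exact ih (hnzd _ (by rw [← hz]; ring))
  obtain ⟨-, x, y, a, b, c, hxy, -, -⟩ := hA
  change Ideal.span {x, y} = m at hxy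
  have hx : x ∈ m := hxy ▸ Ideal.subset_span (Set.mem_insert _ _)
  have hy : y ∈ m := hxy ▸ Ideal.subset_span (Set.mem_insert_of_mem _ rfl)
  obtain ⟨α, β, hαβ⟩ := Ideal.mem_span_pair.1 (hxy.ge hw)
  obtain ⟨v, hvm, hv⟩ : ∃ v ∈ m, ∀ w' ∈ ({x, y} : Set A), φ w' ∈ Ideal.span {φ v} := by
    by_cases hα : IsUnit α
    · refine ⟨y, hy, ?_⟩
      rintro w' (rfl | rfl)
      · have h1 : φ α * φ w' = -(φ β * φ y) := by
          rw [eq_neg_iff_add_eq_zero, ← map_mul, ← map_mul, ← map_add, hαβ, hw0]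
        refine (Ideal.unit_mul_mem_iff_mem _ (hα.map φ)).1 ?_
        rw [h1]
        exact neg_mem (Ideal.mul_mem_left _ _ (Ideal.mem_span_singleton_self _))
      · exact Ideal.mem_span_singleton_self _
    · have hβ : IsUnit β := by
        by_contra hβ
        refine hw2 (hαβ ▸ (sq m).symm ▸ add_mem ?_ ?_)
        · exact Ideal.mul_mem_mul ((mem_maximalIdeal α).2 hα) hx
        · exact Ideal.mul_mem_mul ((mem_maximalIdeal β).2 hβ) hy
      refine ⟨x, hx, ?_⟩
      rintro w' (rfl | rfl)
      · exact Ideal.mem_span_singleton_self _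
      · have h1 : φ β * φ w' = -(φ α * φ x) := by
          rw [eq_neg_iff_add_eq_zero, ← map_mul, ← map_mul, ← map_add, add_comm, hαβ, hw0]
        refine (Ideal.unit_mul_mem_iff_mem _ (hβ.map φ)).1 ?_
        rw [h1]
        exact neg_mem (Ideal.mul_mem_left _ _ (Ideal.mem_span_singleton_self _))
  refine isRegularLocalRing_of_principal hB (π := φ v) (le_antisymm ?_ ?_)
  · rw [← hmB, show m = Ideal.span {x, y} from hxy.symm, Ideal.map_span, Ideal.span_le]
    rintro _ ⟨w', hw', rfl⟩
    exact hv w' hw'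
  · rw [Ideal.span_singleton_le_iff_mem, ← hmB]
    exact Ideal.mem_map_of_mem φ hvm

end Groth.Curves1.Node
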