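import Mathlib
import Groth.Agent.Curves1.Node.Jacobian
import Groth.Agent.Curves1.Node.NodeQuotient
import Groth.Agent.Variety2.DimAffine
import Groth.Agent.Calg6.CMSop

/-!
# Nodes of complete intersection curves at rational points

For a local ring `K[X₁, …, X_{n+1}]_p/(g₁, …, gₙ)` at a rational point the quadric criterion holds
iff the maximal minors of the Jacobian matrix generate the maximal ideal.
-/

namespace Groth.Curves1.Node

open IsLocalRing MvPolynomial

universe u

/-- The ideal of maximal minors of the Jacobian matrix of `g`. -/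
noncomputable def jacMinors {R : Type u} [CommRing R] {n : ℕ}
    (g : Fin n → MvPolynomial (Fin (n + 1)) R) : Ideal (MvPolynomial (Fin (n + 1)) R) :=
  Ideal.span (Set.range fun γ : Fin n → Fin (n + 1) =>
    (Matrix.of fun i j => pderiv (γ j) (g i)).det)

theorem map_jacMinors {R S : Type u} [CommRing R] [CommRing S] (f : R →+* S) {n : ℕ}
    (g : Fin n → MvPolynomial (Fin (n + 1)) R) :
    (jacMinors g).map (map f) = jacMinors fun i => map f (g i) := by
  rw [jacMinors, jacMinors, Ideal.map_span, ← Set.range_comp]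
  congr 1
  refine congrArg Set.range (funext fun γ => ?_)
  simp only [Function.comp_apply, RingHom.map_det, RingHom.mapMatrix_apply]
  congr 1
  ext i j : 2
  simp [pderiv_map]

variable {K : Type u} [Field K] {n : ℕ}

theorem exists_dependence (p : Fin (n + 1) → K) (g : Fin n → MvPolynomial (Fin (n + 1)) K)
    (hM : jacMinors g ≤ RingHom.ker (eval p)) :
    ∃ c : Fin n → K, c ≠ 0 ∧ ∑ i, c i • dv p (g i) = 0 := by
  classical
  by_contra hall
  push Not at hall
  let M : Matrix (Fin n) (Fin (n + 1)) K := Matrix.of fun i j => eval p (pderiv j (g i))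
  have hli : LinearIndependent K M.row := by
    rw [Fintype.linearIndependent_iff]
    intro c hc
    by_contra h0
    refine hall c (fun h => h0 fun i => by rw [h]; rfl) ?_
    ext j
    have := congrFun hc j
    simp only [Finset.sum_apply, Pi.smul_apply, smul_eq_mul, Pi.zero_apply] at this ⊢
    rw [← this]
    exact Finset.sum_congr rfl fun i _ => by rw [dv_apply]; rfl
  have hrank : M.rank = n := by rw [hli.rank_matrix, Fintype.card_fin]
  obtain ⟨b, hb, hbspan, hbli⟩ := exists_linearIndependent K (Set.range M.col)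
  have : Fintype b := hbli.setFinite.fintype
  have hcard : Fintype.card b = n := by
    rw [← finrank_span_eq_card hbli, Subtype.range_coe, hbspan, ← Matrix.rank_eq_finrank_span_cols, hrank]
  let e : Fin n ≃ b := (Fintype.equivFinOfCardEq hcard).symm
  choose γ hγ using fun i => hb (e i).2
  have hu : IsUnit (M.submatrix id γ) := by
    rw [← Matrix.linearIndependent_cols_iff_isUnit]
    have heq : (M.submatrix id γ).col = (fun i => (e i : Fin n → K)) := funext hγ
    rw [heq]
    exact hbli.comp e e.injective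
  have h2 : eval p (Matrix.of fun i j => pderiv (γ j) (g i)).det = 0 :=
    hM (Ideal.subset_span ⟨γ, rfl⟩)
  rw [RingHom.map_det] at h2
  exact ((Matrix.isUnit_iff_isUnit_det _).mp hu).ne_zero h2

theorem det_sub_adjugate_mem {ι : Type*} [Fintype ι] [DecidableEq ι] (p : Fin (n + 1) → K)
    (M : Matrix ι ι (MvPolynomial (Fin (n + 1)) K)) (i0 : ι)
    (hrow : ∀ j, eval p (M i0 j) = 0) :
    M.det - ∑ j, C ((M.map (eval p)).adjugate j i0) * M i0 j ∈ RingHom.ker (eval p) ^ 2 := by
  rw [Matrix.det_eq_sum_mul_adjugate_row M i0, ← Finset.sum_sub_distrib, sq]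
  refine sum_mem fun j _ => ?_
  rw [mul_comm (C _), ← mul_sub]
  refine Ideal.mul_mem_mul (hrow j) ?_
  have h : (M.map (eval p)).adjugate j i0 = eval p (M.adjugate j i0) := by
    have := congrFun (congrFun (RingHom.map_adjugate (eval p) M) j) i0
    simpa using this.symm
  rw [RingHom.mem_ker, map_sub, eval_C, h, sub_self]

theorem det_dirD_mem_jacMinors (g : Fin n → MvPolynomial (Fin (n + 1)) K)
    (W : Fin n → Fin (n + 1) → K) :
    (Matrix.of fun i j => IsPointPresentation.dirD (W j) (g i)).det ∈ jacMinors g := by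
  classical
  rw [← Matrix.det_transpose]
  refine det_mem_of_rows _ {v | ∃ a, v = fun i => pderiv a (g i)} (fun v hv => ?_) _ fun j => ?_
  · choose γ hγ using hv
    rw [← Matrix.det_transpose]
    refine Ideal.subset_span ⟨γ, ?_⟩
    show Matrix.det _ = Matrix.det _
    congr 1
    ext i j : 2
    simp [hγ j]
  · have : (Matrix.of fun i j => IsPointPresentation.dirD (W j) (g i)).transpose j =
        ∑ a, (C (W j a) : MvPolynomial (Fin (n + 1)) K) • fun i => pderiv a (g i) := by
      ext i : 1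
      simp [IsPointPresentation.dirD_apply, Finset.sum_apply]
    rw [this]
    exact sum_mem fun a _ => Submodule.smul_mem _ _ (Submodule.subset_span (Or.inl ⟨a, rfl⟩))

section Core

variable (p : Fin (n + 1) → K) (g : Fin n → MvPolynomial (Fin (n + 1)) K) (c : Fin n → K)

/-- The combination of the equations without linear term. -/
noncomputable def comb : MvPolynomial (Fin (n + 1)) K := ∑ i, C (c i) * g i

theorem det_update_comb (i0 : Fin n) (D : Fin n → Derivation K (MvPolynomial (Fin (n + 1)) K)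
      (MvPolynomial (Fin (n + 1)) K)) :
    (Matrix.of fun i j => D j (Function.update g i0 (comb g c) i)).det =
      C (c i0) * (Matrix.of fun i j => D j (g i)).det := by
  have : (Matrix.of fun i j => D j (Function.update g i0 (comb g c) i)) =
      (Matrix.of fun i j => D j (g i)).updateRow i0
        (∑ k, (C (c k) : MvPolynomial (Fin (n + 1)) K) • (Matrix.of fun i j => D j (g i)) k) := by
    ext i j : 2
    by_cases hi : i = i0
    · subst hi
      have hC : ∀ r : K, D j (C r) = 0 := fun r => Derivation.map_algebraMap _ r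
      simp [Matrix.updateRow_self, comb, Derivation.leibniz, Finset.sum_apply, hC]
    · simp [Matrix.updateRow_ne hi, Function.update_of_ne hi]
  rw [this, Matrix.det_updateRow_sum]
  rfl

variable {p g c}

theorem dv_C_mul (a : K) {q : MvPolynomial (Fin (n + 1)) K} (hq : eval p q = 0) :
    dv p (C a * q) = a • dv p q := by
  rw [dv_mul, hq, zero_smul, add_zero, eval_C]

theorem comb_mem_sq (hg : ∀ i, eval p (g i) = 0) (hc : ∑ i, c i • dv p (g i) = 0) :
    comb g c ∈ RingHom.ker (eval p) ^ 2 := by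
  refine mem_sq_of_dv_eq_zero p (by simp [comb, hg]) ?_
  rw [comb, map_sum]
  exact (Finset.sum_congr rfl fun i _ => dv_C_mul (c i) (hg i)).trans hc

/-- The minor in the coordinate directions `γ`, modulo the square of the ideal of the point. -/
theorem minor_sub_mem (hg : ∀ i, eval p (g i) = 0) (hc : ∑ i, c i • dv p (g i) = 0) (i0 : Fin n)
    (γ : Fin n → Fin (n + 1)) :
    C (c i0) * (Matrix.of fun i j => pderiv (γ j) (g i)).det -
      ∑ j, C ((Matrix.of fun i j => dv p (Function.update g i0 (comb g c) i) (γ j)).adjugate j i0) *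
        pderiv (γ j) (comb g c) ∈ RingHom.ker (eval p) ^ 2 := by
  rw [← det_update_comb g c i0 fun j => pderiv (γ j)]
  have hrow : ∀ j, eval p (Matrix.of (fun i j => pderiv (γ j) (Function.update g i0 (comb g c) i)) i0 j) = 0 := by
    intro j
    have h := pderiv_mem_pow p (γ j) 1 (comb_mem_sq hg hc)
    rw [pow_one, RingHom.mem_ker] at h
    simpa using h
  convert det_sub_adjugate_mem p _ i0 hrow using 3
  rename_i j _
  congr 2
  · congr 1
    ext i j : 2
    simp [dv_apply]

/-- If the other differentials are dependent then all minors vanish to second order. -/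
theorem jacMinors_le_sq_of_dependent (hg : ∀ i, eval p (g i) = 0) (hc : ∑ i, c i • dv p (g i) = 0)
    {i0 : Fin n} (hi0 : c i0 ≠ 0)
    (hdep : ¬ LinearIndependent K fun b : {i // i ≠ i0} => dv p (g b)) :
    jacMinors g ≤ RingHom.ker (eval p) ^ 2 := by
  classical
  rw [jacMinors, Ideal.span_le]
  rintro _ ⟨γ, rfl⟩
  have h := minor_sub_mem hg hc i0 γ
  rw [Finset.sum_eq_zero fun j _ => ?_, sub_zero] at h
  · exact (Ideal.unit_mul_mem_iff_mem _ ((Ne.isUnit hi0).map C)).1 h
  · suffices h0 : (Matrix.of fun i j => dv p (Function.update g i0 (comb g c) i) (γ j)).adjugate j i0 = 0 by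
      rw [h0]; simp
    rw [Matrix.adjugate_apply]
    by_contra hne
    refine hdep ?_
    have hli := Matrix.linearIndependent_rows_of_isUnit ((Matrix.isUnit_iff_isUnit_det _).2 (Ne.isUnit hne))
    refine LinearIndependent.of_comp (LinearMap.funLeft K K γ) ?_
    have h2 := hli.comp (Subtype.val : {i // i ≠ i0} → Fin n) Subtype.val_injective
    set Mu := (Matrix.of fun i j => dv p (Function.update g i0 (comb g c) i) (γ j)).updateRow i0
      (Pi.single j 1) with hMu
    have e2 : (LinearMap.funLeft K K γ ∘ fun b : {i // i ≠ i0} => dv p (g b)) = Mu.row ∘ Subtype.val := by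
      ext b l
      simp [hMu, Matrix.row, Matrix.updateRow_ne b.2, Function.update_of_ne b.2, LinearMap.funLeft]
    rw [e2]
    exact h2

end Core

section Point

variable {A' : Type u} [CommRing A'] [IsLocalRing A'] [Algebra K A'] {p : Fin (n + 1) → K}
  {π' : MvPolynomial (Fin (n + 1)) K →ₐ[K] A'}
  (h : IsPointPresentation (RingHom.id A') π' π' p) {g : Fin n → MvPolynomial (Fin (n + 1)) K}
  (hg : ∀ i, π' (g i) = 0)
  (hker : ∀ q, π' q = 0 → ∃ s, eval p s ≠ 0 ∧ s * q ∈ Ideal.span (Set.range g))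

include h hg in
theorem eval_g (i : Fin n) : eval p (g i) = 0 := by
  rw [← h.mem_maximalIdeal'_iff, hg]
  exact zero_mem _

include h hg hker in
theorem relDiff_eq : h.relDiff = Submodule.span K (Set.range fun i => dv p (g i)) := by
  refine le_antisymm ?_ ?_
  · rw [IsPointPresentation.relDiff, Submodule.span_le]
    rintro _ ⟨q, hq, rfl⟩
    simp only [Algebra.algebraMap_self, MvPolynomial.map_id, RingHom.id_apply, SetLike.mem_coe]
    have hq0 : eval p q = 0 := by
      rw [← h.mem_maximalIdeal'_iff, show π' q = 0 from hq]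
      exact zero_mem _
    obtain ⟨s, hs, hsq⟩ := hker q hq
    obtain ⟨a, ha⟩ := Ideal.mem_span_range_iff_exists_fun.1 hsq
    have h1 := congrArg (dv p) ha
    rw [map_sum, dv_mul, hq0, zero_smul, add_zero] at h1
    refine (Submodule.smul_mem_iff _ hs).1 (h1 ▸ sum_mem fun i _ => ?_)
    rw [dv_mul, eval_g h hg i, zero_smul, add_zero]
    exact Submodule.smul_mem _ _ (Submodule.subset_span ⟨i, rfl⟩)
  · rw [Submodule.span_le]
    rintro _ ⟨i, rfl⟩
    exact Submodule.subset_span ⟨g i, hg i, by simp [Algebra.algebraMap_self, MvPolynomial.map_id]⟩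

variable {c : Fin n → K} {i0 : Fin n}

include h hg hker in
theorem relDiff_eq_others (hc : ∑ i, c i • dv p (g i) = 0) (hi0 : c i0 ≠ 0) :
    h.relDiff = Submodule.span K (Set.range fun b : {i // i ≠ i0} => dv p (g b)) := by
  classical
  rw [relDiff_eq h hg hker]
  refine le_antisymm (Submodule.span_le.2 ?_) (Submodule.span_mono ?_)
  · rintro _ ⟨i, rfl⟩
    by_cases hi : i = i0
    · subst hi
      rw [← Finset.add_sum_erase _ _ (Finset.mem_univ i), add_eq_zero_iff_eq_neg] at hc
      refine (Submodule.smul_mem_iff _ hi0).1 ?_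
      rw [hc]
      exact neg_mem (sum_mem fun k hk => Submodule.smul_mem _ _
        (Submodule.subset_span ⟨⟨k, Finset.ne_of_mem_erase hk⟩, rfl⟩))
    · exact Submodule.subset_span ⟨⟨i, hi⟩, rfl⟩
  · rintro _ ⟨b, rfl⟩
    exact ⟨b, rfl⟩

variable (bas : Module.Basis (Fin 2 ⊕ {i // i ≠ i0}) K (Fin (n + 1) → K))

/-- The linear polynomial with a given differential. -/
noncomputable def lf (p : Fin (n + 1) → K)
    (bas : Module.Basis (Fin 2 ⊕ {i // i ≠ i0}) K (Fin (n + 1) → K))
    (β : Fin 2 ⊕ {i // i ≠ i0}) : MvPolynomial (Fin (n + 1)) K :=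
  ∑ j, C (bas β j) * (X j - C (p j))

/-- The dual directions. -/
noncomputable def dual (bas : Module.Basis (Fin 2 ⊕ {i // i ≠ i0}) K (Fin (n + 1) → K))
    (β : Fin 2 ⊕ {i // i ≠ i0}) : Fin (n + 1) → K :=
  fun j => bas.coord β (fun i => if j = i then 1 else 0)

theorem eval_lf (β) : eval p (lf p bas β) = 0 := by simp [lf]

theorem dv_lf (β) : dv p (lf p bas β) = bas β := by
  rw [lf, map_sum]
  conv_rhs => rw [pi_eq_sum_univ (bas β)]
  refine Finset.sum_congr rfl fun j _ => ?_
  rw [dv_C_mul _ (by simp), dv_X_sub_C]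
  congr 1
  ext i
  simp [Pi.single_apply, eq_comm]

theorem eval_dirD_dual (β) (q : MvPolynomial (Fin (n + 1)) K) :
    eval p (IsPointPresentation.dirD (dual bas β) q) = bas.coord β (dv p q) := by
  rw [IsPointPresentation.eval_dirD]
  conv_rhs => rw [pi_eq_sum_univ (dv p q)]
  simp [dual, map_sum, mul_comm]

theorem coord_bas (β γ) [DecidableEq (Fin 2 ⊕ {i // i ≠ i0})] :
    bas.coord β (bas γ) = if γ = β then 1 else 0 := by simp [Finsupp.single_apply]

theorem dirD_lf (β γ) [DecidableEq (Fin 2 ⊕ {i // i ≠ i0})] :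
    IsPointPresentation.dirD (dual bas β) (lf p bas γ) = C (if γ = β then 1 else 0 : K) := by
  rw [← coord_bas bas β γ, lf, map_sum]
  conv_rhs => rw [pi_eq_sum_univ (bas γ), map_sum, map_sum]
  refine Finset.sum_congr rfl fun j _ => ?_
  rw [Derivation.leibniz, show IsPointPresentation.dirD (dual bas β) (C (bas γ j)) = 0 from
    Derivation.map_algebraMap _ _, smul_zero, add_zero, IsPointPresentation.dirD_apply,
    Finset.sum_eq_single j]
  · simp [dual, smul_eq_mul, map_smul]
  · intro b _ hb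
    simp [Ne.symm hb]
  · simp

theorem sub_sum_lf_mem {q : MvPolynomial (Fin (n + 1)) K} (hq : eval p q = 0) :
    q - ∑ β, C (bas.coord β (dv p q)) * lf p bas β ∈ RingHom.ker (eval p) ^ 2 := by
  refine mem_sq_of_dv_eq_zero p (by simp [hq, eval_lf]) ?_
  rw [map_sub, map_sum, sub_eq_zero]
  conv_lhs => rw [← bas.sum_repr (dv p q)]
  exact Finset.sum_congr rfl fun β _ => by rw [dv_C_mul _ (eval_lf bas β), dv_lf]; rfl

variable (hbas : ∀ b : {i // i ≠ i0}, bas (Sum.inr b) = dv p (g b))

include h hg hker hbas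

theorem pi_lf_inr_mem_sq (hc : ∑ i, c i • dv p (g i) = 0) (hi0 : c i0 ≠ 0) (b : {i // i ≠ i0}) :
    π' (lf p bas (Sum.inr b)) ∈ maximalIdeal A' ^ 2 := by
  rw [h.mem_sq_iff (eval_lf bas _), relDiff_eq_others h hg hker hc hi0, dv_lf, hbas]
  exact Submodule.subset_span ⟨b, rfl⟩

theorem independent_lf (hc : ∑ i, c i • dv p (g i) = 0) (hi0 : c i0 ≠ 0) (α β : K)
    (hmem : algebraMap K A' α * π' (lf p bas (Sum.inl 0)) + algebraMap K A' β * π' (lf p bas (Sum.inl 1))
      ∈ maximalIdeal A' ^ 2) : α = 0 ∧ β = 0 := by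
  classical
  have h1 : π' (C α * lf p bas (Sum.inl 0) + C β * lf p bas (Sum.inl 1)) ∈ maximalIdeal A' ^ 2 := by
    simpa [← MvPolynomial.algebraMap_eq] using hmem
  rw [h.mem_sq_iff (by simp [eval_lf]), map_add, dv_C_mul _ (eval_lf bas _), dv_C_mul _ (eval_lf bas _),
    dv_lf, dv_lf, relDiff_eq_others h hg hker hc hi0] at h1
  have h2 : ∀ e : Fin 2, bas.coord (Sum.inl e) (α • bas (Sum.inl 0) + β • bas (Sum.inl 1)) = 0 := by
    intro e
    revert h1
    generalize α • bas (Sum.inl 0) + β • bas (Sum.inl 1) = v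
    intro h1
    induction h1 using Submodule.span_induction with
    | mem y hy => obtain ⟨b, rfl⟩ := hy; dsimp only; rw [← hbas, coord_bas]; simp
    | zero => simp
    | add x y _ _ hx hy => rw [map_add, hx, hy, add_zero]
    | smul r x _ hx => rw [map_smul, hx, smul_zero]
  constructor
  · simpa [coord_bas] using h2 0
  · simpa [coord_bas] using h2 1

theorem maximalIdeal_le (hc : ∑ i, c i • dv p (g i) = 0) (hi0 : c i0 ≠ 0) :
    maximalIdeal A' ≤ Ideal.span {π' (lf p bas (Sum.inl 0)), π' (lf p bas (Sum.inl 1))} ⊔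
      maximalIdeal A' ^ 2 := by
  classical
  conv_lhs => rw [h.maximalIdeal'_eq]
  rw [Ideal.map_le_iff_le_comap]
  intro q hq
  rw [Ideal.mem_comap]
  have h1 := Ideal.mem_map_of_mem π' (sub_sum_lf_mem bas (p := p) hq)
  rw [Ideal.map_pow, ← h.maximalIdeal'_eq, map_sub, map_sum] at h1
  rw [← sub_add_cancel (π' q) (∑ β, π' (C (bas.coord β (dv p q)) * lf p bas β))]
  refine add_mem (Ideal.mem_sup_right h1) (sum_mem fun β _ => ?_)
  rw [map_mul]
  refine Ideal.mul_mem_left _ _ ?_
  rcases β with e | b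
  · refine Ideal.mem_sup_left (Ideal.subset_span ?_)
    fin_cases e <;> simp
  · exact Ideal.mem_sup_right (pi_lf_inr_mem_sq h hg hker bas hbas hc hi0 b)

theorem jacMinors_map_le (hc : ∑ i, c i • dv p (g i) = 0) (hi0 : c i0 ≠ 0) :
    (jacMinors g).map π' ≤
      Ideal.span (Set.range fun e : Fin 2 =>
        π' (IsPointPresentation.dirD (dual bas (Sum.inl e)) (comb g c))) ⊔ maximalIdeal A' ^ 2 := by
  classical
  rw [jacMinors, Ideal.map_span, Ideal.span_le]
  rintro _ ⟨_, ⟨γ, rfl⟩, rfl⟩
  have h1 := Ideal.mem_map_of_mem π' (minor_sub_mem (fun i => eval_g h hg i) hc i0 γ)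
  rw [Ideal.map_pow, ← h.maximalIdeal'_eq, map_sub, map_mul] at h1
  set N : Matrix (Fin n) (Fin n) K :=
    Matrix.of fun i j => dv p (Function.update g i0 (comb g c) i) (γ j)
  refine SetLike.mem_coe.2 ((Ideal.unit_mul_mem_iff_mem _ (((Ne.isUnit hi0).map C).map π')).1 ?_)
  rw [← sub_add_cancel (π' (C (c i0)) * π' (Matrix.of fun i j => pderiv (γ j) (g i)).det)
    (π' (∑ j, C (N.adjugate j i0) * pderiv (γ j) (comb g c)))]
  refine add_mem (Ideal.mem_sup_right h1) (Ideal.mem_sup_left ?_)
  have hexp : ∀ a, pderiv a (comb g c) =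
      ∑ β, C (bas β a) * IsPointPresentation.dirD (dual bas β) (comb g c) := by
    intro a
    have hl : ∀ l, ∑ β, bas β a * dual bas β l = if l = a then 1 else 0 := by
      intro l
      have h2 := congrFun (bas.sum_repr fun i => if l = i then (1 : K) else 0) a
      simp only [Finset.sum_apply, Pi.smul_apply, smul_eq_mul] at h2
      rw [← h2]
      exact Finset.sum_congr rfl fun β _ => by rw [mul_comm]; rfl
    simp only [IsPointPresentation.dirD_apply, Finset.mul_sum, ← mul_assoc, ← map_mul]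
    rw [Finset.sum_comm]
    simp only [← Finset.sum_mul, ← map_sum, hl]
    simp [apply_ite C, Finset.sum_ite_eq']
  simp only [hexp, Finset.mul_sum, ← mul_assoc, ← map_mul]
  rw [Finset.sum_comm, map_sum]
  refine sum_mem fun β _ => ?_
  rw [← Finset.sum_mul, ← map_sum, map_mul]
  rcases β with e | b
  · exact Ideal.mul_mem_left _ _ (Ideal.subset_span ⟨e, rfl⟩)
  · suffices h0 : ∑ j, N.adjugate j i0 * bas (Sum.inr b) (γ j) = 0 by
      rw [h0]; simp
    have h2 := congrFun (congrFun N.mul_adjugate b) i0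
    rw [Matrix.mul_apply, Matrix.smul_apply, Matrix.one_apply_ne b.2, smul_zero] at h2
    rw [← h2]
    refine Finset.sum_congr rfl fun j _ => ?_
    rw [hbas, mul_comm]
    simp [N, Function.update_of_ne b.2]

theorem dirD_comb_mem (hc : ∑ i, c i • dv p (g i) = 0) (e : Fin 2) :
    π' (IsPointPresentation.dirD (dual bas (Sum.inl e)) (comb g c)) ∈
      (jacMinors g).map π' ⊔ maximalIdeal A' ^ 2 := by
  classical
  let W : Fin n → Fin (n + 1) → K := fun j =>
    if hj : j = i0 then dual bas (Sum.inl e) else dual bas (Sum.inr ⟨j, hj⟩)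
  have hrow : ∀ j, eval p (Matrix.of (fun i j => IsPointPresentation.dirD (W j)
      (Function.update g i0 (comb g c) i)) i0 j) = 0 := by
    intro j
    have h1 := IsPointPresentation.dirD_mem_pow (W j) (n := 1) (comb_mem_sq (fun i => eval_g h hg i) hc)
    rw [pow_one, RingHom.mem_ker] at h1
    simpa using h1
  have h1 := det_sub_adjugate_mem p _ i0 hrow
  rw [det_update_comb g c i0 fun j => IsPointPresentation.dirD (W j)] at h1
  have hadj : ∀ j, ((Matrix.of fun i j => IsPointPresentation.dirD (W j)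
      (Function.update g i0 (comb g c) i)).map (eval p)).adjugate j i0 = if j = i0 then 1 else 0 := by
    intro j
    set N := (Matrix.of fun i j => IsPointPresentation.dirD (W j)
      (Function.update g i0 (comb g c) i)).map (eval p) with hN
    have hNb : ∀ i, i ≠ i0 → N i = Pi.single i 1 := by
      intro i hi
      ext l
      rw [hN, Matrix.map_apply, Matrix.of_apply, Function.update_of_ne hi]
      by_cases hl : l = i0
      · subst hl
        simp only [W, dif_pos, eval_dirD_dual]
        rw [← hbas ⟨i, hi⟩, coord_bas]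
        simp [Ne.symm hi]
      · simp only [W, dif_neg hl, eval_dirD_dual]
        rw [← hbas ⟨i, hi⟩, coord_bas]
        simp [Pi.single_apply, eq_comm]
    rw [Matrix.adjugate_apply]
    split_ifs with hj
    · subst hj
      suffices N.updateRow j (Pi.single j 1) = 1 by rw [this, Matrix.det_one]
      ext i l
      by_cases hi : i = j
      · subst hi; simp [Matrix.one_apply, Pi.single_apply, eq_comm]
      · simp [Matrix.updateRow_ne hi, hNb i hi, Matrix.one_apply, Pi.single_apply, eq_comm]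
    · exact Matrix.det_zero_of_row_eq (Ne.symm hj)
        (by rw [Matrix.updateRow_self, Matrix.updateRow_ne hj, hNb j hj])
  rw [Finset.sum_eq_single i0 (fun j _ hj => by rw [hadj, if_neg hj]; simp) (by simp), hadj,
    if_pos rfl, map_one, one_mul] at h1
  simp only [Matrix.of_apply, Function.update_self, W, dif_pos] at h1
  have h2 := Ideal.mem_map_of_mem π' h1
  rw [Ideal.map_pow, ← h.maximalIdeal'_eq, map_sub] at h2
  rw [← sub_sub_cancel (π' (C (c i0) * (Matrix.of fun i j => IsPointPresentation.dirD (W j) (g i)).det))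
    (π' (IsPointPresentation.dirD (dual bas (Sum.inl e)) (comb g c)))]
  refine sub_mem (Ideal.mem_sup_left ?_) (Ideal.mem_sup_right h2)
  rw [map_mul]
  exact Ideal.mul_mem_left _ _ (Ideal.mem_map_of_mem _ (det_dirD_mem_jacMinors g W))

omit h hg hker hbas in
/-- Second order expansion of a polynomial vanishing to second order. -/
theorem exists_quadratic {F : MvPolynomial (Fin (n + 1)) K} (hF : F ∈ RingHom.ker (eval p) ^ 2) :
    ∃ a b c : K, F - (C a * lf p bas (Sum.inl 0) ^ 2 +
        C b * lf p bas (Sum.inl 0) * lf p bas (Sum.inl 1) + C c * lf p bas (Sum.inl 1) ^ 2) ∈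
      Ideal.span (Set.range fun b => lf p bas (Sum.inr b)) * RingHom.ker (eval p) ⊔
        RingHom.ker (eval p) ^ 3 := by
  classical
  set P := RingHom.ker (eval p)
  set L := Ideal.span (Set.range fun b => lf p bas (Sum.inr b))
  rw [sq] at hF
  refine Submodule.mul_induction_on hF (fun q hq r hr => ?_) ?_
  · set l₀ := lf p bas (Sum.inl 0)
    set l₁ := lf p bas (Sum.inl 1)
    have key : ∀ q ∈ P, ∃ α β : K, q - (C α * l₀ + C β * l₁) ∈ L ⊔ P ^ 2 := fun q hq => by
      refine ⟨bas.coord (Sum.inl 0) (dv p q), bas.coord (Sum.inl 1) (dv p q), ?_⟩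
      have h1 := sub_sum_lf_mem bas (p := p) hq
      rw [Fintype.sum_sum_type, Fin.sum_univ_two] at h1
      rw [← sub_add_cancel (q - (C (bas.coord (Sum.inl 0) (dv p q)) * l₀ +
        C (bas.coord (Sum.inl 1) (dv p q)) * l₁))
        (∑ b, C (bas.coord (Sum.inr b) (dv p q)) * lf p bas (Sum.inr b))]
      refine add_mem (Ideal.mem_sup_right ?_) (Ideal.mem_sup_left (sum_mem fun b _ =>
        Ideal.mul_mem_left _ _ (Ideal.subset_span ⟨b, rfl⟩)))
      rwa [sub_sub]
    obtain ⟨α, β, hq'⟩ := key q hq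
    obtain ⟨α', β', hr'⟩ := key r hr
    refine ⟨α * α', α * β' + β * α', β * β', ?_⟩
    have hq2 : C α * l₀ + C β * l₁ ∈ P := by simp [P, RingHom.mem_ker, l₀, l₁, eval_lf]
    have e : (L ⊔ P ^ 2) * P = L * P ⊔ P ^ 3 := by rw [Ideal.sup_mul, ← pow_succ]
    rw [← e, show q * r - (C (α * α') * l₀ ^ 2 + C (α * β' + β * α') * l₀ * l₁ + C (β * β') * l₁ ^ 2) =
      (q - (C α * l₀ + C β * l₁)) * r + (r - (C α' * l₀ + C β' * l₁)) * (C α * l₀ + C β * l₁) by
        simp only [map_mul, map_add]; ring]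
    exact add_mem (Ideal.mul_mem_mul hq' hr) (Ideal.mul_mem_mul hr' hq2)
  · rintro x y ⟨a, b, c, hx⟩ ⟨a', b', c', hy⟩
    refine ⟨a + a', b + b', c + c', ?_⟩
    convert add_mem hx hy using 1
    simp only [map_add]
    ring

theorem dirD_error_mem (hc : ∑ i, c i • dv p (g i) = 0) (hi0 : c i0 ≠ 0) (e : Fin 2)
    {E : MvPolynomial (Fin (n + 1)) K}
    (hE : E ∈ Ideal.span (Set.range fun b => lf p bas (Sum.inr b)) * RingHom.ker (eval p) ⊔
      RingHom.ker (eval p) ^ 3) :
    π' E ∈ maximalIdeal A' ^ 3 ∧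
      π' (IsPointPresentation.dirD (dual bas (Sum.inl e)) E) ∈ maximalIdeal A' ^ 2 := by
  classical
  obtain ⟨u, hu, v, hv, rfl⟩ := Submodule.mem_sup.1 hE
  have hP : ∀ k, (RingHom.ker (eval p) ^ k).map π' = maximalIdeal A' ^ k := fun k => by
    rw [Ideal.map_pow, ← h.maximalIdeal'_eq]
  have hv' := Ideal.mem_map_of_mem π' hv
  have hv'' := Ideal.mem_map_of_mem π' (IsPointPresentation.dirD_mem_pow (dual bas (Sum.inl e)) hv)
  rw [hP] at hv' hv''
  suffices π' u ∈ maximalIdeal A' ^ 3 ∧
      π' (IsPointPresentation.dirD (dual bas (Sum.inl e)) u) ∈ maximalIdeal A' ^ 2 by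
    rw [map_add, map_add, map_add]
    exact ⟨add_mem this.1 hv', add_mem this.2 hv''⟩
  refine Submodule.mul_induction_on hu (fun a ha r hr => ?_) ?_
  · have hr' : π' r ∈ maximalIdeal A' := (h.mem_maximalIdeal'_iff r).2 hr
    induction ha using Submodule.span_induction with
    | mem a ha =>
      obtain ⟨b, rfl⟩ := ha
      have hb := pi_lf_inr_mem_sq h hg hker bas hbas hc hi0 b
      constructor
      · rw [map_mul, pow_succ]
        exact Ideal.mul_mem_mul hb hr'
      · rw [Derivation.leibniz, dirD_lf bas (p := p), if_neg (by simp), map_zero, smul_zero, add_zero,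
          smul_eq_mul, map_mul]
        exact Ideal.mul_mem_right _ _ hb
    | zero => simp
    | add a a' _ _ h1 h2 =>
      rw [add_mul, map_add, map_add, map_add]
      exact ⟨add_mem h1.1 h2.1, add_mem h1.2 h2.2⟩
    | smul s a ha h1 =>
      have ha' : π' a ∈ maximalIdeal A' := by
        rw [h.mem_maximalIdeal'_iff]
        refine (Ideal.span_le (I := RingHom.ker (eval p))).2 ?_ ha
        rintro _ ⟨b, rfl⟩
        exact eval_lf bas _
      rw [smul_eq_mul, mul_assoc]
      constructor
      · rw [map_mul]; exact Ideal.mul_mem_left _ _ h1.1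
      · rw [Derivation.leibniz, smul_eq_mul, smul_eq_mul, map_add, map_mul π', map_mul π']
        refine add_mem (Ideal.mul_mem_left _ _ h1.2) (Ideal.mul_mem_right _ _ ?_)
        rw [map_mul, sq]
        exact Ideal.mul_mem_mul ha' hr'
  · intro a b h1 h2
    rw [map_add, map_add, map_add]
    exact ⟨add_mem h1.1 h2.1, add_mem h1.2 h2.2⟩

omit h hg hker hbas in
theorem dirD_quadratic (a b c : K) :
    IsPointPresentation.dirD (dual bas (Sum.inl 0)) (C a * lf p bas (Sum.inl 0) ^ 2 +
        C b * lf p bas (Sum.inl 0) * lf p bas (Sum.inl 1) + C c * lf p bas (Sum.inl 1) ^ 2) =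
      C (2 * a) * lf p bas (Sum.inl 0) + C b * lf p bas (Sum.inl 1) ∧
    IsPointPresentation.dirD (dual bas (Sum.inl 1)) (C a * lf p bas (Sum.inl 0) ^ 2 +
        C b * lf p bas (Sum.inl 0) * lf p bas (Sum.inl 1) + C c * lf p bas (Sum.inl 1) ^ 2) =
      C b * lf p bas (Sum.inl 0) + C (2 * c) * lf p bas (Sum.inl 1) := by
  classical
  have hC : ∀ (w : Fin (n + 1) → K) (r : K), IsPointPresentation.dirD w (C r) = 0 := fun w r =>
    Derivation.map_algebraMap _ r
  constructor <;>
    simp only [map_add, Derivation.leibniz, Derivation.leibniz_pow, hC, dirD_lf, smul_eq_mul,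
      nsmul_eq_mul, map_mul, map_ofNat] <;>
    simp <;> ring

end Point

section Main

variable {A' : Type u} [CommRing A'] [IsLocalRing A'] [IsNoetherianRing A'] [Algebra K A']
  {p : Fin (n + 1) → K} {π' : MvPolynomial (Fin (n + 1)) K →ₐ[K] A'}
  (h : IsPointPresentation (RingHom.id A') π' π' p) {g : Fin n → MvPolynomial (Fin (n + 1)) K}
  (hg : ∀ i, π' (g i) = 0)
  (hker : ∀ q, π' q = 0 → ∃ s, eval p s ≠ 0 ∧ s * q ∈ Ideal.span (Set.range g))

include h hg hker

/-- The quadric criterion follows from the Jacobian condition. -/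
theorem criterion_of_jacMinors_eq (hM : (jacMinors g).map π' = maximalIdeal A') :
    IsQuadraticCriterion A' := by
  classical
  set m := maximalIdeal A'
  have hMp : jacMinors g ≤ RingHom.ker (eval p) := fun q hq =>
    (h.mem_maximalIdeal'_iff q).1 (hM.le (Ideal.mem_map_of_mem _ hq))
  obtain ⟨c, hc0, hc⟩ := exists_dependence p g hMp
  obtain ⟨i0, hi0⟩ := Function.ne_iff.1 hc0
  have hli : LinearIndependent K fun b : {i // i ≠ i0} => dv p (g b) := by
    by_contra hdep
    have h1 := Ideal.map_mono (f := π') (jacMinors_le_sq_of_dependent (fun i => eval_g h hg i) hc hi0 hdep)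
    rw [hM, Ideal.map_pow, ← h.maximalIdeal'_eq] at h1
    have h2 : m = ⊥ := Submodule.eq_bot_of_le_smul_of_le_jacobson_bot m _ (IsNoetherian.noetherian _)
      (h1.trans_eq (by rw [smul_eq_mul, sq])) (maximalIdeal_le_jacobson _)
    have h3 : h.relDiff = ⊤ := by
      rw [eq_top_iff]
      rintro v -
      rw [pi_eq_sum_univ v]
      refine sum_mem fun j _ => Submodule.smul_mem _ _ ?_
      have hj : π' (X j - C (p j)) ∈ m ^ 2 := by
        have h4 : π' (X j - C (p j)) ∈ m := (h.mem_maximalIdeal'_iff _).2 (by simp)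
        rw [h2] at h4 ⊢
        rw [(Submodule.mem_bot A').1 h4]
        exact zero_mem _
      rw [h.mem_sq_iff (by simp), dv_X_sub_C] at hj
      convert hj using 1
      ext i
      simp [Pi.single_apply, eq_comm]
    have h4 := finrank_range_le_card (R := K) (fun i => dv p (g i))
    rw [Set.finrank, ← relDiff_eq h hg hker, h3, finrank_top, Module.finrank_fintype_fun_eq_card] at h4
    simp at h4
  -- a basis extending the differentials
  obtain ⟨Cs, hCs⟩ := Submodule.exists_isCompl
    (Submodule.span K (Set.range fun b : {i // i ≠ i0} => dv p (g b)))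
  have hrk : Module.finrank K Cs = 2 := by
    have h1 := Submodule.finrank_add_eq_of_isCompl hCs
    rw [finrank_span_eq_card hli, Module.finrank_fintype_fun_eq_card, Fintype.card_fin,
      Fintype.card_subtype_compl, Fintype.card_subtype_eq, Fintype.card_fin] at h1
    have := i0.pos
    omega
  let bas : Module.Basis (Fin 2 ⊕ {i // i ≠ i0}) K (Fin (n + 1) → K) :=
    ((Module.finBasisOfFinrankEq K Cs hrk).prod (Module.Basis.span hli)).map
      (Submodule.prodEquivOfIsCompl _ _ hCs.symm)
  have hbas : ∀ b, bas (Sum.inr b) = dv p (g b) := fun b => by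
    simp [bas, Module.Basis.span_apply]
  set x := π' (lf p bas (Sum.inl 0))
  set y := π' (lf p bas (Sum.inl 1))
  have hxm : x ∈ m := (h.mem_maximalIdeal'_iff _).2 (eval_lf bas _)
  have hym : y ∈ m := (h.mem_maximalIdeal'_iff _).2 (eval_lf bas _)
  have hind := independent_lf h hg hker bas hbas hc hi0
  have hspan : Ideal.span {x, y} = m := le_antisymm
    (Ideal.span_le.2 (by rintro z (rfl | rfl) <;> assumption))
    (Submodule.le_of_le_smul_of_le_jacobson_bot (IsNoetherian.noetherian _) (maximalIdeal_le_jacobson ⊥)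
      ((maximalIdeal_le h hg hker bas hbas hc hi0).trans_eq (by rw [smul_eq_mul, sq])))
  obtain ⟨a, b, c', hq⟩ := exists_quadratic bas (comb_mem_sq (fun i => eval_g h hg i) hc)
  have hπC : ∀ r, π' (C r) = algebraMap K A' r := fun r => π'.commutes r
  have hF0 : π' (comb g c) = 0 := by simp [comb, hg]
  obtain ⟨h3, h20⟩ := dirD_error_mem h hg hker bas hbas hc hi0 0 hq
  obtain ⟨-, h21⟩ := dirD_error_mem h hg hker bas hbas hc hi0 1 hq
  obtain ⟨hd0, hd1⟩ := dirD_quadratic (p := p) bas a b c'
  rw [map_sub, hd0, map_sub] at h20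
  rw [map_sub, hd1, map_sub] at h21
  rw [map_sub, hF0, zero_sub, neg_mem_iff] at h3
  have hQ : algebraMap K A' a * x ^ 2 + algebraMap K A' b * x * y + algebraMap K A' c' * y ^ 2 ∈ m ^ 3 := by
    simpa [hπC] using h3
  set L0 := algebraMap K A' (2 * a) * x + algebraMap K A' b * y
  set L1 := algebraMap K A' b * x + algebraMap K A' (2 * c') * y
  have hgen : m ≤ Ideal.span {L0, L1} ⊔ m ^ 2 := by
    conv_lhs => rw [← hM]
    refine (jacMinors_map_le h hg hker bas hbas hc hi0).trans (sup_le ?_ le_sup_right)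
    rw [Ideal.span_le]
    rintro _ ⟨e, rfl⟩
    fin_cases e
    · have : L0 = π' (C (2 * a) * lf p bas (Sum.inl 0) + C b * lf p bas (Sum.inl 1)) := by
        simp [L0, x, y, hπC]
      have h5 := add_mem (Ideal.mem_sup_right (S := Ideal.span {L0, L1}) h20)
        (Ideal.mem_sup_left (T := m ^ 2) (Ideal.subset_span (Set.mem_insert L0 {L1})))
      rw [this, sub_add_cancel] at h5
      simpa [this] using h5
    · have : L1 = π' (C b * lf p bas (Sum.inl 0) + C (2 * c') * lf p bas (Sum.inl 1)) := by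
        simp [L1, x, y, hπC]
      have h5 := add_mem (Ideal.mem_sup_right (S := Ideal.span {L0, L1}) h21)
        (Ideal.mem_sup_left (T := m ^ 2) (Ideal.subset_span (Set.mem_insert_of_mem L0 rfl)))
      rw [this, sub_add_cancel] at h5
      simpa [this] using h5
  have hlin : ∀ z ∈ m, ∃ u w : K,
      z - (algebraMap K A' u * L0 + algebraMap K A' w * L1) ∈ m ^ 2 := by
    intro z hz
    obtain ⟨s, hs, t, ht, hst⟩ := Submodule.mem_sup.1 (hgen hz)
    obtain ⟨u', w', rfl⟩ := Ideal.mem_span_pair.1 hs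
    obtain ⟨u, hu⟩ := h.exists_sub_algebraMap_mem u'
    obtain ⟨w, hw⟩ := h.exists_sub_algebraMap_mem w'
    refine ⟨u, w, ?_⟩
    rw [← hst, show u' * L0 + w' * L1 + t - (algebraMap K A' u * L0 + algebraMap K A' w * L1) =
      (u' - algebraMap K A' u) * L0 + (w' - algebraMap K A' w) * L1 + t by ring]
    refine add_mem (add_mem ?_ ?_) ht <;> rw [sq] <;> refine Ideal.mul_mem_mul ?_ ?_
    exacts [hu, add_mem (m.mul_mem_left _ hxm) (m.mul_mem_left _ hym), hw,
      add_mem (m.mul_mem_left _ hxm) (m.mul_mem_left _ hym)]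
  obtain ⟨u, w, huw⟩ := hlin x hxm
  obtain ⟨u', w', huw'⟩ := hlin y hym
  obtain ⟨e1, e2⟩ := hind (1 - (u * (2 * a) + w * b)) (-(u * b + w * (2 * c'))) (by
    convert huw using 1
    simp only [L0, L1, map_sub, map_neg, map_add, map_mul, map_one]
    ring)
  obtain ⟨e3, e4⟩ := hind (-(u' * (2 * a) + w' * b)) (1 - (u' * b + w' * (2 * c'))) (by
    convert huw' using 1
    simp only [L0, L1, map_sub, map_neg, map_add, map_mul, map_one]
    ring)
  have hD : 4 * a * c' - b ^ 2 ≠ 0 := by
    intro hD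
    refine one_ne_zero (α := K) ?_
    linear_combination e1 + (u * (2 * a) + w * b) * e4 + (-(u' * (2 * a) + w' * b)) * e2 +
      (u * w' - u' * w) * hD
  refine ⟨fun z hz hle => ?_, x, y, algebraMap K A' a, algebraMap K A' b, algebraMap K A' c', hspan, ?_, hQ⟩
  · obtain ⟨r, hr⟩ := Ideal.mem_span_singleton'.1 (hle hxm)
    obtain ⟨r', hr'⟩ := Ideal.mem_span_singleton'.1 (hle hym)
    obtain ⟨α, hα⟩ := h.exists_sub_algebraMap_mem r
    obtain ⟨β, hβ⟩ := h.exists_sub_algebraMap_mem r'
    obtain ⟨h5, h6⟩ := hind β (-α) (by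
      have : algebraMap K A' β * x + algebraMap K A' (-α) * y =
          (r - algebraMap K A' α) * y - (r' - algebraMap K A' β) * x := by
        rw [map_neg]
        linear_combination r * hr' - r' * hr
      rw [this, sq]
      exact sub_mem (Ideal.mul_mem_mul hα hym) (Ideal.mul_mem_mul hβ hxm))
    rw [neg_eq_zero] at h6
    subst h6
    obtain ⟨h7, -⟩ := hind 1 0 (by
      rw [map_one, one_mul, map_zero, zero_mul, add_zero]
      show x ∈ m ^ 2
      rw [← hr, sq]
      exact Ideal.mul_mem_mul (by rwa [map_zero, sub_zero] at hα) hz)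
    exact one_ne_zero h7
  · intro h0
    refine hD ?_
    have h1 : residue A' (algebraMap K A' (4 * a * c' - b ^ 2)) = 0 := by
      rw [← h0]; simp [map_ofNat]
    exact ((residue A').comp (algebraMap K A')).injective (by rw [map_zero]; exact h1)

/-- The Jacobian condition follows from the quadric criterion. -/
theorem jacMinors_eq_of_criterion (hA : IsQuadraticCriterion A') :
    (jacMinors g).map π' = maximalIdeal A' := by
  classical
  obtain ⟨hnp, x, y, a', b', c', hxy, hD, hQ⟩ := hA
  set m := maximalIdeal A'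
  have hxm : x ∈ m := hxy ▸ Ideal.subset_span (Set.mem_insert _ _)
  have hym : y ∈ m := hxy ▸ Ideal.subset_span (Set.mem_insert_of_mem _ rfl)
  obtain ⟨a, ha⟩ := h.exists_sub_algebraMap_mem a'
  obtain ⟨b, hb⟩ := h.exists_sub_algebraMap_mem b'
  obtain ⟨cc, hcc⟩ := h.exists_sub_algebraMap_mem c'
  have hD0 : 4 * a * cc - b ^ 2 ≠ 0 := by
    intro h0
    apply hD
    rw [← residue_eq_zero_iff, map_sub, sub_eq_zero] at ha hb hcc
    have h1 := congrArg ((residue A').comp (algebraMap K A')) h0
    simp only [map_sub, map_mul, map_pow, map_ofNat, map_zero, RingHom.comp_apply, ← ha, ← hb,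
      ← hcc] at h1 ⊢
    exact h1
  obtain ⟨l₁, hl₁, hl₁x⟩ := h.exists_pi_sub_mem_sq hxm
  obtain ⟨l₂, hl₂, hl₂y⟩ := h.exists_pi_sub_mem_sq hym
  have hπC : ∀ r, π' (C r) = algebraMap K A' r := fun r => π'.commutes r
  -- the two differentials and the relations span
  have htop : ⊤ ≤ Submodule.span K {dv p l₁, dv p l₂} ⊔ h.relDiff := by
    rintro v -
    rw [pi_eq_sum_univ v]
    refine sum_mem fun j _ => Submodule.smul_mem _ _ ?_
    have hXe : eval p (X j - C (p j) : MvPolynomial (Fin (n + 1)) K) = 0 := by simp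
    have hXm := (h.mem_maximalIdeal'_iff _).mpr hXe
    rw [show maximalIdeal A' = Ideal.span {x, y} from hxy.symm] at hXm
    obtain ⟨r, r', hrr⟩ := Ideal.mem_span_pair.mp hXm
    obtain ⟨α, hα⟩ := h.exists_sub_algebraMap_mem r
    obtain ⟨β, hβ⟩ := h.exists_sub_algebraMap_mem r'
    have hmem : π' (X j - C (p j) - (C α * l₁ + C β * l₂)) ∈ m ^ 2 := by
      have h1 : π' (X j - C (p j) - (C α * l₁ + C β * l₂)) =
          (r - algebraMap K A' α) * x + (r' - algebraMap K A' β) * y -
            (algebraMap K A' α * (π' l₁ - x) + algebraMap K A' β * (π' l₂ - y)) := by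
        rw [map_sub π', ← hrr]
        simp only [map_add, map_mul, hπC]
        ring
      rw [h1, sq]
      refine sub_mem (add_mem (Ideal.mul_mem_mul hα hxm) (Ideal.mul_mem_mul hβ hym)) ?_
      rw [← sq]
      exact add_mem (Ideal.mul_mem_left _ _ hl₁x) (Ideal.mul_mem_left _ _ hl₂y)
    rw [h.mem_sq_iff (by simp [hl₁, hl₂]), map_sub (dv p), map_add (dv p), dv_C_mul _ hl₁, dv_C_mul _ hl₂,
      dv_X_sub_C] at hmem
    have h2 : Pi.single j 1 ∈ Submodule.span K {dv p l₁, dv p l₂} ⊔ h.relDiff := by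
      rw [← sub_add_cancel (Pi.single j 1) (α • dv p l₁ + β • dv p l₂)]
      exact add_mem (Submodule.mem_sup_right hmem) (Submodule.mem_sup_left
        (add_mem (Submodule.smul_mem _ _ (Submodule.subset_span (Set.mem_insert _ _)))
          (Submodule.smul_mem _ _ (Submodule.subset_span (Set.mem_insert_of_mem _ rfl)))))
    convert h2 using 1
    ext i
    simp [Pi.single_apply, eq_comm]
  have hMp : jacMinors g ≤ RingHom.ker (eval p) := by
    rw [jacMinors, Ideal.span_le]
    rintro _ ⟨γ, rfl⟩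
    rw [SetLike.mem_coe, RingHom.mem_ker]
    by_contra hne
    have hu : IsUnit (π' (Matrix.of fun i j => pderiv (γ j) (g i)).det) := (h.isUnit_iff _).2 hne
    rw [RingHom.map_det] at hne
    have hli : LinearIndependent K fun i => dv p (g i) := by
      have h1 := Matrix.linearIndependent_rows_of_isUnit ((Matrix.isUnit_iff_isUnit_det _).2 (Ne.isUnit hne))
      refine LinearIndependent.of_comp (LinearMap.funLeft K K γ) ?_
      have e2 : (LinearMap.funLeft K K γ ∘ fun i => dv p (g i)) =
          ((eval p).mapMatrix (Matrix.of fun i j => pderiv (γ j) (g i))).row := by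
        ext i j
        simp [dv_apply, LinearMap.funLeft, Matrix.row]
      rw [e2]
      exact h1
    -- then the maximal ideal is principal
    have hR : Module.finrank K h.relDiff = n := by
      rw [relDiff_eq h hg hker, finrank_span_eq_card hli, Fintype.card_fin]
    obtain ⟨v₀, hv₀⟩ : ∃ v₀, Submodule.span K {v₀} ⊔ h.relDiff = ⊤ := by
      obtain ⟨C₀, hC₀⟩ := Submodule.exists_isCompl h.relDiff
      have h1 := Submodule.finrank_add_eq_of_isCompl hC₀
      rw [hR, Module.finrank_fintype_fun_eq_card, Fintype.card_fin] at h1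
      obtain ⟨v₀, hv₀⟩ := finrank_eq_one_iff'.1 (show Module.finrank K C₀ = 1 by omega)
      refine ⟨v₀, top_le_iff.1 (hC₀.symm.sup_eq_top.ge.trans (sup_le_sup_right ?_ _))⟩
      intro z hz
      obtain ⟨r, hr⟩ := hv₀.2 ⟨z, hz⟩
      exact Submodule.mem_span_singleton.2 ⟨r, congrArg Subtype.val hr⟩
    let l₀ : MvPolynomial (Fin (n + 1)) K := ∑ j, C (v₀ j) * (X j - C (p j))
    have hl₀ : eval p l₀ = 0 := by simp [l₀]
    have hdl₀ : dv p l₀ = v₀ := by
      rw [map_sum]
      conv_rhs => rw [pi_eq_sum_univ v₀]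
      refine Finset.sum_congr rfl fun j _ => ?_
      rw [dv_C_mul _ (by simp), dv_X_sub_C]
      congr 1
      ext i
      simp [Pi.single_apply, eq_comm]
    refine hnp (π' l₀) ((h.mem_maximalIdeal'_iff _).2 hl₀) ?_
    refine Submodule.le_of_le_smul_of_le_jacobson_bot (IsNoetherian.noetherian _)
      (maximalIdeal_le_jacobson ⊥) ?_
    rw [smul_eq_mul, ← sq]
    conv_lhs => rw [show m = _ from h.maximalIdeal'_eq]
    rw [Ideal.map_le_iff_le_comap]
    intro q hq
    obtain ⟨s, hs, t, ht, hst⟩ := Submodule.mem_sup.1 (hv₀.ge (Submodule.mem_top (x := dv p q)))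
    obtain ⟨r, rfl⟩ := Submodule.mem_span_singleton.1 hs
    have h1 : π' (q - C r * l₀) ∈ m ^ 2 := by
      rw [h.mem_sq_iff (by simp [hl₀, show eval p q = 0 from hq]), map_sub, dv_C_mul _ hl₀, hdl₀, ← hst,
        add_sub_cancel_left]
      exact ht
    rw [Ideal.mem_comap, ← sub_add_cancel (π' q) (π' (C r * l₀)), ← map_sub]
    refine add_mem (Ideal.mem_sup_right h1) (Ideal.mem_sup_left ?_)
    rw [map_mul]
    exact Ideal.mul_mem_left _ _ (Ideal.mem_span_singleton_self _)
  obtain ⟨c, hc0, hc⟩ := exists_dependence p g hMp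
  obtain ⟨i0, hi0⟩ := Function.ne_iff.1 hc0
  let v : Fin 2 ⊕ {i // i ≠ i0} → Fin (n + 1) → K := Sum.elim ![dv p l₁, dv p l₂] fun b => dv p (g b)
  have hvtop : ⊤ ≤ Submodule.span K (Set.range v) := by
    rw [relDiff_eq_others h hg hker hc hi0, ← Submodule.span_union] at htop
    refine htop.trans (Submodule.span_mono ?_)
    rintro z ((rfl | rfl) | ⟨b, rfl⟩)
    exacts [⟨Sum.inl 0, rfl⟩, ⟨Sum.inl 1, rfl⟩, ⟨Sum.inr b, rfl⟩]
  let bas : Module.Basis (Fin 2 ⊕ {i // i ≠ i0}) K (Fin (n + 1) → K) :=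
    basisOfTopLeSpanOfCardEqFinrank v hvtop (by
      rw [Fintype.card_sum, Fintype.card_fin, Fintype.card_subtype_compl, Fintype.card_subtype_eq,
        Fintype.card_fin, Module.finrank_fintype_fun_eq_card, Fintype.card_fin]
      have := i0.pos
      omega)
  have hb' : ∀ β, bas β = v β := fun β => by simp [bas]
  have hbas : ∀ b, bas (Sum.inr b) = dv p (g b) := fun b => hb' _
  set X₀ := π' (lf p bas (Sum.inl 0))
  set X₁ := π' (lf p bas (Sum.inl 1))
  have hX₀ : X₀ - x ∈ m ^ 2 := by
    have h1 : π' (lf p bas (Sum.inl 0) - l₁) ∈ m ^ 2 := by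
      rw [h.mem_sq_iff (by simp [eval_lf, hl₁]), map_sub, dv_lf, hb']
      simp [v]
    rw [map_sub] at h1
    rw [show X₀ - x = (π' (lf p bas (Sum.inl 0)) - π' l₁) + (π' l₁ - x) by ring]
    exact add_mem h1 hl₁x
  have hX₁ : X₁ - y ∈ m ^ 2 := by
    have h1 : π' (lf p bas (Sum.inl 1) - l₂) ∈ m ^ 2 := by
      rw [h.mem_sq_iff (by simp [eval_lf, hl₂]), map_sub, dv_lf, hb']
      simp [v]
    rw [map_sub] at h1
    rw [show X₁ - y = (π' (lf p bas (Sum.inl 1)) - π' l₂) + (π' l₂ - y) by ring]
    exact add_mem h1 hl₂y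
  have hX₀m : X₀ ∈ m := (h.mem_maximalIdeal'_iff _).2 (eval_lf bas _)
  have hX₁m : X₁ ∈ m := (h.mem_maximalIdeal'_iff _).2 (eval_lf bas _)
  set Q := C a * lf p bas (Sum.inl 0) ^ 2 + C b * lf p bas (Sum.inl 0) * lf p bas (Sum.inl 1) +
    C cc * lf p bas (Sum.inl 1) ^ 2
  have hQ3 : π' Q ∈ m ^ 3 := by
    have h1 := quadVal_sub_mem hX₀m hX₁m hxm hym (by simpa using neg_mem hX₀)
      (by simpa using neg_mem hX₁) ha hb hcc
    have h2 := sub_mem hQ h1
    simpa [Q, X₀, X₁, hπC] using h2
  rw [show m = (RingHom.ker (eval p)).map π' from h.maximalIdeal'_eq, ← Ideal.map_pow] at hQ3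
  obtain ⟨bb, hh, hbb, hhh, hbh⟩ := h.exists_of_mem_map hQ3
  set F' := Q * bb - hh
  have hF'0 : π' F' = 0 := by rw [map_sub, map_mul, hbh, sub_self]
  obtain ⟨s, hs, hsF⟩ := hker F' hF'0
  have hQ2 : Q ∈ RingHom.ker (eval p) ^ 2 := by
    refine add_mem (add_mem ?_ ?_) ?_
    · exact Ideal.mul_mem_left _ _ (Ideal.pow_mem_pow (eval_lf bas _) 2)
    · rw [mul_assoc, sq]; exact Ideal.mul_mem_left _ _ (Ideal.mul_mem_mul (eval_lf bas _) (eval_lf bas _))
    · exact Ideal.mul_mem_left _ _ (Ideal.pow_mem_pow (eval_lf bas _) 2)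
  have hF'2 : F' ∈ RingHom.ker (eval p) ^ 2 :=
    sub_mem (Ideal.mul_mem_right _ _ hQ2) (Ideal.pow_le_pow_right (show 2 ≤ 3 by norm_num) hhh)
  obtain ⟨hh', hsum⟩ := Ideal.mem_span_range_iff_exists_fun.1 hsF
  -- rewrite the relation in terms of the combination and the other equations
  have hdec : ∃ (u : MvPolynomial (Fin (n + 1)) K) (w : {i // i ≠ i0} → MvPolynomial (Fin (n + 1)) K),
      s * F' = u * comb g c + ∑ j, w j * g j := by
    refine ⟨C (c i0)⁻¹ * hh' i0, fun j => hh' j - C (c i0)⁻¹ * hh' i0 * C (c j), ?_⟩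
    rw [← hsum, comb, Finset.mul_sum, ← Finset.add_sum_erase _ _ (Finset.mem_univ i0),
      ← Finset.add_sum_erase (Finset.univ : Finset (Fin n))
        (fun i => C (c i0)⁻¹ * hh' i0 * (C (c i) * g i)) (Finset.mem_univ i0)]
    rw [Finset.sum_subtype (Finset.univ.erase i0) (p := fun i => i ≠ i0) (by simp)
      (fun i => hh' i * g i), Finset.sum_subtype (Finset.univ.erase i0) (p := fun i => i ≠ i0) (by simp)
      (fun i => C (c i0)⁻¹ * hh' i0 * (C (c i) * g i)), add_assoc, ← Finset.sum_add_distrib,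
      show C (c i0)⁻¹ * hh' i0 * (C (c i0) * g i0) = hh' i0 * g i0 * C ((c i0)⁻¹ * c i0) by
        rw [map_mul]; ring, inv_mul_cancel₀ hi0, map_one, mul_one]
    congr 1
    exact Finset.sum_congr rfl fun j _ => by ring
  obtain ⟨u, w, huw⟩ := hdec
  have hev := fun i => eval_g h hg i
  have hw0 : ∀ j, π' (w j) ∈ m := by
    have h1 := congrArg (dv p) huw
    rw [dv_mul, show eval p F' = 0 from Ideal.pow_le_self two_ne_zero hF'2,
      dv_eq_zero_of_mem_sq p hF'2, zero_smul, smul_zero, add_zero, map_add, dv_mul,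
      dv_eq_zero_of_mem_sq p (comb_mem_sq hev hc), smul_zero,
      show eval p (comb g c) = 0 from Ideal.pow_le_self two_ne_zero (comb_mem_sq hev hc),
      zero_smul, add_zero, zero_add, map_sum] at h1
    intro j
    rw [h.mem_maximalIdeal'_iff]
    have h2 := congrArg (bas.coord (Sum.inr j)) h1
    simp only [map_zero, map_sum, dv_mul, hev, zero_smul, add_zero, map_smul, ← hbas, coord_bas,
      smul_eq_mul, Sum.inr.injEq, mul_ite, mul_one, mul_zero, Finset.sum_ite_eq', Finset.mem_univ,
      if_true] at h2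
    exact h2.symm
  have hF'mem : ∀ e : Fin 2, π' (IsPointPresentation.dirD (dual bas (Sum.inl e)) F') ∈
      (jacMinors g).map π' ⊔ m ^ 2 := by
    intro e
    set D := IsPointPresentation.dirD (dual bas (Sum.inl e))
    have h1 := congrArg (fun z => π' (D z)) huw
    simp only [Derivation.leibniz, map_add, map_sum, smul_eq_mul, map_mul, hg, hF'0, zero_mul,
      mul_zero, add_zero, show π' (comb g c) = 0 by simp [comb, hg]] at h1
    refine (Ideal.unit_mul_mem_iff_mem _ ((h.isUnit_iff s).2 hs)).1 ?_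
    rw [h1]
    refine add_mem (Ideal.mul_mem_left _ _ (dirD_comb_mem h hg hker bas hbas hc e))
      (sum_mem fun j _ => Ideal.mem_sup_right ?_)
    rw [sq]
    refine Ideal.mul_mem_mul (hw0 j) ((h.mem_maximalIdeal'_iff _).2 ?_)
    rw [eval_dirD_dual, ← hbas, coord_bas]
    simp
  have hlinmem : ∀ e : Fin 2, π' (IsPointPresentation.dirD (dual bas (Sum.inl e)) Q) ∈
      (jacMinors g).map π' ⊔ m ^ 2 := by
    intro e
    set D := IsPointPresentation.dirD (dual bas (Sum.inl e))
    refine (Ideal.unit_mul_mem_iff_mem _ ((h.isUnit_iff bb).2 hbb)).1 ?_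
    have h1 : D F' - bb * D Q ∈ RingHom.ker (eval p) ^ 2 := by
      have : D F' - bb * D Q = Q * D bb - D hh := by
        simp only [F', map_sub, Derivation.leibniz, smul_eq_mul]; ring
      rw [this]
      exact sub_mem (Ideal.mul_mem_right _ _ hQ2) (IsPointPresentation.dirD_mem_pow _ hhh)
    have h2 := Ideal.mem_map_of_mem π' h1
    rw [Ideal.map_pow, ← h.maximalIdeal'_eq, map_sub, map_mul] at h2
    rw [← sub_sub_cancel (π' (D F')) (π' bb * π' (D Q))]
    exact sub_mem (hF'mem e) (Ideal.mem_sup_right h2)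
  obtain ⟨hd0, hd1⟩ := dirD_quadratic (p := p) bas a b cc
  have hL0 := hlinmem 0
  have hL1 := hlinmem 1
  rw [hd0] at hL0
  rw [hd1] at hL1
  rw [map_add, map_mul π', map_mul π', hπC, hπC] at hL0 hL1
  have hu : IsUnit (algebraMap K A' (4 * a * cc - b ^ 2)) := (Ne.isUnit hD0).map _
  have hX₀M : X₀ ∈ (jacMinors g).map π' ⊔ m ^ 2 := by
    refine (Ideal.unit_mul_mem_iff_mem _ hu).1 ?_
    rw [show algebraMap K A' (4 * a * cc - b ^ 2) * X₀ =
        algebraMap K A' (2 * cc) * (algebraMap K A' (2 * a) * X₀ + algebraMap K A' b * X₁) -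
          algebraMap K A' b * (algebraMap K A' b * X₀ + algebraMap K A' (2 * cc) * X₁) by
      simp only [map_sub, map_mul, map_pow, map_ofNat]; ring]
    exact sub_mem (Ideal.mul_mem_left _ _ hL0) (Ideal.mul_mem_left _ _ hL1)
  have hX₁M : X₁ ∈ (jacMinors g).map π' ⊔ m ^ 2 := by
    refine (Ideal.unit_mul_mem_iff_mem _ hu).1 ?_
    rw [show algebraMap K A' (4 * a * cc - b ^ 2) * X₁ =
        algebraMap K A' (2 * a) * (algebraMap K A' b * X₀ + algebraMap K A' (2 * cc) * X₁) -
          algebraMap K A' b * (algebraMap K A' (2 * a) * X₀ + algebraMap K A' b * X₁) by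
      simp only [map_sub, map_mul, map_pow, map_ofNat]; ring]
    exact sub_mem (Ideal.mul_mem_left _ _ hL1) (Ideal.mul_mem_left _ _ hL0)
  refine le_antisymm ?_ (Submodule.le_of_le_smul_of_le_jacobson_bot (IsNoetherian.noetherian _)
    (maximalIdeal_le_jacobson ⊥) ?_)
  · rw [show m = _ from h.maximalIdeal'_eq]
    exact Ideal.map_mono hMp
  · rw [smul_eq_mul, ← sq]
    refine (maximalIdeal_le h hg hker bas hbas hc hi0).trans (sup_le ?_ le_sup_right)
    rw [Ideal.span_le]
    rintro z (rfl | rfl)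
    exacts [hX₀M, hX₁M]

/-- A complete intersection curve point satisfying the criterion has a nonzerodivisor in its
maximal ideal. -/
theorem exists_nonZeroDivisor_of_ci (hA : IsQuadraticCriterion A') :
    ∃ t ∈ maximalIdeal A', t ∈ nonZeroDivisors A' := by
  classical
  obtain ⟨t, ht, hsq⟩ := exists_sq_le_span_mul hA
  let P : Ideal (MvPolynomial (Fin (n + 1)) K) := RingHom.ker (eval p)
  have hPmax : P.IsMaximal := RingHom.ker_isMaximal_of_surjective _ fun r => ⟨C r, eval_C r⟩
  let O := Localization.AtPrime P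
  have : IsRegularRing (MvPolynomial (Fin (n + 1)) K) := MvPolynomial.isRegularRing_of_isRegularRing K
  have hOdim : ringKrullDim O = ((n + 1 : ℕ) : WithBot ℕ∞) := by
    rw [IsLocalization.AtPrime.ringKrullDim_eq_height P O,
      Groth.Variety2.Dim.height_isMaximal_mvPolynomial K (n + 1) P hPmax]
    rfl
  let ψ : O →+* A' := IsLocalization.lift (M := P.primeCompl) (g := π'.toRingHom)
    fun y => (h.isUnit_iff y.1).2 y.2
  have hψ : ∀ q, ψ (algebraMap _ O q) = π' q := fun q => IsLocalization.lift_eq _ q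
  have hψsurj : Function.Surjective ψ := by
    intro z
    obtain ⟨b, c, hb, hbc⟩ := h.frac' z
    have hbP : b ∈ P.primeCompl := (h.isUnit_iff b).1 hb
    refine ⟨IsLocalization.mk' O c (⟨b, hbP⟩ : P.primeCompl), ?_⟩
    rw [IsLocalization.lift_mk'_spec]
    show π' c = π' b * z
    rw [← hbc, mul_comm]
  set Lg : List O := List.ofFn fun i => algebraMap _ O (g i)
  have hkerψ : RingHom.ker ψ = Ideal.ofList Lg := by
    refine le_antisymm (fun z hz => ?_) (Ideal.span_le.2 ?_)
    · obtain ⟨q, s, rfl⟩ := IsLocalization.exists_mk'_eq P.primeCompl z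
      have hq : π' q = 0 := by
        rw [← hψ, ← IsLocalization.mk'_spec O q s, map_mul, RingHom.mem_ker.1 hz, zero_mul]
      obtain ⟨s', hs', hmem⟩ := hker q hq
      rw [IsLocalization.mk'_mem_iff]
      have h1 := Ideal.mem_map_of_mem (algebraMap _ O) hmem
      rw [map_mul, Ideal.map_span, ← Set.range_comp] at h1
      refine (Ideal.unit_mul_mem_iff_mem _ (IsLocalization.map_units O (⟨s', hs'⟩ : P.primeCompl))).1 ?_
      refine Ideal.span_mono ?_ h1
      rintro _ ⟨i, rfl⟩
      exact List.mem_ofFn.2 ⟨i, rfl⟩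
    · intro z hz
      obtain ⟨i, rfl⟩ := List.mem_ofFn.1 (show z ∈ Lg from hz)
      exact (hψ _).trans (hg i)
  obtain ⟨t₀, rfl⟩ := hψsurj t
  refine ⟨ψ t₀, ht, ?_⟩
  have hloc : IsLocalHom ψ := Function.Surjective.isLocalHom ψ hψsurj
  have hmem : ∀ z ∈ Lg ++ [t₀], z ∈ maximalIdeal O := by
    intro z hz
    rcases List.mem_append.1 hz with hz | hz
    · refine le_maximalIdeal (RingHom.ker_ne_top ψ) ?_
      rw [hkerψ]
      exact Ideal.subset_span hz
    · rw [List.mem_singleton] at hz
      subst hz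
      rw [mem_maximalIdeal, mem_nonunits_iff]
      exact fun hu => (mem_maximalIdeal _).1 ht (hu.map ψ)
  have hI : Ideal.ofList (Lg ++ [t₀]) ≠ ⊤ := fun htop => (maximalIdeal.isMaximal O).ne_top
    (top_le_iff.1 (htop.ge.trans (Ideal.span_le.2 hmem)))
  have hdim0 : ringKrullDim (O ⧸ Ideal.ofList (Lg ++ [t₀])) ≤ 0 := by
    have : Nontrivial (O ⧸ Ideal.ofList (Lg ++ [t₀])) := Ideal.Quotient.nontrivial_iff.2 hI
    have : IsLocalRing (O ⧸ Ideal.ofList (Lg ++ [t₀])) :=
      IsLocalRing.of_surjective' _ Ideal.Quotient.mk_surjective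
    refine ringKrullDim_le_zero_of_isNilpotent (B := O ⧸ Ideal.ofList (Lg ++ [t₀])) fun z hz => ⟨2, ?_⟩
    obtain ⟨z, rfl⟩ := Ideal.Quotient.mk_surjective z
    rw [← map_pow, Ideal.Quotient.eq_zero_iff_mem]
    have hz' : ψ z ∈ maximalIdeal A' := by
      rw [mem_maximalIdeal, mem_nonunits_iff] at hz ⊢
      exact fun hu => hz ((hloc.map_nonunit z hu).map _)
    obtain ⟨r, -, hr⟩ := Ideal.mem_span_singleton_mul.1 (hsq (Ideal.mul_mem_mul hz' hz'))
    obtain ⟨r₀, rfl⟩ := hψsurj r
    have h1 : z ^ 2 - t₀ * r₀ ∈ RingHom.ker ψ := by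
      rw [RingHom.mem_ker, map_sub, map_pow, map_mul, hr, sq, sub_self]
    rw [hkerψ] at h1
    rw [Ideal.ofList_append, ← sub_add_cancel (z ^ 2) (t₀ * r₀)]
    refine add_mem (Ideal.mem_sup_left h1) (Ideal.mem_sup_right (Ideal.mul_mem_right _ _ ?_))
    exact Ideal.subset_span (List.mem_singleton.2 rfl)
  have hreg := Groth.Calg6.isWeaklyRegular_of_supportDim_add_length_le (Lg ++ [t₀]) O
    (Groth.Calg6.isCohenMacaulayModule_of_isRegularLocalRing O) hmem (by
      rw [smul_eq_mul, Ideal.mul_top, Module.supportDim_quotient_eq_ringKrullDim,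
        Module.supportDim_self_eq_ringKrullDim, hOdim, List.length_append, List.length_ofFn,
        List.length_singleton]
      exact (add_le_add_left hdim0 _).trans_eq (zero_add _))
  rw [RingTheory.Sequence.isWeaklyRegular_append_iff, RingTheory.Sequence.isWeaklyRegular_singleton_iff] at hreg
  rw [mem_nonZeroDivisors_iff_right]
  intro z hz
  obtain ⟨z₀, rfl⟩ := hψsurj z
  rw [← RingHom.mem_ker, hkerψ]
  have h1 : z₀ * t₀ ∈ RingHom.ker ψ := by rw [RingHom.mem_ker, map_mul]; exact hz
  rw [hkerψ] at h1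
  have h2 := isSMulRegular_iff_right_eq_zero_of_smul.1 hreg.2 (Submodule.Quotient.mk z₀) (by
    rw [← Submodule.Quotient.mk_smul, Submodule.Quotient.mk_eq_zero, smul_eq_mul, smul_eq_mul,
      Ideal.mul_top, mul_comm]
    exact h1)
  rwa [Submodule.Quotient.mk_eq_zero, smul_eq_mul, Ideal.mul_top] at h2

end Main

end Groth.Curves1.Node
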