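import Mathlib
import Groth.Agent.Curves1.Node.JacobianCI
import Groth.Agent.Curves1.Node.ChartPres
import Groth.Agent.Curves1.Node.NodeEtale

/-!
# Nodes of complete intersection curves over a field

Let `A` be a local ring of `k[X₁, …, X_{n+1}]/(g₁, …, gₙ)`. Then `A` is a node iff its residue field
is separable over `k` and the maximal minors of the Jacobian matrix generate the maximal ideal.
-/

namespace Groth.Curves1.Node

open IsLocalRing MvPolynomial TensorProduct

universe u

variable {k : Type u} [Field k] {A : Type u} [CommRing A] [IsLocalRing A] [IsNoetherianRing A]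
  [Algebra k A]

omit [IsNoetherianRing A] in
/-- A presentation of a chart at a point with separable residue field, together with a geometric
point above it. -/
theorem exists_geom_point {R : Type u} [CommRing R] [Algebra k R] [Algebra.FiniteType k R] [Algebra R A]
    [IsScalarTower k R A] (q0 : Ideal R) [q0.IsPrime] [IsLocalization.AtPrime A q0] {N : ℕ}
    (π0 : MvPolynomial (Fin N) k →ₐ[k] R) (hπ0 : Function.Surjective π0)
    (hsep : Algebra.IsSeparable k (ResidueField A)) :
    ∃ (A' : Type u) (_ : CommRing A') (_ : IsLocalRing A') (_ : IsNoetherianRing A')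
      (_ : Algebra (AlgebraicClosure k) A') (φ : A →+* A') (π₁ : MvPolynomial (Fin N) k →ₐ[k] A)
      (π' : MvPolynomial (Fin N) (AlgebraicClosure k) →ₐ[AlgebraicClosure k] A')
      (p : Fin N → AlgebraicClosure k),
      (∀ a, π₁ a = algebraMap R A (π0 a)) ∧ IsPointPresentation φ π₁ π' p ∧
        (maximalIdeal A).map φ = maximalIdeal A' := by
  classical
  let K := AlgebraicClosure k
  let σ : ResidueField A →ₐ[k] K := IsAlgClosed.lift
  let τ : R →ₐ[k] K :=
    σ.comp ((IsScalarTower.toAlgHom k A (ResidueField A)).comp (IsScalarTower.toAlgHom k R A))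
  let θ : R ⊗[k] K →ₐ[k] K := Algebra.TensorProduct.lift τ (AlgHom.id k K) fun _ _ => Commute.all _ _
  have hθ : Function.Surjective θ := fun c => ⟨(1 : R) ⊗ₜ c, by simp [θ]⟩
  let q' : Ideal (R ⊗[k] K) := RingHom.ker θ
  have : q'.IsMaximal := RingHom.ker_isMaximal_of_surjective θ hθ
  have hq : q'.comap (Algebra.TensorProduct.includeLeftRingHom : R →+* R ⊗[k] K) = q0 := by
    ext r
    rw [← IsLocalization.AtPrime.to_map_mem_maximal_iff A q0]
    show θ (r ⊗ₜ 1) = 0 ↔ _
    rw [show θ (r ⊗ₜ 1) = σ (residue A (algebraMap R A r)) by simp [θ, τ],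
      map_eq_zero_iff σ σ.toRingHom.injective, residue_eq_zero_iff]
  let A' := Localization.AtPrime q'
  let il : R →+* R ⊗[k] K := Algebra.TensorProduct.includeLeftRingHom
  let ir : K →+* R ⊗[k] K := (Algebra.TensorProduct.includeRight : K →ₐ[k] R ⊗[k] K).toRingHom
  let : Algebra K A' := ((algebraMap (R ⊗[k] K) A').comp ir).toAlgebra
  have hKA : ∀ c : K, algebraMap K A' c = algebraMap (R ⊗[k] K) A' ((1 : R) ⊗ₜ[k] c) := fun _ => rfl
  have hu : ∀ r : q0.primeCompl, IsUnit (((algebraMap (R ⊗[k] K) A').comp il) r.1) := fun r =>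
    IsLocalization.map_units A' (⟨il r.1, fun hr => r.2 (hq.le hr)⟩ : q'.primeCompl)
  let φ : A →+* A' := IsLocalization.lift hu
  have hφ : ∀ r : R, φ (algebraMap R A r) = algebraMap (R ⊗[k] K) A' (r ⊗ₜ[k] (1 : K)) :=
    fun r => IsLocalization.lift_eq _ r
  have : IsNoetherianRing (R ⊗[k] K) := by
    have : IsNoetherianRing (K ⊗[k] R) := Algebra.FiniteType.isNoetherianRing K _
    exact isNoetherianRing_of_ringEquiv _ (Algebra.TensorProduct.comm k K R).toRingEquiv
  have : IsNoetherianRing A' := IsLocalization.isNoetherianRing q'.primeCompl _ inferInstance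
  obtain ⟨π₁, π', p, hπ₁, hP⟩ := exists_pointPresentation' q0 hKA q' hq φ hφ π0 hπ0
  have := hP.isLocalHom
  refine ⟨A', inferInstance, inferInstance, inferInstance, inferInstance, φ, π₁, π', p, hπ₁, hP,
    hP.map_maximalIdeal_of_separable (fun i => ?_)⟩
  have h1 : p i = σ (residue A (π₁ (X i))) := by
    have h2 : π' (C (σ (residue A (π₁ (X i)))) - X i) ∈ maximalIdeal A' := by
      have e1 : π' (X i) = φ (π₁ (X i)) := by rw [hP.comm, map_X]
      rw [map_sub, e1, hπ₁, hφ, show π' (C (σ (residue A (algebraMap R A (π0 (X i)))))) =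
        algebraMap K A' (σ (residue A (algebraMap R A (π0 (X i))))) from π'.commutes _, hKA, ← map_sub,
        IsLocalization.AtPrime.to_map_mem_maximal_iff A' q']
      show θ (_ - _) = 0
      simp [θ, τ]
    rw [hP.mem_maximalIdeal'_iff, map_sub, eval_C, eval_X, sub_eq_zero] at h2
    exact h2.symm
  rw [h1]
  exact (isSeparable_map_iff σ σ.toRingHom.injective).2 (Algebra.IsSeparable.isSeparable k _)

variable {n : ℕ} (π : MvPolynomial (Fin (n + 1)) k →ₐ[k] A)
  (g : Fin n → MvPolynomial (Fin (n + 1)) k) (hg : ∀ i, π (g i) = 0)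
  (hfrac : ∀ a, ∃ b c, IsUnit (π b) ∧ a * π b = π c)
  (hker : ∀ q, π q = 0 → ∃ s, IsUnit (π s) ∧ s * q ∈ Ideal.span (Set.range g))

include hg hfrac hker

theorem nodeRing_iff_jacMinors :
    (Algebra.IsSeparable k (ResidueField A) ∧ IsReduced A ∧ IsQuadraticCriterion A) ↔
      (Algebra.IsSeparable k (ResidueField A) ∧ (jacMinors g).map π = maximalIdeal A) := by
  classical
  refine ⟨fun h => ⟨h.1, ?_⟩, fun h => ⟨h.1, ?_⟩⟩
  all_goals
    have hsep := h.1
    let K := AlgebraicClosure k
    let I := Ideal.span (Set.range g)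
    have hI : ∀ a ∈ I, π a = 0 := fun a ha => by
      obtain ⟨c, rfl⟩ := Ideal.mem_span_range_iff_exists_fun.1 ha
      simp [hg]
    let R := MvPolynomial (Fin (n + 1)) k ⧸ I
    let π0 : MvPolynomial (Fin (n + 1)) k →ₐ[k] R := Ideal.Quotient.mkₐ k I
    let ρ : R →ₐ[k] A := Ideal.Quotient.liftₐ I π hI
    let : Algebra R A := ρ.toRingHom.toAlgebra
    have hρ : ∀ a, algebraMap R A (π0 a) = π a := fun a => rfl
    have : IsScalarTower k R A := IsScalarTower.of_algebraMap_eq fun c => (ρ.commutes c).symm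
    let q0 : Ideal R := (maximalIdeal A).comap (algebraMap R A)
    have hq0 : ∀ r, r ∈ q0.primeCompl ↔ IsUnit (algebraMap R A r) := fun r => by
      show ¬ (algebraMap R A r ∈ maximalIdeal A) ↔ _
      rw [mem_maximalIdeal, mem_nonunits_iff, not_not]
    have hloc : IsLocalization.AtPrime A q0 := by
      constructor
      constructor
      · exact fun y => (hq0 y.1).1 y.2
      · intro z
        obtain ⟨b, c, hb, hbc⟩ := hfrac z
        exact ⟨(π0 c, ⟨π0 b, (hq0 _).2 (by rwa [hρ])⟩), by simpa [hρ] using hbc⟩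
      · intro x y hxy
        obtain ⟨x, rfl⟩ := Ideal.Quotient.mk_surjective x
        obtain ⟨y, rfl⟩ := Ideal.Quotient.mk_surjective y
        have h0 : π (x - y) = 0 := by rw [map_sub, sub_eq_zero]; exact hxy
        obtain ⟨s, hs, hmem⟩ := hker _ h0
        refine ⟨⟨π0 s, (hq0 _).2 (by rwa [hρ])⟩, ?_⟩
        show π0 s * Ideal.Quotient.mk I x = π0 s * Ideal.Quotient.mk I y
        rw [← sub_eq_zero, ← mul_sub]
        show Ideal.Quotient.mk I (s * (x - y)) = 0
        exact Ideal.Quotient.eq_zero_iff_mem.2 hmem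
    obtain ⟨A', _, _, _, _, φ, π₁, π', p, hπ₁, hP, hsepp⟩ :=
      exists_geom_point q0 π0 Ideal.Quotient.mk_surjective hsep
    have hπ₁' : ∀ a, π₁ a = π a := fun a => (hπ₁ a).trans (hρ a)
    let μ : MvPolynomial (Fin (n + 1)) k →+* MvPolynomial (Fin (n + 1)) K := map (algebraMap k K)
    let g' : Fin n → MvPolynomial (Fin (n + 1)) K := fun i => μ (g i)
    have hK : IsPointPresentation (RingHom.id A') π' π' p := by
      refine ⟨⟨fun _ h => h⟩, RingHom.Flat.id A', fun q => by simp [Algebra.algebraMap_self, MvPolynomial.map_id],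
        hP.frac', hP.frac', hP.isUnit_iff, fun q hq => ⟨1, by simp, ?_⟩⟩
      rw [one_mul, Algebra.algebraMap_self]
      have h1 := Ideal.mem_map_of_mem (MvPolynomial.map (RingHom.id (AlgebraicClosure k)))
        (show q ∈ RingHom.ker π' from hq)
      rwa [MvPolynomial.map_id] at h1
    have hg' : ∀ i, π' (g' i) = 0 := fun i => by
      rw [← hP.comm, hπ₁', hg, map_zero]
    have hker' : ∀ q, π' q = 0 → ∃ s, eval p s ≠ 0 ∧ s * q ∈ Ideal.span (Set.range g') := by
      intro q hq
      obtain ⟨s, hs, hmem⟩ := hP.ker q hq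
      suffices key : ∀ z ∈ (RingHom.ker π₁).map μ, ∃ t, eval p t ≠ 0 ∧ t * z ∈ Ideal.span (Set.range g') by
        obtain ⟨t, ht, htz⟩ := key _ hmem
        exact ⟨t * s, by rw [map_mul]; exact mul_ne_zero ht hs, by rwa [mul_assoc]⟩
      intro z hz
      rw [Ideal.map] at hz
      induction hz using Submodule.span_induction with
      | mem y hy =>
        obtain ⟨a, ha, rfl⟩ := hy
        obtain ⟨s', hs', hmem'⟩ := hker a ((hπ₁' a).symm.trans ha)
        refine ⟨μ s', (hP.isUnit_pi_iff s').1 (by rwa [hπ₁']), ?_⟩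
        have h1 := Ideal.mem_map_of_mem μ hmem'
        rwa [Ideal.map_span, ← Set.range_comp, map_mul] at h1
      | zero => exact ⟨1, by simp, by simp⟩
      | add x y _ _ hx hy =>
        obtain ⟨t, ht, htx⟩ := hx
        obtain ⟨t', ht', hty⟩ := hy
        refine ⟨t * t', by rw [map_mul]; exact mul_ne_zero ht ht', ?_⟩
        rw [show t * t' * (x + y) = t' * (t * x) + t * (t' * y) by ring]
        exact add_mem (Ideal.mul_mem_left _ _ htx) (Ideal.mul_mem_left _ _ hty)
      | smul r x _ hx =>
        obtain ⟨t, ht, htx⟩ := hx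
        refine ⟨t, ht, ?_⟩
        rw [smul_eq_mul, show t * (r * x) = r * (t * x) by ring]
        exact Ideal.mul_mem_left _ _ htx
    have hM : ((jacMinors g).map π).map φ = (jacMinors g').map π' := by
      rw [← map_jacMinors (algebraMap k K) g, ← Ideal.map_coe π, ← Ideal.map_coe π', Ideal.map_map,
        Ideal.map_map]
      congr 1
      exact RingHom.ext fun a => (congrArg φ (hπ₁' a).symm).trans (hP.comm a)
    have := hP.isLocalHom
  · -- a node satisfies the Jacobian condition
    obtain ⟨-, hred, hA⟩ := h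
    have hspan : (maximalIdeal A).spanFinrank ≠ 0 := by
      obtain ⟨hnp, x, y, -, -, -, hxy, -, -⟩ := hA
      rw [spanFinrank_eq_two hxy hnp]
      norm_num
    obtain ⟨t, ht, ht'⟩ := exists_nonZeroDivisor_of_isReduced hspan
    obtain ⟨hA', -⟩ := ascend _ hP.flat hsepp hA ht'
    let := φ.toAlgebra
    have : IsLocalHom (algebraMap A A') := hP.isLocalHom
    have : Module.Flat A A' := hP.flat
    have := Module.FaithfullyFlat.of_flat_of_isLocalHom (A := A) (B := A')
    rw [← Ideal.comap_map_eq_self_of_faithfullyFlat (B := A') ((jacMinors g).map π),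
      ← Ideal.comap_map_eq_self_of_faithfullyFlat (B := A') (maximalIdeal A)]
    show Ideal.comap φ (((jacMinors g).map π).map φ) = Ideal.comap φ ((maximalIdeal A).map φ)
    rw [hM, hsepp, jacMinors_eq_of_criterion hK hg' hker' hA']
  · -- conversely
    have hM' : (jacMinors g').map π' = maximalIdeal A' := by rw [← hM, h.2, hsepp]
    have hA' := criterion_of_jacMinors_eq hK hg' hker' hM'
    obtain ⟨t, ht, ht'⟩ := exists_nonZeroDivisor_of_ci hK hg' hker' hA'
    have hodp := isOrdDoublePt_of_criterion hK.exists_sub_algebraMap_mem hA' ht ht'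
    obtain ⟨-, a, b, c, hD, ⟨e⟩⟩ := criterion_of_isOrdDoublePt hodp
    exact descend _ hP.flat hsepp hD e

end Groth.Curves1.Node
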