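import Mathlib
import Groth.Agent.Curves1.Node.NodeCI
import Groth.Agent.Curves1.Node.NodeMinors

/-!
# The nodal locus near a node, on a chart

Near a node of a fibre of a flat family of finite presentation, every point is either a smooth point
of relative dimension one or a node of its fibre.
-/

namespace Groth.Curves1.Node

open IsLocalRing

universe u

namespace IsFibreLocal

variable {R S k A : Type u} [CommRing R] [CommRing S] [Algebra R S] [Field k]
  [CommRing A] [IsLocalRing A] [Algebra k A] {χ : R →+* k} {ρ : S →+* A}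

/-- The residue field at `χ`. -/
theorem exists_residueField_equiv (h : IsFibreLocal χ ρ) [(RingHom.ker χ).IsPrime] :
    ∃ e : (RingHom.ker χ).ResidueField ≃+* k, ∀ r, e (algebraMap R _ r) = χ r := by
  let e : (RingHom.ker χ).ResidueField →+* k := Ideal.ResidueField.lift _ χ le_rfl
    fun r hr => Ne.isUnit hr
  have he : ∀ r, e (algebraMap R _ r) = χ r := fun r =>
    Ideal.ResidueField.lift_algebraMap _ χ le_rfl (fun r hr => Ne.isUnit hr) r
  refine ⟨RingEquiv.ofBijective e ⟨e.injective, fun c => ?_⟩, he⟩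
  obtain ⟨r, r', hr', hc⟩ := h.exists_eq_div c
  refine ⟨algebraMap R _ r / algebraMap R _ r', ?_⟩
  rw [map_div₀, he, he, ← hc, mul_div_cancel_right₀ _ hr']

theorem algebraMap_comap (h : IsFibreLocal χ ρ) :
    ((maximalIdeal A).comap ρ).comap (algebraMap R S) = RingHom.ker χ := by
  ext r
  rw [Ideal.mem_comap, Ideal.mem_comap, h.comm, mem_maximalIdeal, mem_nonunits_iff, RingHom.mem_ker]
  constructor
  · intro hu
    by_contra h0
    exact hu ((Ne.isUnit h0).map _)
  · intro h0
    rw [h0, map_zero]
    exact not_isUnit_zero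

/-- Unramifiedness of a closed subscheme at a point, on the fibre. -/
theorem unramified_iff (h : IsFibreLocal χ ρ) [Algebra.FiniteType R S] (J : Ideal S)
    (z : PrimeSpectrum (S ⧸ J)) (hz : z.asIdeal.comap (Ideal.Quotient.mk J) = (maximalIdeal A).comap ρ) :
    Algebra.IsUnramifiedAt R z.asIdeal ↔
      Algebra.IsSeparable k (ResidueField A) ∧ J.map ρ = maximalIdeal A := by
  classical
  set Q := (maximalIdeal A).comap ρ
  set p := RingHom.ker χ
  have hp : p.IsPrime := RingHom.ker_isPrime χ
  obtain ⟨e, he⟩ := h.exists_residueField_equiv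
  have hJQ : J ≤ Q := hz ▸ fun x hx => by
    rw [Ideal.mem_comap, Ideal.Quotient.eq_zero_iff_mem.2 hx]
    exact zero_mem _
  have hJm : J.map ρ ≤ maximalIdeal A := Ideal.map_le_iff_le_comap.2 hJQ
  have hover : z.asIdeal.LiesOver p := ⟨h.algebraMap_comap.symm.trans (by
    show Q.comap (algebraMap R S) = _
    rw [← hz, Ideal.comap_comap]
    rfl)⟩
  let := Localization.AtPrime.algebraOfLiesOver p z.asIdeal
  rw [Algebra.isUnramifiedAt_iff_map_eq R p z.asIdeal]
  have hcompl : ∀ x : S, Ideal.Quotient.mk J x ∉ z.asIdeal ↔ IsUnit (ρ x) := fun x => by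
    rw [← Ideal.mem_comap, hz, Ideal.mem_comap, mem_maximalIdeal, mem_nonunits_iff, not_not]
  refine and_congr ?_ ?_
  · -- residue fields
    let f0 : (S ⧸ J) →+* ResidueField A := Ideal.Quotient.lift J ((residue A).comp ρ)
      fun x hx => (residue_eq_zero_iff _).2 (hJQ hx)
    have hf0 : ∀ x, f0 (Ideal.Quotient.mk J x) = residue A (ρ x) := fun _ => rfl
    have hker : z.asIdeal ≤ RingHom.ker f0 := by
      intro y hy
      obtain ⟨x, rfl⟩ := Ideal.Quotient.mk_surjective y
      rw [RingHom.mem_ker, hf0, residue_eq_zero_iff, ← Ideal.mem_comap]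
      exact hz.le hy
    have hunit : z.asIdeal.primeCompl ≤ Submonoid.comap f0 (IsUnit.submonoid (ResidueField A)) := by
      intro y hy
      obtain ⟨x, rfl⟩ := Ideal.Quotient.mk_surjective y
      exact ((hcompl x).1 hy).map (residue A)
    let σ : z.asIdeal.ResidueField →+* ResidueField A := Ideal.ResidueField.lift _ f0 hker hunit
    have hσ : ∀ y, σ (algebraMap _ _ y) = f0 y :=
      fun y => Ideal.ResidueField.lift_algebraMap _ f0 hker hunit y
    have hσbij : Function.Bijective σ := by
      refine ⟨σ.injective, fun c => ?_⟩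
      obtain ⟨a, rfl⟩ := residue_surjective c
      obtain ⟨b, c, hb, hbc⟩ := h.frac a
      refine ⟨algebraMap _ _ (Ideal.Quotient.mk J c) / algebraMap _ _ (Ideal.Quotient.mk J b), ?_⟩
      rw [map_div₀, hσ, hσ, hf0, hf0, ← hbc, map_mul, mul_div_cancel_right₀ _ (hb.map (residue A)).ne_zero]
    have hsq : (algebraMap k (ResidueField A)).comp e.toRingHom =
        σ.comp (algebraMap p.ResidueField z.asIdeal.ResidueField) := by
      refine Ideal.ResidueField.ringHom_ext (RingHom.ext fun r => ?_)
      show algebraMap k (ResidueField A) (e (algebraMap R p.ResidueField r)) =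
        σ (algebraMap p.ResidueField z.asIdeal.ResidueField (algebraMap R p.ResidueField r))
      rw [he, ← IsScalarTower.algebraMap_apply, IsScalarTower.algebraMap_apply R (S ⧸ J), hσ,
        IsScalarTower.algebraMap_apply k A (ResidueField A), ← h.comm]
      rfl
    refine ⟨fun _ => Algebra.IsSeparable.of_equiv_equiv e (RingEquiv.ofBijective σ hσbij) hsq,
      fun _ => Algebra.IsSeparable.of_equiv_equiv e.symm (RingEquiv.ofBijective σ hσbij).symm ?_⟩
    refine RingHom.ext fun c => ?_
    apply σ.injective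
    have := RingHom.congr_fun hsq (e.symm c)
    simp only [RingHom.comp_apply, RingEquiv.toRingHom_eq_coe, RingHom.coe_coe,
      RingEquiv.apply_symm_apply] at this ⊢
    rw [← this]
    exact ((RingEquiv.ofBijective σ hσbij).apply_symm_apply _).symm
  · -- the maximal ideals
    let L := Localization.AtPrime z.asIdeal
    have hpz : (p.map (algebraMap R L)) = ((p.map (algebraMap R S)).map (Ideal.Quotient.mk J)).map
        (algebraMap (S ⧸ J) L) := by
      rw [Ideal.map_map, Ideal.map_map, IsScalarTower.algebraMap_eq R (S ⧸ J) L]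
      rfl
    constructor
    · intro hm
      refine le_antisymm hJm fun a ha => ?_
      obtain ⟨b, c, hb, hbc⟩ := h.frac a
      refine (Ideal.mul_unit_mem_iff_mem _ hb).1 ?_
      rw [hbc]
      have hc : ρ c ∈ maximalIdeal A := hbc ▸ Ideal.mul_mem_right _ _ ha
      have h1 : algebraMap (S ⧸ J) L (Ideal.Quotient.mk J c) ∈ maximalIdeal L :=
        (IsLocalization.AtPrime.to_map_mem_maximal_iff L z.asIdeal _).2
          (Ideal.mem_comap.1 (hz.ge (Ideal.mem_comap.2 hc)))
      rw [← hm, hpz, IsLocalization.algebraMap_mem_map_algebraMap_iff z.asIdeal.primeCompl] at h1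
      obtain ⟨y, hy, hmem⟩ := h1
      obtain ⟨y, rfl⟩ := Ideal.Quotient.mk_surjective y
      rw [← map_mul, Ideal.mem_quotient_iff_mem_sup] at hmem
      have h2 := Ideal.mem_map_of_mem ρ hmem
      rw [map_mul, Ideal.unit_mul_mem_iff_mem _ ((hcompl y).1 hy), Ideal.map_sup] at h2
      refine (sup_le ?_ le_rfl : _ ≤ J.map ρ) h2
      rw [Ideal.map_map, Ideal.map_le_iff_le_comap]
      intro r hr
      rw [Ideal.mem_comap, RingHom.comp_apply, h.comm, RingHom.mem_ker.1 hr, map_zero]
      exact zero_mem _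
    · intro hm
      refine le_antisymm ?_ ?_
      · rw [hpz]
        refine (Ideal.map_mono ?_).trans (Localization.AtPrime.map_eq_maximalIdeal).le
        rw [Ideal.map_map, Ideal.map_le_iff_le_comap]
        exact (hover.over).le
      · rw [← Localization.AtPrime.map_eq_maximalIdeal, hpz, Ideal.map_le_iff_le_comap]
        intro y hy
        obtain ⟨x, rfl⟩ := Ideal.Quotient.mk_surjective y
        have hx : ρ x ∈ J.map ρ := by
          rw [hm, ← Ideal.mem_comap]
          exact hz.le hy
        have key : ∀ w ∈ J.map ρ, ∃ b j, IsUnit (ρ b) ∧ j ∈ J ∧ w * ρ b = ρ j := by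
          intro w hw
          rw [Ideal.map] at hw
          induction hw using Submodule.span_induction with
          | mem v hv => obtain ⟨j, hj, rfl⟩ := hv; exact ⟨1, j, by simp, hj, by simp⟩
          | zero => exact ⟨1, 0, by simp, zero_mem _, by simp⟩
          | add v v' _ _ h1 h2 =>
            obtain ⟨b, j, hb, hj, he1⟩ := h1
            obtain ⟨b', j', hb', hj', he2⟩ := h2
            refine ⟨b * b', j * b' + j' * b, by rw [map_mul]; exact hb.mul hb',
              add_mem (Ideal.mul_mem_right _ _ hj) (Ideal.mul_mem_right _ _ hj'), ?_⟩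
            simp only [map_add, map_mul, ← he1, ← he2]
            ring
          | smul a v _ h1 =>
            obtain ⟨b, j, hb, hj, he1⟩ := h1
            obtain ⟨b', c, hb', hc⟩ := h.frac a
            refine ⟨b' * b, c * j, by rw [map_mul]; exact hb'.mul hb, Ideal.mul_mem_left _ _ hj, ?_⟩
            simp only [map_mul, smul_eq_mul, ← he1, ← hc]
            ring
        obtain ⟨b, j, hb, hj, hbj⟩ := key _ hx
        obtain ⟨s, hs, hsz⟩ := h.ker (x * b - j) (by rw [map_sub, map_mul, hbj, sub_self])
        rw [Ideal.mem_comap, IsLocalization.algebraMap_mem_map_algebraMap_iff z.asIdeal.primeCompl]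
        refine ⟨Ideal.Quotient.mk J (s * b), (hcompl _).2 (by rw [map_mul]; exact hs.mul hb), ?_⟩
        have h1 := Ideal.mem_map_of_mem (Ideal.Quotient.mk J) hsz
        rwa [mul_sub, map_sub, Ideal.Quotient.eq_zero_iff_mem.2 (Ideal.mul_mem_left _ s hj), sub_zero,
          ← mul_assoc, mul_right_comm, map_mul] at h1

open MvPolynomial in
/-- Nodes, on a chart cut out by `n` equations in `n + 1` variables. -/
theorem isNodeRing_iff [IsNoetherianRing A] (h : IsFibreLocal χ ρ) {n : ℕ}
    (φ : MvPolynomial (Fin (n + 1)) R →ₐ[R] S) (hφ : Function.Surjective φ)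
    (g : Fin n → MvPolynomial (Fin (n + 1)) R) (hg : ∀ i, φ (g i) = 0)
    (hh : MvPolynomial (Fin (n + 1)) R) (hhI : ∀ x, φ x = 0 → hh * x ∈ Ideal.span (Set.range g))
    (hu : IsUnit (ρ (φ hh))) :
    IsNodeRing k A ↔ (Algebra.IsSeparable k (ResidueField A) ∧
      ((jacMinors g).map φ).map ρ = maximalIdeal A) := by
  have e : ((jacMinors g).map φ).map ρ = (jacMinors fun i => map χ (g i)).map (h.pres φ) := by
    rw [← map_jacMinors, ← Ideal.map_coe φ, ← Ideal.map_coe (h.pres φ), Ideal.map_map, Ideal.map_map]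
    congr 1
    exact RingHom.ext fun f => (h.pres_map φ f).symm
  rw [e]
  refine nodeRing_iff_jacMinors (h.pres φ) _ (fun i => by rw [h.pres_map, hg, map_zero])
    (h.pres_frac φ hφ) fun q hq => ?_
  obtain ⟨s, hs, hmem⟩ := h.pres_ker φ hφ hq
  refine ⟨map χ hh * map χ s, by rw [map_mul, h.pres_map, h.pres_map]; exact hu.mul hs, ?_⟩
  rw [mul_assoc]
  have hle : Ideal.span {hh} * RingHom.ker φ.toRingHom ≤ Ideal.span (Set.range g) :=
    Ideal.span_singleton_mul_le_iff.2 fun x hx => hhI x hx
  have h1 := Ideal.map_mono (f := map χ) hle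
  rw [Ideal.map_mul, Ideal.map_span, Ideal.map_span, Set.image_singleton, ← Set.range_comp] at h1
  exact h1 (Ideal.mul_mem_mul (Ideal.mem_span_singleton_self _) hmem)

end IsFibreLocal

open MvPolynomial in
/-- Inverting a maximal minor gives a standard smooth algebra of relative dimension one. -/
theorem isStandardSmooth_away_minor {R S : Type u} [CommRing R] [CommRing S] [Algebra R S] {n : ℕ}
    (φ : MvPolynomial (Fin (n + 1)) R →ₐ[R] S) (hφ : Function.Surjective φ)
    (g : Fin n → MvPolynomial (Fin (n + 1)) R) (hg : ∀ i, φ (g i) = 0)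
    (hh : MvPolynomial (Fin (n + 1)) R) (hhI : ∀ x, φ x = 0 → hh * x ∈ Ideal.span (Set.range g))
    (γ : Fin n → Fin (n + 1)) (hγ : Function.Injective γ) :
    Algebra.IsStandardSmoothOfRelativeDimension 1 R
      (Localization.Away (φ (hh * (Matrix.of fun i j => pderiv (γ j) (g i)).det))) := by
  classical
  set D := (Matrix.of fun i j => pderiv (γ j) (g i)).det
  let B := MvPolynomial (Fin (n + 1)) R ⧸ Ideal.span (Set.range g)
  let Pre : Algebra.PreSubmersivePresentation R B (Fin (n + 1)) (Fin n) :=
    Algebra.PreSubmersivePresentation.naive (v := g) γ hγ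
  let G : B := Ideal.Quotient.mk _ (hh * D)
  have hjac : Pre.jacobian ∣ G := by
    rw [Algebra.PreSubmersivePresentation.jacobian_eq_jacobiMatrix_det, Algebra.Generators.algebraMap_apply]
    refine ⟨Ideal.Quotient.mk _ hh, ?_⟩
    rw [show aeval Pre.val Pre.jacobiMatrix.det = Ideal.Quotient.mk (Ideal.span (Set.range g))
      Pre.jacobiMatrix.det from AlgHom.congr_fun (show aeval Pre.val =
        Ideal.Quotient.mkₐ R (Ideal.span (Set.range g)) from MvPolynomial.algHom_ext fun i => aeval_X _ i) _,
      ← map_mul, mul_comm _ hh]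
    refine congrArg (Ideal.Quotient.mk _) (congrArg (hh * ·) ?_)
    have hN : Pre.jacobiMatrix = (Matrix.of fun i j => pderiv (γ j) (g i)).transpose := by
      ext i j : 2
      rw [Matrix.transpose_apply, Algebra.PreSubmersivePresentation.jacobiMatrix_naive]
      rfl
    rw [hN, Matrix.det_transpose]
  let θ : B →ₐ[R] S := Ideal.Quotient.liftₐ _ φ (fun a ha => by
    obtain ⟨c, rfl⟩ := Ideal.mem_span_range_iff_exists_fun.1 ha
    simp [hg])
  let L := Localization.Away (φ (hh * D))
  let : Algebra B L := ((algebraMap S L).comp θ.toRingHom).toAlgebra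
  have : IsScalarTower R B L := IsScalarTower.of_algebraMap_eq (R := R) (S := B) (A := L) fun r => by
    rw [IsScalarTower.algebraMap_apply R S L, ← θ.commutes]
    rfl
  have hBL : ∀ f, algebraMap B L (Ideal.Quotient.mk _ f) = algebraMap S L (φ f) := fun _ => rfl
  have : IsLocalization.Away G L := by
    refine IsLocalization.Away.mk G ?_ (fun z => ?_) fun a b hab => ?_
    · rw [hBL]
      exact IsLocalization.Away.algebraMap_isUnit _
    · obtain ⟨m, x, hx⟩ := IsLocalization.Away.surj (φ (hh * D)) z
      obtain ⟨x, rfl⟩ := hφ x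
      exact ⟨m, Ideal.Quotient.mk _ x, by rw [hBL, hBL]; exact hx⟩
    · obtain ⟨a, rfl⟩ := Ideal.Quotient.mk_surjective a
      obtain ⟨b, rfl⟩ := Ideal.Quotient.mk_surjective b
      rw [hBL, hBL] at hab
      obtain ⟨m, hm⟩ := IsLocalization.Away.exists_of_eq (φ (hh * D)) hab
      refine ⟨m + 1, ?_⟩
      rw [← map_pow, ← map_mul, ← map_mul, Ideal.Quotient.eq, ← mul_sub]
      have h0 : φ ((hh * D) ^ m * (a - b)) = 0 := by
        rw [map_mul, map_pow, map_sub, mul_sub, hm, sub_self]
      rw [pow_succ', show hh * D * (hh * D) ^ m * (a - b) = D * (hh * ((hh * D) ^ m * (a - b))) by ring]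
      exact Ideal.mul_mem_left _ _ (hhI _ h0)
  let Loc := Algebra.PreSubmersivePresentation.localizationAway L G
  let Pc : Algebra.SubmersivePresentation R L (Unit ⊕ Fin (n + 1)) (Unit ⊕ Fin n) :=
    { toPreSubmersivePresentation := Loc.comp Pre
      jacobian_isUnit := by
        rw [Algebra.PreSubmersivePresentation.comp_jacobian_eq_jacobian_smul_jacobian, Algebra.smul_def,
          Algebra.PreSubmersivePresentation.localizationAway_jacobian]
        exact (isUnit_of_dvd_unit (map_dvd (algebraMap B L) hjac)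
          (IsLocalization.Away.algebraMap_isUnit G)).mul (IsLocalization.Away.algebraMap_isUnit G) }
  exact Pc.isStandardSmoothOfRelativeDimension (by
    simp [Algebra.Presentation.dimension, Nat.card_eq_fintype_card]; omega)

/-- Near a node of a fibre, every point is smooth of relative dimension one or a node of its fibre. -/
theorem exists_node_nhds {R S : Type u} [CommRing R] [CommRing S] [Algebra R S] [Module.Flat R S]
    [Algebra.FinitePresentation R S] {k₀ A₀ : Type u} [Field k₀] [CommRing A₀] [IsLocalRing A₀]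
    [IsNoetherianRing A₀] [Algebra k₀ A₀] {χ₀ : R →+* k₀} {ρ₀ : S →+* A₀}
    (h₀ : IsFibreLocal χ₀ ρ₀) (hnode : IsNodeRing k₀ A₀) :
    ∃ W : Set (PrimeSpectrum S), IsOpen W ∧ (∃ z ∈ W, z.asIdeal = (maximalIdeal A₀).comap ρ₀) ∧
      ∀ z ∈ W, (∃ f ∉ z.asIdeal, Algebra.IsStandardSmoothOfRelativeDimension 1 R (Localization.Away f)) ∨
        ∀ (k A : Type u) [Field k] [CommRing A] [IsLocalRing A] [IsNoetherianRing A] [Algebra k A]
          (χ : R →+* k) (ρ : S →+* A), IsFibreLocal χ ρ → z.asIdeal = (maximalIdeal A).comap ρ →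
            IsNodeRing k A := by
  classical
  obtain ⟨N, φ, hφ, hI⟩ := ‹Algebra.FinitePresentation R S›.out
  obtain ⟨n, g, hh, rfl, hg, hu, hhI⟩ := h₀.exists_equations φ hφ hI hnode
  let J : Ideal S := (jacMinors g).map φ
  let bad : Set (PrimeSpectrum S) :=
    PrimeSpectrum.comap (Ideal.Quotient.mk J) '' (Algebra.unramifiedLocus R (S ⧸ J))ᶜ
  have hbad : IsClosed bad :=
    (PrimeSpectrum.isClosedEmbedding_comap_of_surjective _ _ Ideal.Quotient.mk_surjective).isClosedMap _
      Algebra.isOpen_unramifiedLocus.isClosed_compl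
  have hlift : ∀ z : PrimeSpectrum S, J ≤ z.asIdeal →
      ∃ w : PrimeSpectrum (S ⧸ J), PrimeSpectrum.comap (Ideal.Quotient.mk J) w = z := by
    intro z hz
    have : z ∈ Set.range (PrimeSpectrum.comap (Ideal.Quotient.mk J)) := by
      rw [range_comap_of_surjective _ _ Ideal.Quotient.mk_surjective, Ideal.mk_ker]
      exact hz
    exact this
  refine ⟨(PrimeSpectrum.basicOpen (φ hh) : Set _) ∩ badᶜ,
    PrimeSpectrum.isOpen_basicOpen.inter hbad.isOpen_compl,
    ⟨⟨(maximalIdeal A₀).comap ρ₀, inferInstance⟩, ⟨?_, ?_⟩, rfl⟩, ?_⟩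
  · exact fun hm => (mem_maximalIdeal _).1 (Ideal.mem_comap.1 hm) hu
  · rintro ⟨w, hw, hwz⟩
    exact hw ((h₀.unramified_iff J w (congrArg PrimeSpectrum.asIdeal hwz)).2
      ((h₀.isNodeRing_iff φ hφ g hg hh hhI hu).1 hnode))
  rintro z ⟨hzh, hzb⟩
  by_cases hJ : J ≤ z.asIdeal
  · right
    intro k A _ _ _ _ _ χ ρ hA hz
    obtain ⟨w, rfl⟩ := hlift z hJ
    have hunit : IsUnit (ρ (φ hh)) := by
      by_contra hn
      exact hzh (hz ▸ Ideal.mem_comap.2 ((mem_maximalIdeal _).2 hn))
    refine (hA.isNodeRing_iff φ hφ g hg hh hhI hunit).2 ((hA.unramified_iff J w hz).1 ?_)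
    by_contra hn
    exact hzb ⟨w, hn, rfl⟩
  · left
    obtain ⟨γ, hγ⟩ : ∃ γ : Fin n → Fin (n + 1),
        φ (Matrix.of fun i j => MvPolynomial.pderiv (γ j) (g i)).det ∉ z.asIdeal := by
      by_contra hall
      push Not at hall
      refine hJ (Ideal.map_le_iff_le_comap.2 (Ideal.span_le.2 ?_))
      rintro _ ⟨γ, rfl⟩
      exact hall γ
    have hinj : Function.Injective γ := by
      intro a b hab
      by_contra hne
      refine hγ ?_
      rw [Matrix.det_zero_of_column_eq hne fun i => by simp [hab], map_zero]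
      exact zero_mem _
    refine ⟨_, fun hm => ?_, isStandardSmooth_away_minor φ hφ g hg hh hhI γ hinj⟩
    rw [map_mul] at hm
    exact (z.isPrime.mem_or_mem hm).elim hzh hγ

end Groth.Curves1.Node
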