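import Mathlib
import Groth.Agent.Curves1.Node.NodeChart
import Groth.Agent.Curves1.Node.NodeChar
import Groth.Agent.S9501

/-!
# The smooth-or-node locus is open
-/

namespace Groth.Curves1.Node

open CategoryTheory CategoryTheory.Limits AlgebraicGeometry IsLocalRing

universe u

attribute [local instance] Curv2.resAlgebra Curv2.stalkAlgebra

variable {X S : Scheme.{u}} (f : X ⟶ S)

/-- `f` is smooth of relative dimension one near `y`. -/
def IsSmoothOneAt (y : X) : Prop :=
  ∃ (V : S.Opens) (_ : IsAffineOpen V) (U : X.Opens) (_ : IsAffineOpen U) (_ : y ∈ U)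
    (e : U ≤ f ⁻¹ᵁ V), (f.appLE V U e).hom.IsStandardSmoothOfRelativeDimension 1

/-- The point `w` of the fibre over `s` is a node of that fibre. -/
def IsFibreNode (s : S) (w : f.fiber s) : Prop :=
  @IsNodeStalk (S.residueField s) _ (f.fiber s) ⟨f.fiberToSpecResidueField s⟩ w

theorem isFibreNode_congr {s s' : S} (w : f.fiber s) (w' : f.fiber s') (hs : s = s')
    (h : f.fiberι s w = f.fiberι s' w') : IsFibreNode f s w ↔ IsFibreNode f s' w' := by
  subst hs
  rw [(f.fiberι s).isEmbedding.injective h]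

theorem isNode_asFiber_iff [LocallyOfFiniteType f] (y : X) :
    @Curv2.IsNode (S.residueField (f y)) _ (f.fiber (f y)) ⟨f.fiberToSpecResidueField (f y)⟩
      (f.asFiber y) ↔ IsFibreNode f (f y) (f.asFiber y) := by
  let : (f.fiber (f y)).Over (Spec (CommRingCat.of (S.residueField (f y)))) :=
    ⟨f.fiberToSpecResidueField (f y)⟩
  have : LocallyOfFiniteType ((f.fiber (f y)) ↘ (Spec (CommRingCat.of (S.residueField (f y))))) :=
    inferInstanceAs (LocallyOfFiniteType (pullback.snd f (S.fromSpecResidueField (f y))))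
  exact isNode_iff_isNodeStalk (k := S.residueField (f y)) (f.asFiber y)

variable {V : S.Opens} (hV : IsAffineOpen V) {U : X.Opens} (hU : IsAffineOpen U) (e : U ≤ f ⁻¹ᵁ V)
  {s : S} (hs : s ∈ V) (w : f.fiber s) (hw : f.fiberι s w ∈ U)

/-- From a chart to the local ring of a fibre. -/
noncomputable def toFibreStalk : Γ(X, U) ⟶ (f.fiber s).presheaf.stalk w :=
  X.presheaf.germ U _ hw ≫ (f.fiberι s).stalkMap w

noncomputable local instance : (f.fiber s).Over (Spec (CommRingCat.of (S.residueField s))) :=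
  ⟨f.fiberToSpecResidueField s⟩

include hV in
theorem appLE_toFibreStalk :
    f.appLE V U e ≫ toFibreStalk f w hw =
      S.evaluation V s hs ≫ CommRingCat.ofHom (Curv2.stalkMap (S.residueField s) (f.fiber s) w) := by
  have hwV : f (f.fiberι s w) ∈ V := e hw
  have h1 : f.appLE V U e ≫ X.presheaf.germ U (f.fiberι s w) hw =
      S.presheaf.germ V (f (f.fiberι s w)) hwV ≫ f.stalkMap (f.fiberι s w) := by
    rw [Scheme.Hom.germ_stalkMap, Scheme.Hom.appLE, Category.assoc]
    congr 1
    exact TopCat.Presheaf.germ_res _ _ _ _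
  rw [toFibreStalk, ← Category.assoc, h1]
  apply Spec.map_injective
  rw [← cancel_mono hV.fromSpec]
  have k1 : ∀ (t : S) (ht : t ∈ V), Spec.map (S.presheaf.germ V t ht) ≫ hV.fromSpec = S.fromSpecStalk t :=
    fun t ht => hV.fromSpecStalk_eq_fromSpecStalk ht
  simp only [Spec.map_comp, Category.assoc]
  rw [k1]
  rw [Scheme.SpecMap_stalkMap_fromSpecStalk]
  rw [← Category.assoc, Scheme.SpecMap_stalkMap_fromSpecStalk, Category.assoc]
  have k2 : (f.fiber s).fromSpecStalk w ≫ f.fiberToSpecResidueField s =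
      Spec.map (CommRingCat.ofHom (Curv2.stalkMap (S.residueField s) (f.fiber s) w)) :=
    Groth.VarietyBC.fromSpecStalk_str (k := S.residueField s) w
  refine Eq.trans ?_ (congrArg (· ≫ (Spec.map (S.evaluation V s hs) ≫ hV.fromSpec)) k2)
  rw [Scheme.evaluation, Spec.map_comp, Category.assoc, Category.assoc, k1]
  exact congrArg ((f.fiber s).fromSpecStalk w ≫ ·) pullback.condition

include hV hU in
/-- The local ring of the fibre, on a chart. -/
theorem isFibreLocal_toFibreStalk :
    letI := (f.appLE V U e).hom.toAlgebra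
    IsFibreLocal (R := Γ(S, V)) (S := Γ(X, U)) (k := S.residueField s)
      (A := (f.fiber s).presheaf.stalk w) (S.evaluation V s hs).hom (toFibreStalk f w hw).hom := by
  let := (f.appLE V U e).hom.toAlgebra
  let x := f.fiberι s w
  obtain ⟨hsurj, hker⟩ := Groth.Agent.S9501.result f s w
  let := X.presheaf.algebra_section_stalk (U := U) ⟨x, hw⟩
  have hloc : IsLocalization.AtPrime (X.presheaf.stalk x) (hU.primeIdealOf ⟨x, hw⟩).asIdeal :=
    hU.isLocalization_stalk ⟨x, hw⟩
  have hcomm := appLE_toFibreStalk f hV e hs w hw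
  refine ⟨fun r => ?_, fun a => ?_, fun z hz => ?_, fun c => ?_⟩
  · exact congrArg (fun φ => φ.hom r) hcomm
  · obtain ⟨a, rfl⟩ := hsurj a
    obtain ⟨c, b, rfl⟩ := IsLocalization.exists_mk'_eq (hU.primeIdealOf ⟨x, hw⟩).asIdeal.primeCompl a
    refine ⟨b, c, (IsLocalization.map_units (X.presheaf.stalk x) b).map ((f.fiberι s).stalkMap w).hom, ?_⟩
    show (f.fiberι s).stalkMap w _ * (f.fiberι s).stalkMap w (X.presheaf.germ U x hw b) =
      (f.fiberι s).stalkMap w (X.presheaf.germ U x hw c)
    rw [← map_mul]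
    exact congrArg _ (IsLocalization.mk'_spec (X.presheaf.stalk x) c b)
  · have hz' : X.presheaf.germ U x hw z ∈ (maximalIdeal (S.presheaf.stalk (f x))).map (f.stalkMap x).hom :=
      hker.le hz
    have hxV : f x ∈ V := e hw
    let := S.presheaf.algebra_section_stalk (U := V) ⟨f x, hxV⟩
    have hlocS : IsLocalization.AtPrime (S.presheaf.stalk (f x)) (hV.primeIdealOf ⟨f x, hxV⟩).asIdeal :=
      hV.isLocalization_stalk ⟨f x, hxV⟩
    rw [← IsLocalization.AtPrime.map_eq_maximalIdeal (hV.primeIdealOf ⟨f x, hxV⟩).asIdeal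
      (S.presheaf.stalk (f x)), Ideal.map_map] at hz'
    have hp : (hV.primeIdealOf ⟨f x, hxV⟩).asIdeal ≤ RingHom.ker (S.evaluation V s hs).hom := by
      intro r hr
      have hr1 : ¬ IsUnit ((toFibreStalk f w hw).hom (f.appLE V U e r)) := by
        intro hu
        have h1 : algebraMap Γ(S, V) (S.presheaf.stalk (f x)) r ∈ maximalIdeal _ :=
          (IsLocalization.AtPrime.to_map_mem_maximal_iff _ (hV.primeIdealOf ⟨f x, hxV⟩).asIdeal r).2 hr
        refine (mem_maximalIdeal _).1 h1 ?_
        have : IsLocalHom ((f.fiberι s).stalkMap w).hom := inferInstance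
        have h2 : IsUnit (X.presheaf.germ U x hw (f.appLE V U e r)) := isUnit_of_map_unit ((f.fiberι s).stalkMap w).hom _ hu
        have h3 : X.presheaf.germ U x hw (f.appLE V U e r) =
            f.stalkMap x (S.presheaf.germ V (f x) hxV r) := by
          rw [Scheme.Hom.germ_stalkMap_apply, Scheme.Hom.appLE, CommRingCat.comp_apply]
          exact TopCat.Presheaf.germ_res_apply _ _ _ _ _
        rw [h3] at h2
        exact isUnit_of_map_unit (f.stalkMap x).hom _ h2
      rw [RingHom.mem_ker]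
      by_contra h0
      refine hr1 ?_
      rw [show (toFibreStalk f w hw).hom (f.appLE V U e r) =
        Curv2.stalkMap (S.residueField s) (f.fiber s) w (S.evaluation V s hs r) from
          congrArg (fun φ => φ.hom r) hcomm]
      exact (Ne.isUnit h0).map _
    have hcomp : ((f.stalkMap x).hom.comp (algebraMap Γ(S, V) (S.presheaf.stalk (f x)))) =
        (algebraMap Γ(X, U) (X.presheaf.stalk x)).comp (f.appLE V U e).hom := by
      refine RingHom.ext fun r => ?_
      show f.stalkMap x (S.presheaf.germ V (f x) hxV r) = X.presheaf.germ U x hw (f.appLE V U e r)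
      rw [Scheme.Hom.germ_stalkMap_apply, Scheme.Hom.appLE, CommRingCat.comp_apply]
      exact (TopCat.Presheaf.germ_res_apply _ _ _ _ _).symm
    rw [hcomp, ← Ideal.map_map] at hz'
    change algebraMap Γ(X, U) (X.presheaf.stalk x) z ∈ _ at hz'
    rw [IsLocalization.algebraMap_mem_map_algebraMap_iff
      (hU.primeIdealOf ⟨x, hw⟩).asIdeal.primeCompl] at hz'
    obtain ⟨m, hm, hmz⟩ := hz'
    exact ⟨m, (IsLocalization.map_units (X.presheaf.stalk x)
      (⟨m, hm⟩ : (hU.primeIdealOf ⟨x, hw⟩).asIdeal.primeCompl)).map ((f.fiberι s).stalkMap w).hom, Ideal.map_mono hp hmz⟩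
  · let := S.presheaf.algebra_section_stalk (U := V) ⟨s, hs⟩
    have hlocS : IsLocalization.AtPrime (S.presheaf.stalk s) (hV.primeIdealOf ⟨s, hs⟩).asIdeal :=
      hV.isLocalization_stalk ⟨s, hs⟩
    obtain ⟨c, rfl⟩ := S.residue_surjective s c
    obtain ⟨r, r', rfl⟩ := IsLocalization.exists_mk'_eq (hV.primeIdealOf ⟨s, hs⟩).asIdeal.primeCompl c
    refine ⟨r, r', ((IsLocalization.map_units (S.presheaf.stalk s) r').map (S.residue s).hom).ne_zero, ?_⟩
    show S.residue s _ * S.residue s (algebraMap Γ(S, V) (S.presheaf.stalk s) r') =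
      S.residue s (algebraMap Γ(S, V) (S.presheaf.stalk s) r)
    rw [← map_mul, IsLocalization.mk'_spec]

theorem isFibreNode_iff_isNodeRing :
    IsFibreNode f s w ↔ IsNodeRing (S.residueField s) ((f.fiber s).presheaf.stalk w) := Iff.rfl

/-- Near a node of a fibre, all points are smooth points of relative dimension one or nodes of their
fibres. -/
theorem exists_node_nhd [Flat f] [LocallyOfFinitePresentation f] (x : X)
    (hx : IsFibreNode f (f x) (f.asFiber x)) :
    ∃ W : X.Opens, x ∈ W ∧ ∀ y ∈ W, IsSmoothOneAt f y ∨ IsFibreNode f (f y) (f.asFiber y) := by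
  classical
  obtain ⟨_, ⟨V, hV : IsAffineOpen V, rfl⟩, hxV, -⟩ :=
    S.isBasis_affineOpens.exists_subset_of_mem_open (Set.mem_univ (f x)) isOpen_univ
  obtain ⟨_, ⟨U, hU : IsAffineOpen U, rfl⟩, hxU, e⟩ :=
    X.isBasis_affineOpens.exists_subset_of_mem_open (show x ∈ (f ⁻¹ᵁ V : Set X) from hxV) (f ⁻¹ᵁ V).2
  replace e : U ≤ f ⁻¹ᵁ V := e
  let := (f.appLE V U e).hom.toAlgebra
  have : Module.Flat Γ(S, V) Γ(X, U) := f.flat_appLE hV hU e
  have : Algebra.FinitePresentation Γ(S, V) Γ(X, U) :=
    f.finitePresentation_appLE hV hU e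
  have hw : f.fiberι (f x) (f.asFiber x) ∈ U := by rwa [f.fiberι_asFiber]
  have hlft : ∀ t : S, LocallyOfFiniteType ((f.fiber t) ↘ (Spec (CommRingCat.of (S.residueField t)))) :=
    fun t => inferInstanceAs (LocallyOfFiniteType (pullback.snd f (S.fromSpecResidueField t)))
  have hnoeth : ∀ (t : S) (v : f.fiber t), IsNoetherianRing ((f.fiber t).presheaf.stalk v) :=
    fun t v => have := hlft t; isNoetherianRing_stalk (k := S.residueField t) v
  obtain ⟨W, hWopen, ⟨z, hzW, hz⟩, hW⟩ := exists_node_nhds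
    (isFibreLocal_toFibreStalk f hV hU e hxV _ hw) ((isFibreNode_iff_isNodeRing f _).1 hx)
  have hprime : ∀ (t : S) (v : f.fiber t) (hv : f.fiberι t v ∈ U),
      (maximalIdeal ((f.fiber t).presheaf.stalk v)).comap (toFibreStalk f v hv).hom =
        (hU.primeIdealOf ⟨_, hv⟩).asIdeal := by
    intro t v hv
    rw [hU.primeIdealOf_eq_map_closedPoint]
    show Ideal.comap _ _ = Ideal.comap _ _
    rw [toFibreStalk, CommRingCat.hom_comp, ← Ideal.comap_comap]
    congr 1
    have : IsLocalHom ((f.fiberι t).stalkMap v).hom := inferInstance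
    exact ((local_hom_TFAE ((f.fiberι t).stalkMap v).hom).out 0 4).1 this
  refine ⟨hU.fromSpec ''ᵁ ⟨W, hWopen⟩, ⟨z, hzW, ?_⟩, fun y hy => ?_⟩
  · have h1 : z = hU.primeIdealOf ⟨_, hw⟩ := PrimeSpectrum.ext (hz.trans (hprime _ _ hw))
    rw [h1]
    exact (hU.fromSpec_primeIdealOf ⟨_, hw⟩).trans (f.fiberι_asFiber x)
  · obtain ⟨z', hz'W, rfl⟩ := hy
    have hyU : hU.fromSpec z' ∈ U := hU.range_fromSpec.le ⟨z', rfl⟩
    have hz' : z' = hU.primeIdealOf ⟨hU.fromSpec z', hyU⟩ :=
      hU.isOpenImmersion_fromSpec.base_open.injective (hU.fromSpec_primeIdealOf ⟨_, hyU⟩).symm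
    rcases hW z' hz'W with ⟨f₀, hf₀, hstd⟩ | hnode
    · left
      have hyD : hU.fromSpec z' ∈ X.basicOpen f₀ := by
        have h1 : z' ∈ hU.fromSpec ⁻¹ᵁ X.basicOpen f₀ := by
          rw [hU.fromSpec_preimage_basicOpen]; exact hf₀
        exact h1
      refine ⟨V, hV, X.basicOpen f₀, hU.basicOpen f₀, hyD, (X.basicOpen_le f₀).trans e, ?_⟩
      let := (f.appLE V (X.basicOpen f₀) ((X.basicOpen_le f₀).trans e)).hom.toAlgebra
      have : IsScalarTower Γ(S, V) Γ(X, U) Γ(X, X.basicOpen f₀) :=
        IsScalarTower.of_algebraMap_eq fun r => by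
          show f.appLE V (X.basicOpen f₀) _ r = X.presheaf.map _ (f.appLE V U e r)
          rw [← CommRingCat.comp_apply, Scheme.Hom.appLE_map]
      have : IsLocalization.Away f₀ Γ(X, X.basicOpen f₀) := hU.isLocalization_basicOpen f₀
      show Algebra.IsStandardSmoothOfRelativeDimension 1 Γ(S, V) Γ(X, X.basicOpen f₀)
      exact Algebra.IsStandardSmoothOfRelativeDimension.of_algEquiv 1
        ((Localization.algEquiv (Submonoid.powers f₀) Γ(X, X.basicOpen f₀)).restrictScalars Γ(S, V))
    · right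
      set y := hU.fromSpec z'
      have hv : f.fiberι (f y) (f.asFiber y) ∈ U := by rwa [f.fiberι_asFiber]
      have : IsNoetherianRing ((f.fiber (f y)).presheaf.stalk (f.asFiber y)) := hnoeth _ _
      refine (isFibreNode_iff_isNodeRing f _).2 (hnode _ _ _ _
        (isFibreLocal_toFibreStalk f hV hU e (e hyU) _ hv) ?_)
      refine Eq.trans ?_ (hprime _ _ hv).symm
      rw [hz']
      exact congrArg (fun v => (hU.primeIdealOf v).asIdeal) (Subtype.ext (f.fiberι_asFiber y).symm)

/-- The set of points which are smooth of relative dimension one or nodes of their fibres is open. -/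
theorem isOpen_smoothOne_or_node [Flat f] [LocallyOfFinitePresentation f] :
    IsOpen {y : X | IsSmoothOneAt f y ∨ IsFibreNode f (f y) (f.asFiber y)} := by
  refine isOpen_iff_forall_mem_open.2 fun x hx => ?_
  rcases hx with ⟨V, hV, U, hU, hxU, e, h⟩ | hx
  · exact ⟨U, fun y hy => Or.inl ⟨V, hV, U, hU, hy, e, h⟩, U.2, hxU⟩
  · obtain ⟨W, hxW, hW⟩ := exists_node_nhd f x hx
    exact ⟨W, hW, W.2, hxW⟩

end Groth.Curves1.Node
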