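import Mathlib
import Groth.Agent.Curves1.Node.NodalOpen
import Groth.Agent.Curves1.Node.NodalBC
import Groth.Agent.PropsBasic2.SmoothNhd

/-!
# Openness of the smooth-or-node locus, and of the locus of nodal fibres
-/

namespace Groth.Curves1.Node

open CategoryTheory CategoryTheory.Limits AlgebraicGeometry IsLocalRing

universe u

variable {X S : Scheme.{u}} (f : X ⟶ S)

theorem fiberι_apply_fst (s : S) (w : f.fiber s) : f (f.fiberι s w) = s := by
  have h : (⟨f.fiberι s w⟩ : PLift X).down ∈ Set.range (f.fiberι s) := ⟨w, rfl⟩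
  rw [Scheme.Hom.range_fiberι] at h
  exact h

theorem asFiber_fiberι (s : S) (w : f.fiber s) :
    f.fiberι _ (f.asFiber (f.fiberι s w)) = f.fiberι s w := f.fiberι_asFiber _

theorem isFibreNode_fiberι_iff (s : S) (w : f.fiber s) :
    IsFibreNode f (f (f.fiberι s w)) (f.asFiber (f.fiberι s w)) ↔ IsFibreNode f s w :=
  isFibreNode_congr f _ w (fiberι_apply_fst f s w) (asFiber_fiberι f s w)

theorem lfp_fiberToSpec [LocallyOfFinitePresentation f] (s : S) :
    LocallyOfFinitePresentation (f.fiberToSpecResidueField s) :=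
  MorphismProperty.pullback_snd (P := @LocallyOfFinitePresentation) _ _ inferInstance

attribute [local instance] lfp_fiberToSpec

theorem mem_fibre_smoothLocus_congr {s s' : S} [LocallyOfFinitePresentation f] (w : f.fiber s)
    (w' : f.fiber s') (hs : s = s') (h : f.fiberι s w = f.fiberι s' w') :
    w ∈ (f.fiberToSpecResidueField s).smoothLocus ↔ w' ∈ (f.fiberToSpecResidueField s').smoothLocus := by
  subst hs
  rw [(f.fiberι s).isEmbedding.injective h]

set_option backward.isDefEq.respectTransparency.types false in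
/-- For a flat morphism, smoothness is checked on the fibres. -/
theorem mem_fibre_smoothLocus_iff [Flat f] [LocallyOfFinitePresentation f] (s : S) (w : f.fiber s) :
    w ∈ (f.fiberToSpecResidueField s).smoothLocus ↔ f.fiberι s w ∈ f.smoothLocus := by
  rw [mem_fibre_smoothLocus_congr f w (f.asFiber (f.fiberι s w)) (fiberι_apply_fst f s w).symm
    (asFiber_fiberι f s w).symm]
  set y := f.fiberι s w
  have : LocallyOfFinitePresentation (f.fiberToSpecResidueField (f y)) :=
    MorphismProperty.pullback_snd (P := @LocallyOfFinitePresentation) _ _ inferInstance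
  refine ⟨fun h => Groth.PropsBasic.Loci.mem_smoothLocus_of_fiber (Flat.stalkMap f y) h, fun hy => ?_⟩
  exact Groth.PropsBasic.Loci.preimage_smoothLocus_le
    (CategoryTheory.IsPullback.of_hasPullback f (S.fromSpecResidueField (f y)))
    (show f.fiberι (f y) (f.asFiber y) ∈ f.smoothLocus by rw [f.fiberι_asFiber]; exact hy)

theorem IsSmoothOneAt.mem_smoothLocus [LocallyOfFinitePresentation f] {y : X} (h : IsSmoothOneAt f y) :
    y ∈ f.smoothLocus := by
  obtain ⟨V, hV, U, hU, hyU, e, h⟩ := h
  rw [← exists_smooth_nhd_iff f y, Groth.PropsBasic2.smooth_nhd_iff f y V hV (e hyU)]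
  exact ⟨U, hU, hyU, e, h.isStandardSmooth⟩

/-- The points which are smooth or nodes of their fibres. -/
def goodSet [LocallyOfFinitePresentation f] : Set X :=
  {y | y ∈ f.smoothLocus ∨ IsFibreNode f (f y) (f.asFiber y)}

theorem isOpen_goodSet [Flat f] [LocallyOfFinitePresentation f] : IsOpen (goodSet f) := by
  have h : goodSet f = (f.smoothLocus : Set X) ∪
      {y | IsSmoothOneAt f y ∨ IsFibreNode f (f y) (f.asFiber y)} := by
    ext y
    constructor
    · rintro (h | h)
      exacts [Or.inl h, Or.inr (Or.inr h)]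
    · rintro (h | h | h)
      exacts [Or.inl h, Or.inl (h.mem_smoothLocus f), Or.inr h]
  rw [h]
  exact f.smoothLocus.2.union (isOpen_smoothOne_or_node f)

/-- A fibre is at-worst-nodal iff it lies in the good set. -/
theorem atWorstNodal_fibre_iff [Flat f] [LocallyOfFinitePresentation f] (s : S) :
    @Curv2.AtWorstNodal (S.residueField s) _ (f.fiber s) ⟨f.fiberToSpecResidueField s⟩ ↔
      ∀ w : f.fiber s, f.fiberι s w ∈ goodSet f := by
  let : (f.fiber s).Over (Spec (CommRingCat.of (S.residueField s))) := ⟨f.fiberToSpecResidueField s⟩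
  have : LocallyOfFinitePresentation ((f.fiber s) ↘ (Spec (CommRingCat.of (S.residueField s)))) :=
    MorphismProperty.pullback_snd (P := @LocallyOfFinitePresentation) _ _ inferInstance
  have key : ∀ w : f.fiber s, ((∃ U : (f.fiber s).Opens, w ∈ U ∧
      Smooth (U.ι ≫ ((f.fiber s) ↘ Spec (CommRingCat.of (S.residueField s))))) ∨
      Curv2.IsNode (S.residueField s) (f.fiber s) w) ↔ f.fiberι s w ∈ goodSet f := fun w => by
    rw [exists_smooth_nhd_iff, isNode_iff_isNodeStalk]
    exact or_congr (mem_fibre_smoothLocus_iff f s w) (isFibreNode_fiberι_iff f s w).symm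
  refine ⟨fun h w => ?_, fun h w _ => (key w).2 (h w)⟩
  obtain ⟨w₀, hww₀, hw₀⟩ := exists_closed_specialization (k := S.residueField s) w
  exact (hww₀.map (f.fiberι s).continuous).mem_open (isOpen_goodSet f) ((key w₀).1 (h w₀ hw₀))

/-- Over a flat proper morphism the locus of at-worst-nodal fibres is open. -/
theorem isOpen_atWorstNodal [IsProper f] [Flat f] [LocallyOfFinitePresentation f] :
    IsOpen {s : S | letI : (f.fiber s).Over (Spec (CommRingCat.of (S.residueField s))) :=
      ⟨f.fiberToSpecResidueField s⟩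
      Curv2.AtWorstNodal (S.residueField s) (f.fiber s)} := by
  rw [← isClosed_compl_iff]
  convert f.isClosedMap _ (isOpen_goodSet f).isClosed_compl using 1
  ext s
  refine Iff.trans (not_congr (atWorstNodal_fibre_iff f s)) ?_
  rw [not_forall]
  constructor
  · rintro ⟨w, hw⟩
    exact ⟨_, hw, fiberι_apply_fst f s w⟩
  · rintro ⟨y, hy, rfl⟩
    exact ⟨f.asFiber y, by rwa [f.fiberι_asFiber]⟩

end Groth.Curves1.Node
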