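import Mathlib
import Groth.Agent.Curves1.Node.NodalLocus
import Groth.Agent.FibreDim.Smooth
import Groth.Agent.VarietyBC.Dim

/-!
# The largest open on which a family is at-worst-nodal of relative dimension one
-/

namespace Groth.Curves1.Node

open CategoryTheory CategoryTheory.Limits AlgebraicGeometry IsLocalRing

universe u

attribute [local instance] lfp_fiberToSpec

variable {X S : Scheme.{u}} (f : X ⟶ S)

/-- The points at which `f` is smooth of relative dimension one or which are nodes of their fibres. -/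
def nodalSet : Set X := {y | IsSmoothOneAt f y ∨ IsFibreNode f (f y) (f.asFiber y)}

/-- The largest open on which a flat family is at-worst-nodal of relative dimension one. -/
def nodalOpen [Flat f] [LocallyOfFinitePresentation f] : X.Opens :=
  ⟨nodalSet f, isOpen_smoothOne_or_node f⟩

theorem fibreDimAt_eq_one_of_isFibreNode [LocallyOfFiniteType f] {s : S} {w : f.fiber s}
    (h : IsFibreNode f s w) : FlatMor.fibreDimAt f (f.fiberι s w) = 1 := by
  let : (f.fiber s).Over (Spec (CommRingCat.of (S.residueField s))) := ⟨f.fiberToSpecResidueField s⟩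
  have : LocallyOfFiniteType ((f.fiber s) ↘ (Spec (CommRingCat.of (S.residueField s)))) :=
    inferInstanceAs (LocallyOfFiniteType (pullback.snd f (S.fromSpecResidueField s)))
  let := Curv2.stalkAlgebra (S.residueField s) (f.fiber s) w
  have := isNoetherianRing_stalk (k := S.residueField s) w
  have hcl : IsClosed ({w} : Set (f.fiber s)) :=
    isClosed_of_isSeparable_residueField (k := S.residueField s) w h.1
  rw [Groth.FibreDim.fibreDimAt_fiberι, Groth.VarietyBC.localDim_eq_height_add (S.residueField s) w,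
    (Groth.Variety2.Dim.height_eq_zero_iff w).2 hcl,
    (((isFibreNode_iff_isNodeRing f w).1 h).ci).2]
  exact zero_add _

theorem fibreDimAt_of_standardSmooth [LocallyOfFiniteType f] {V : S.Opens} (hV : IsAffineOpen V)
    {U : X.Opens} (hU : IsAffineOpen U) (e : U ≤ f ⁻¹ᵁ V) {n : ℕ}
    (h : (f.appLE V U e).hom.IsStandardSmoothOfRelativeDimension n) {y : X} (hyU : y ∈ U) :
    FlatMor.fibreDimAt f y = (n : WithBot ℕ∞) := by
  obtain ⟨g, hg, het⟩ := h.exists_etale_mvPolynomial
  obtain ⟨z, rfl⟩ : y ∈ Set.range hU.fromSpec.base := hU.range_fromSpec.ge hyU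
  rw [← Groth.FibreDim.fibreDimAt_openImmersion_comp hU.fromSpec f, ← hV.SpecMap_appLE_fromSpec f hU e,
    Groth.FibreDim.fibreDimAt_comp_injective _ _ hV.fromSpec.isOpenEmbedding.injective]
  let g' : CommRingCat.of (MvPolynomial (Fin n) Γ(S, V)) ⟶ Γ(X, U) := CommRingCat.ofHom g
  let C' : Γ(S, V) ⟶ CommRingCat.of (MvPolynomial (Fin n) Γ(S, V)) :=
    CommRingCat.ofHom (algebraMap Γ(S, V) (MvPolynomial (Fin n) Γ(S, V)))
  have hcomp : f.appLE V U e = C' ≫ g' := CommRingCat.hom_ext hg.symm
  have : Etale (Spec.map g') := (HasRingHomProperty.Spec_iff (P := @Etale)).mpr het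
  have : LocallyQuasiFinite (Spec.map g') := Groth.DescentBase.locallyQuasiFinite_of_etale _
  have : LocallyOfFiniteType (Spec.map C') :=
    (HasRingHomProperty.Spec_iff (P := @LocallyOfFiniteType)).mpr
      (RingHom.finiteType_algebraMap.mpr inferInstance)
  rw [hcomp, Spec.map_comp, (Groth.FibreDim.fibreDimAt_comp (Spec.map g') (Spec.map C') z).2
    (Groth.FibreDim.generalizing_of_flat_stalkMap _ z (Flat.stalkMap _ z)),
    Groth.FibreDim.fibreDimAt_eq_zero_of_locallyQuasiFinite, Groth.FibreDim.fibreDimAt_spec_mvPolynomial,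
    zero_add]

theorem IsSmoothOneAt.fibreDimAt_eq [LocallyOfFiniteType f] {y : X} (h : IsSmoothOneAt f y) :
    FlatMor.fibreDimAt f y = 1 := by
  obtain ⟨V, hV, U, hU, hyU, e, h⟩ := h
  exact (fibreDimAt_of_standardSmooth f hV hU e h hyU).trans Nat.cast_one

theorem isSmoothOneAt_iff [LocallyOfFinitePresentation f] (y : X) :
    IsSmoothOneAt f y ↔ y ∈ f.smoothLocus ∧ FlatMor.fibreDimAt f y = 1 := by
  refine ⟨fun h => ⟨h.mem_smoothLocus f, h.fibreDimAt_eq f⟩, fun ⟨h1, h2⟩ => ?_⟩
  obtain ⟨_, ⟨V, hV : IsAffineOpen V, rfl⟩, hyV, -⟩ :=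
    S.isBasis_affineOpens.exists_subset_of_mem_open (Set.mem_univ (f y)) isOpen_univ
  rw [← exists_smooth_nhd_iff f y, Groth.PropsBasic2.smooth_nhd_iff f y V hV hyV] at h1
  obtain ⟨U, hU, hyU, e, h⟩ := h1
  let := (f.appLE V U e).hom.toAlgebra
  have : Algebra.IsStandardSmooth Γ(S, V) Γ(X, U) := h
  obtain ⟨_, _, _, _, ⟨P⟩⟩ := Algebra.IsStandardSmooth.out (R := Γ(S, V)) (S := Γ(X, U))
  have hP : (f.appLE V U e).hom.IsStandardSmoothOfRelativeDimension P.dimension :=
    P.isStandardSmoothOfRelativeDimension rfl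
  suffices hd : P.dimension = 1 from ⟨V, hV, U, hU, hyU, e, hd ▸ hP⟩
  rw [fibreDimAt_of_standardSmooth f hV hU e hP hyU] at h2
  exact_mod_cast h2

theorem mem_nodalSet_iff [Flat f] [LocallyOfFinitePresentation f] (y : X) :
    y ∈ nodalSet f ↔ y ∈ goodSet f ∧ FlatMor.fibreDimAt f y = 1 := by
  constructor
  · rintro (h | h)
    · exact ⟨Or.inl (h.mem_smoothLocus f), h.fibreDimAt_eq f⟩
    · refine ⟨Or.inr h, ?_⟩
      have := fibreDimAt_eq_one_of_isFibreNode f h
      rwa [f.fiberι_asFiber] at this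
  · rintro ⟨h | h, hd⟩
    exacts [Or.inl ((isSmoothOneAt_iff f y).2 ⟨h, hd⟩), Or.inr h]

theorem isNodalFamily_iff_nodalSet [Flat f] [LocallyOfFinitePresentation f] :
    Curv2.IsNodalFamily f ↔ ∀ y, y ∈ nodalSet f := by
  constructor
  · intro h y
    obtain ⟨hdim, hnod⟩ := h.2.2 (f y)
    rw [mem_nodalSet_iff]
    refine ⟨?_, ?_⟩
    · have := (atWorstNodal_fibre_iff f (f y)).1 hnod (f.asFiber y)
      rwa [f.fiberι_asFiber] at this
    · have : LocallyOfFiniteType (f.fiberToSpecResidueField (f y)) :=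
        inferInstanceAs (LocallyOfFiniteType (pullback.snd f (S.fromSpecResidueField (f y))))
      have h1 := Groth.FibreDim.forall_component_dim_eq_iff (k := S.residueField (f y))
        (f.fiberToSpecResidueField (f y)) 1
      rw [Nat.cast_one] at h1
      exact h1.1 hdim (f.asFiber y)
  · intro h
    refine ⟨inferInstance, inferInstance, fun s => ⟨?_, (atWorstNodal_fibre_iff f s).2 fun w =>
      ((mem_nodalSet_iff f _).1 (h _)).1⟩⟩
    have : LocallyOfFiniteType (f.fiberToSpecResidueField s) :=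
      inferInstanceAs (LocallyOfFiniteType (pullback.snd f (S.fromSpecResidueField s)))
    have h1 := Groth.FibreDim.forall_component_dim_eq_iff (k := S.residueField s)
      (f.fiberToSpecResidueField s) 1
    rw [Nat.cast_one] at h1
    refine h1.2 fun w => ?_
    rw [← Groth.FibreDim.fibreDimAt_fiberι]
    exact ((mem_nodalSet_iff f _).1 (h _)).2

theorem isFibreNode_openImmersion_comp {W : Scheme.{u}} (j : W ⟶ X) [IsOpenImmersion j]
    [LocallyOfFiniteType f] (y : W) :
    IsFibreNode (j ≫ f) ((j ≫ f) y) ((j ≫ f).asFiber y) ↔ IsFibreNode f (f (j y)) (f.asFiber (j y)) := by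
  let s := f (j y)
  let w : (j ≫ f).fiber s := (j ≫ f).asFiber y
  let : (f.fiber s).Over (Spec (CommRingCat.of (S.residueField s))) := ⟨f.fiberToSpecResidueField s⟩
  let : ((j ≫ f).fiber s).Over (Spec (CommRingCat.of (S.residueField s))) :=
    ⟨(j ≫ f).fiberToSpecResidueField s⟩
  have : LocallyOfFiniteType ((f.fiber s) ↘ (Spec (CommRingCat.of (S.residueField s)))) :=
    inferInstanceAs (LocallyOfFiniteType (pullback.snd f (S.fromSpecResidueField s)))
  have := etale_fibreMapSource j f s
  have h1 : f.fiberι s (fibreMapSource j f s w) = f.fiberι (f (j y)) (f.asFiber (j y)) := by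
    rw [f.fiberι_asFiber, ← Scheme.Hom.comp_apply]
    have : fibreMapSource j f s ≫ f.fiberι s = (j ≫ f).fiberι s ≫ j := by
      rw [fibreMapSource, Category.assoc]
      show _ ≫ pullback.snd j _ ≫ pullback.fst f _ = _
      rw [← pullback.condition, ← Category.assoc]
      exact congrArg (· ≫ j) (pullbackRightPullbackFstIso_inv_fst _ _ _)
    rw [this, Scheme.Hom.comp_apply]
    exact congrArg j ((j ≫ f).fiberι_asFiber y)
  refine Iff.trans ?_ (isFibreNode_congr f (fibreMapSource j f s w) (f.asFiber (j y)) rfl h1)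
  show IsNodeStalk (S.residueField s) _ w ↔ IsNodeStalk (S.residueField s) _ _
  exact (isNodeStalk_iff_of_etale (k := S.residueField s) (fibreMapSource j f s)
    (fibreMapSource_snd j f s) w).symm

theorem mem_nodalSet_comp_iff {W : Scheme.{u}} (j : W ⟶ X) [IsOpenImmersion j] [Flat f]
    [LocallyOfFinitePresentation f] (y : W) : y ∈ nodalSet (j ≫ f) ↔ j y ∈ nodalSet f := by
  rw [mem_nodalSet_iff, mem_nodalSet_iff, Groth.FibreDim.fibreDimAt_openImmersion_comp j f]
  refine and_congr (or_congr ?_ (isFibreNode_openImmersion_comp f j y)) Iff.rfl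
  rw [← Scheme.Hom.preimage_smoothLocus_eq]
  rfl

/-- `nodalOpen f` is the largest open on which `f` is a nodal family. -/
theorem nodalOpen_spec [Flat f] [LocallyOfFinitePresentation f] :
    Curv2.IsNodalFamily ((nodalOpen f).ι ≫ f) ∧
      ∀ V : X.Opens, Curv2.IsNodalFamily (V.ι ≫ f) → V ≤ nodalOpen f := by
  constructor
  · exact (isNodalFamily_iff_nodalSet _).2 fun y => (mem_nodalSet_comp_iff f _ y).2 y.2
  · intro V hV y hy
    exact (mem_nodalSet_comp_iff f V.ι ⟨y, hy⟩).1 ((isNodalFamily_iff_nodalSet _).1 hV _)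

/-- The map on fibres of a base change, with its projection. -/
theorem exists_fibre_isPullback' {X' S' : Scheme.{u}} (g : S' ⟶ S) (f' : X' ⟶ S')
    (g' : X' ⟶ X) (hc : IsPullback g' f' f g) (y' : S') :
    ∃ q : f'.fiber y' ⟶ f.fiber (g y'), q ≫ f.fiberι (g y') = f'.fiberι y' ≫ g' ∧
      IsPullback q (f'.fiberToSpecResidueField y')
        (f.fiberToSpecResidueField (g y')) (Spec.map (g.residueFieldMap y')) := by
  let q : f'.fiber y' ⟶ f.fiber (g y') := pullback.lift (f'.fiberι y' ≫ g')
    (f'.fiberToSpecResidueField y' ≫ Spec.map (g.residueFieldMap y')) (by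
      rw [Category.assoc, hc.w, Category.assoc, Scheme.Hom.SpecMap_residueFieldMap_fromSpecResidueField]
      exact pullback.condition_assoc g)
  have hq1 : q ≫ f.fiberι (g y') = f'.fiberι y' ≫ g' := pullback.lift_fst _ _ _
  have hbig : IsPullback (f'.fiberι y' ≫ g') (f'.fiberToSpecResidueField y') f
      (S'.fromSpecResidueField y' ≫ g) :=
    IsPullback.paste_horiz (IsPullback.of_hasPullback f' (S'.fromSpecResidueField y')) hc
  rw [← Scheme.Hom.SpecMap_residueFieldMap_fromSpecResidueField, ← hq1] at hbig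
  exact ⟨q, hq1, hbig.of_right (pullback.lift_snd _ _ _)
    (IsPullback.of_hasPullback f (S.fromSpecResidueField (g y')))⟩

/-- Formation of the nodal locus commutes with base change. -/
theorem mem_nodalSet_baseChange {X' S' : Scheme.{u}} (g : S' ⟶ S) (f' : X' ⟶ S') (g' : X' ⟶ X)
    (hc : IsPullback g' f' f g) [Flat f] [LocallyOfFinitePresentation f] [Flat f']
    [LocallyOfFinitePresentation f'] (y : X') : y ∈ nodalSet f' ↔ g' y ∈ nodalSet f := by
  rw [mem_nodalSet_iff, mem_nodalSet_iff, Groth.FibreDim.fibreDimAt_baseChange f g f' g' hc y]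
  refine and_congr ?_ Iff.rfl
  set s' := f' y
  obtain ⟨q, hqfst, hq⟩ := exists_fibre_isPullback' f g f' g' hc s'
  let w' : f'.fiber s' := f'.asFiber y
  have hqι : f.fiberι (g s') (q w') = g' y := by
    have h0 := hc
    have h1 : f.fiberι (g s') (q w') = g' (f'.fiberι s' w') := by
      show (q ≫ f.fiberι (g s')) w' = (f'.fiberι s' ≫ g') w'
      exact congrArg (fun φ : f'.fiber s' ⟶ X => φ w') hqfst
    rw [h1, f'.fiberι_asFiber]
  let : (f.fiber (g s')).Over (Spec (CommRingCat.of (S.residueField (g s')))) :=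
    ⟨f.fiberToSpecResidueField (g s')⟩
  let : (f'.fiber s').Over (Spec (CommRingCat.of (S'.residueField s'))) :=
    ⟨f'.fiberToSpecResidueField s'⟩
  let : Algebra (S.residueField (g s')) (S'.residueField s') := (g.residueFieldMap s').hom.toAlgebra
  have : LocallyOfFiniteType ((f.fiber (g s')) ↘ (Spec (CommRingCat.of (S.residueField (g s'))))) :=
    inferInstanceAs (LocallyOfFiniteType (pullback.snd f (S.fromSpecResidueField (g s'))))
  let : (Curv2.bc (S.residueField (g s')) (f.fiber (g s')) (S'.residueField s')).Over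
      (Spec (CommRingCat.of (S'.residueField s'))) :=
    ⟨Curv2.bcSnd (S.residueField (g s')) (f.fiber (g s')) (S'.residueField s')⟩
  have hq' : IsPullback q ((f'.fiber s') ↘ (Spec (CommRingCat.of (S'.residueField s'))))
      ((f.fiber (g s')) ↘ (Spec (CommRingCat.of (S.residueField (g s')))))
      (Spec.map (CommRingCat.ofHom (algebraMap (S.residueField (g s')) (S'.residueField s')))) := hq
  have hnode : IsFibreNode f' s' w' ↔ IsFibreNode f (g s') (q w') := by
    have h1 : Curv2.bcFst (S.residueField (g s')) (f.fiber (g s')) (S'.residueField s')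
        (hq'.isoPullback.hom w') = q w' := by
      show (hq'.isoPullback.hom ≫ pullback.fst _ _) w' = q w'
      exact congrArg (fun φ : f'.fiber s' ⟶ f.fiber (g s') => φ w') hq'.isoPullback_hom_fst
    show IsNodeStalk _ _ w' ↔ IsNodeStalk _ _ (q w')
    rw [← h1, isNodeStalk_bc_iff]
    have : LocallyOfFiniteType ((Curv2.bc (S.residueField (g s')) (f.fiber (g s')) (S'.residueField s')) ↘
        (Spec (CommRingCat.of (S'.residueField s')))) :=
      inferInstanceAs (LocallyOfFiniteType (Curv2.bcSnd _ _ _))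
    exact (isNodeStalk_iff_of_etale (k := S'.residueField s') hq'.isoPullback.hom
      (show _ ≫ Curv2.bcSnd _ _ _ = _ from hq'.isoPullback_hom_snd) w').symm
  refine or_congr ⟨fun h => ?_, fun h => Groth.PropsBasic.Loci.preimage_smoothLocus_le hc h⟩ ?_
  · rw [← hqι, ← mem_fibre_smoothLocus_iff]
    refine Groth.PropsBasic.Loci.mem_smoothLocus_of_flat hq ?_
    rw [mem_fibre_smoothLocus_iff, f'.fiberι_asFiber]
    exact h
  · rw [hnode, ← isFibreNode_fiberι_iff f (g s') (q w'), hqι]

end Groth.Curves1.Node
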