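import Mathlib
import Groth.Agent.Curves1.Node.NodeChart
import Groth.Agent.Misc3Fitt.Props

/-!
# The first Fitting ideal of the differentials and nodes

For `S` cut out by `n` equations in affine `(n + 1)`-space up to a factor `h`, the first Fitting
ideal of `Ω[S⁄R]` agrees with the ideal of maximal minors of the Jacobian matrix where `h` is
invertible. So nodes of the fibres are the points of unramifiedness of its closed subscheme.
-/

namespace Groth.Curves1.Node

open IsLocalRing MvPolynomial

universe u

variable {R S : Type u} [CommRing R] [CommRing S] [Algebra R S] {N : ℕ}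
  (φ : MvPolynomial (Fin N) R →ₐ[R] S)

/-- The gradient row of a polynomial, on the chart. -/
noncomputable def gradRow (f : MvPolynomial (Fin N) R) : Fin N → S := fun j => φ (pderiv j f)

theorem gradRow_mul (a b : MvPolynomial (Fin N) R) :
    gradRow φ (a * b) = φ a • gradRow φ b + φ b • gradRow φ a := by
  funext j
  simp [gradRow, mul_comm, add_comm]

theorem D_eq_sum (f : MvPolynomial (Fin N) R) :
    KaehlerDifferential.D R S (φ f) = ∑ j, φ (pderiv j f) • KaehlerDifferential.D R S (φ (X j)) := by
  induction f using MvPolynomial.induction_on with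
  | C r => simp [← MvPolynomial.algebraMap_eq]
  | add a b ha hb => simp [ha, hb, Finset.sum_add_distrib, add_smul]
  | mul_X a i ha =>
    rw [map_mul, Derivation.leibniz, ha]
    simp only [Derivation.leibniz, pderiv_X, map_add, map_mul, smul_eq_mul, add_smul,
      Finset.sum_add_distrib, Finset.smul_sum, smul_smul, Pi.single_apply, apply_ite φ, map_one,
      map_zero, mul_ite, mul_one, mul_zero, ite_smul, zero_smul, Finset.sum_ite_eq', Finset.sum_ite_eq,
      Finset.mem_univ, if_true, add_comm]

variable {φ}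

theorem span_D_eq_top (hφ : Function.Surjective φ) :
    Submodule.span S (Set.range fun j => KaehlerDifferential.D R S (φ (X j))) = ⊤ := by
  rw [eq_top_iff, ← KaehlerDifferential.span_range_derivation, Submodule.span_le]
  rintro _ ⟨s, rfl⟩
  obtain ⟨f, rfl⟩ := hφ s
  rw [SetLike.mem_coe, D_eq_sum]
  exact sum_mem fun j _ => Submodule.smul_mem _ _ (Submodule.subset_span ⟨j, rfl⟩)

/-- The relations between the differentials of the coordinates. -/
theorem rel_D_eq (hφ : Function.Surjective φ) :
    Groth.Misc3Fitt.rel (R := S) (fun j => KaehlerDifferential.D R S (φ (X j))) =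
      Submodule.span S (gradRow φ '' {f | φ f = 0}) := by
  set L := Submodule.span S (gradRow φ '' {f | φ f = 0})
  refine le_antisymm (fun c hc => ?_) (Submodule.span_le.2 ?_)
  · let Q := (Fin N → S) ⧸ L
    have hwd : ∀ f f', φ f = φ f' → L.mkQ (gradRow φ f) = L.mkQ (gradRow φ f') := by
      intro f f' h
      rw [Submodule.mkQ_apply, Submodule.mkQ_apply, Submodule.Quotient.eq]
      have : gradRow φ f - gradRow φ f' = gradRow φ (f - f') := by
        funext j; simp [gradRow]
      rw [this]
      exact Submodule.subset_span ⟨_, show φ (f - f') = 0 by rw [map_sub, h, sub_self], rfl⟩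
    choose sec hsec using hφ
    have hD : ∀ f, L.mkQ (gradRow φ (sec (φ f))) = L.mkQ (gradRow φ f) := fun f => hwd _ _ (hsec _)
    let lin : S →ₗ[R] Q :=
      { toFun := fun s => L.mkQ (gradRow φ (sec s))
        map_add' := fun s t => by
          rw [← map_add]
          refine (hwd _ (sec s + sec t) ?_).trans (congrArg L.mkQ ?_)
          · rw [hsec, map_add, hsec, hsec]
          · funext j; simp [gradRow]
        map_smul' := fun r s => by
          rw [RingHom.id_apply, ← LinearMap.map_smul_of_tower]
          refine (hwd _ (r • sec s) ?_).trans (congrArg L.mkQ ?_)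
          · rw [hsec, map_smul, hsec]
          · funext j; simp [gradRow] }
    let δ : Derivation R S Q := Derivation.mk' lin fun s t => by
      show L.mkQ _ = s • L.mkQ _ + t • L.mkQ _
      rw [← map_smul, ← map_smul, ← map_add]
      refine (hwd _ (sec s * sec t) ?_).trans (congrArg L.mkQ ?_)
      · rw [hsec, map_mul, hsec, hsec]
      · rw [gradRow_mul, hsec, hsec]
    rw [Groth.Misc3Fitt.mem_rel] at hc
    have h1 := congrArg δ.liftKaehlerDifferential hc
    simp only [map_sum, map_smul, Derivation.liftKaehlerDifferential_comp_D, map_zero] at h1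
    have h2 : ∀ j, δ (φ (X j)) = L.mkQ (Pi.single j 1) := fun j => by
      refine (hD (X j)).trans (congrArg L.mkQ ?_)
      funext i
      simp [gradRow, pderiv_X, Pi.single_apply, apply_ite φ, eq_comm]
    simp only [h2, ← map_smul, ← map_sum] at h1
    rw [Submodule.mkQ_apply, Submodule.Quotient.mk_eq_zero] at h1
    convert h1 using 1
    funext i
    simp [Finset.sum_apply, Pi.single_apply]
  · rintro _ ⟨f, hf, rfl⟩
    rw [SetLike.mem_coe, Groth.Misc3Fitt.mem_rel]
    show ∑ j, φ (pderiv j f) • _ = 0
    rw [← D_eq_sum, show φ f = 0 from hf, map_zero]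

variable {n : ℕ} {φ' : MvPolynomial (Fin (n + 1)) R →ₐ[R] S} (hφ : Function.Surjective φ')
  {g : Fin n → MvPolynomial (Fin (n + 1)) R} (hg : ∀ i, φ' (g i) = 0)

include hφ in
theorem fitting_eq_minors :
    Fitt.ideal S (Ω[S⁄R]) 1 =
      Groth.Misc3Fitt.minors (Submodule.span S (gradRow φ' '' {f | φ' f = 0})) n := by
  rw [Groth.Misc3Fitt.ideal_eq_fitt _ (span_D_eq_top hφ) 1, Groth.Misc3Fitt.fitt, rel_D_eq hφ,
    Nat.add_sub_cancel]

include hφ hg in
theorem jacMinors_map_le_fitting : (jacMinors g).map φ' ≤ Fitt.ideal S (Ω[S⁄R]) 1 := by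
  rw [fitting_eq_minors hφ, Ideal.map_le_iff_le_comap, jacMinors, Ideal.span_le]
  rintro _ ⟨γ, rfl⟩
  rw [SetLike.mem_coe, Ideal.mem_comap, AlgHom.map_det]
  exact Groth.Misc3Fitt.minor_mem (z := fun i => gradRow φ' (g i)) γ fun i =>
    Submodule.subset_span ⟨_, hg i, rfl⟩

include hφ hg in
theorem pow_mul_mem_of_mem_fitting {hh : MvPolynomial (Fin (n + 1)) R}
    (hhI : ∀ x, φ' x = 0 → hh * x ∈ Ideal.span (Set.range g)) {a : S}
    (ha : a ∈ Fitt.ideal S (Ω[S⁄R]) 1) : φ' hh ^ n * a ∈ (jacMinors g).map φ' := by
  rw [fitting_eq_minors hφ, Groth.Misc3Fitt.minors_span_eq] at ha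
  induction ha using Submodule.span_induction with
  | mem x hx =>
    obtain ⟨z, γ, hz, rfl⟩ := hx
    have key : ∀ b, φ' hh • z b ∈ Submodule.span S (Set.range fun i => gradRow φ' (g i)) := by
      intro b
      obtain ⟨f, hf, hfz⟩ := hz b
      rw [← hfz]
      obtain ⟨c, hc⟩ := Ideal.mem_span_range_iff_exists_fun.1 (hhI f hf)
      have : φ' hh • gradRow φ' f = gradRow φ' (hh * f) := by
        rw [gradRow_mul, show φ' f = 0 from hf, zero_smul, add_zero]
      rw [this, ← hc]
      have hsum : gradRow φ' (∑ i, c i * g i) = ∑ i, φ' (c i) • gradRow φ' (g i) := by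
        funext j
        simp [gradRow, hg, Finset.sum_apply]
      rw [hsum]
      exact sum_mem fun i _ => Submodule.smul_mem _ _ (Submodule.subset_span ⟨i, rfl⟩)
    have h1 : φ' hh ^ n * Groth.Misc3Fitt.minor γ z = Groth.Misc3Fitt.minor γ fun b => φ' hh • z b := by
      have := Matrix.det_smul (Matrix.of fun b a => z b (γ a)) (φ' hh)
      rw [Fintype.card_fin] at this
      exact this.symm
    rw [h1]
    refine Groth.Misc3Fitt.minor_mem_of_span γ (fun w hw => ?_) key
    choose σ hσ using hw
    by_cases hσi : Function.Injective σ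
    · have hbij := Finite.injective_iff_bijective.1 hσi
      let e : Fin n ≃ Fin n := Equiv.ofBijective σ hbij
      rw [show w = fun b => gradRow φ' (g (e b)) from funext fun b => (hσ b).symm]
      have : Groth.Misc3Fitt.minor γ (fun b => gradRow φ' (g (e b))) =
          (Equiv.Perm.sign e : ℤ) * φ' (Matrix.of fun i j => pderiv (γ j) (g i)).det := by
        rw [AlgHom.map_det, ← Matrix.det_permute]
        rfl
      rw [this]
      exact Ideal.mul_mem_left _ _ (Ideal.mem_map_of_mem _ (Ideal.subset_span ⟨γ, rfl⟩))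
    · rw [Function.not_injective_iff] at hσi
      obtain ⟨a, b, hab, hne⟩ := hσi
      rw [Groth.Misc3Fitt.minor, Matrix.det_zero_of_row_eq hne]
      · exact zero_mem _
      · funext c
        show w a (γ c) = w b (γ c)
        rw [← hσ a, ← hσ b, hab]
  | zero => simp
  | add x y _ _ hx hy => rw [mul_add]; exact add_mem hx hy
  | smul r x _ hx => rw [smul_eq_mul, mul_left_comm]; exact Ideal.mul_mem_left _ _ hx

include hφ hg in
/-- Nodes of a fibre are the unramified points of the Fitting subscheme. -/
theorem IsFibreLocal.isNodeRing_iff_fitting {k A : Type u} [Field k] [CommRing A] [IsLocalRing A]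
    [IsNoetherianRing A] [Algebra k A] {χ : R →+* k} {ρ : S →+* A} (h : IsFibreLocal χ ρ)
    (hh : MvPolynomial (Fin (n + 1)) R) (hhI : ∀ x, φ' x = 0 → hh * x ∈ Ideal.span (Set.range g))
    (hu : IsUnit (ρ (φ' hh))) :
    IsNodeRing k A ↔ Algebra.IsSeparable k (ResidueField A) ∧
      (Fitt.ideal S (Ω[S⁄R]) 1).map ρ = maximalIdeal A := by
  rw [h.isNodeRing_iff φ' hφ g hg hh hhI hu]
  refine and_congr Iff.rfl (Eq.congr_left (le_antisymm (Ideal.map_mono (jacMinors_map_le_fitting hφ hg))
    (Ideal.map_le_iff_le_comap.2 fun a ha => ?_)))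
  rw [Ideal.mem_comap, ← Ideal.unit_mul_mem_iff_mem _ (hu.pow n), ← map_pow, ← map_mul]
  exact Ideal.mem_map_of_mem ρ (pow_mul_mem_of_mem_fitting hφ hg hhI ha)

end Groth.Curves1.Node
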