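import Mathlib
import Groth.Agent.Curves1.Node.NodalMax
import Groth.Agent.Curves1.Node.NodeFitt
import Groth.Agent.RefRank.FittSheaf
import Groth.Agent.OmegaSheaf.EtalePull

/-!
# The singular locus of a nodal family is unramified over the base
-/

namespace Groth.Curves1.Node

open CategoryTheory CategoryTheory.Limits AlgebraicGeometry IsLocalRing Groth.OmegaSheaf

universe u

variable {X S : Scheme.{u}} (f : X ⟶ S) {Ω : X.Modules} {d : OmegaSh.Der f Ω}

/-- The first Fitting ideal sheaf of differentials on a chart. -/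
theorem sheafIdeal_omega_chart [LocallyOfFiniteType f] (hd : OmegaSh.IsUniversal d) (c : Chart f) :
    letI := chartAlg f c.e
    (Fitt.sheafIdeal Ω 1).ideal ⟨c.U, c.hU⟩ =
      Fitt.ideal Γ(X, c.U) (Ω[Γ(X, c.U)⁄Γ(S, c.V)]) 1 := by
  let := chartAlg f c.e
  have := isQCoh_of_isUniversal hd
  have hft := isFT_of_isUniversal hd
  have : Algebra.FiniteType Γ(S, c.V) Γ(X, c.U) := f.finiteType_appLE c.hV c.hU c.e
  rw [Groth.RefRank.FittSheaf.sheafIdeal_ideal Ω hft 1 ⟨c.U, c.hU⟩]
  exact (Groth.Misc3Fitt.ideal_congr (universalChartEquiv hd c) 1).symm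

/-- The Fitting locus avoids the smooth points of relative dimension one. -/
theorem notMem_support_of_isSmoothOneAt [LocallyOfFiniteType f] (hd : OmegaSh.IsUniversal d) {x : X}
    (hx : IsSmoothOneAt f x) : x ∉ (Fitt.sheafIdeal Ω 1).support := by
  obtain ⟨V, hV, U, hU, hxU, e, h⟩ := hx
  let c : Chart f := ⟨U, V, hU, hV, e⟩
  let := chartAlg f c.e
  have : Algebra.IsStandardSmoothOfRelativeDimension 1 Γ(S, V) Γ(X, U) := h
  have : Algebra.IsStandardSmooth Γ(S, V) Γ(X, U) :=
    Algebra.IsStandardSmoothOfRelativeDimension.isStandardSmooth 1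
  have htop : (Fitt.sheafIdeal Ω 1).ideal ⟨U, hU⟩ = ⊤ := by
    rw [sheafIdeal_omega_chart f hd c]
    rcases subsingleton_or_nontrivial Γ(X, U) with hs | hs
    · exact Subsingleton.elim _ _
    · let b := Module.Free.chooseBasis Γ(X, U) (Ω[Γ(X, U)⁄Γ(S, V)])
      have hr := Module.Free.rank_eq_card_chooseBasisIndex Γ(X, U) (Ω[Γ(X, U)⁄Γ(S, V)]) ▸
        Algebra.IsStandardSmoothOfRelativeDimension.rank_kaehlerDifferential (R := Γ(S, V)) (S := Γ(X, U)) 1
      have hcard : Fintype.card (Module.Free.ChooseBasisIndex Γ(X, U) (Ω[Γ(X, U)⁄Γ(S, V)])) = 1 := by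
        rw [Cardinal.mk_fintype, Nat.cast_inj] at hr
        exact hr
      rw [Groth.Misc3Fitt.ideal_of_basis (b.reindex (Fintype.equivFinOfCardEq hcard)) 1, if_pos le_rfl]
  intro hmem
  rw [Groth.RefRank.EffCartierLocal.mem_support_iff_map_germ_ne_top _
    (show x ∈ ((⟨U, hU⟩ : X.affineOpens) : X.Opens) from hxU), htop] at hmem
  exact hmem (Ideal.map_top _)

/-- Nodes on a chart are the unramified points of the Fitting subscheme. -/
theorem unramified_fitting_iff [Flat f] [LocallyOfFinitePresentation f] (c : Chart f)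
    {y : X} (hy : y ∈ c.U) (hnode : IsFibreNode f (f y) (f.asFiber y)) :
    letI := chartAlg f c.e
    ∀ z : PrimeSpectrum (Γ(X, c.U) ⧸ Fitt.ideal Γ(X, c.U) (Ω[Γ(X, c.U)⁄Γ(S, c.V)]) 1),
      c.hU.fromSpec (PrimeSpectrum.comap (Ideal.Quotient.mk _) z) = y →
      Algebra.IsUnramifiedAt Γ(S, c.V) z.asIdeal := by
  let := chartAlg f c.e
  intro z hz
  have : Module.Flat Γ(S, c.V) Γ(X, c.U) := f.flat_appLE c.hV c.hU c.e
  have : Algebra.FinitePresentation Γ(S, c.V) Γ(X, c.U) := f.finitePresentation_appLE c.hV c.hU c.e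
  have hs : f y ∈ c.V := c.e hy
  have hw : f.fiberι (f y) (f.asFiber y) ∈ c.U := by rwa [f.fiberι_asFiber]
  let : (f.fiber (f y)).Over (Spec (CommRingCat.of (S.residueField (f y)))) :=
    ⟨f.fiberToSpecResidueField (f y)⟩
  have : LocallyOfFiniteType ((f.fiber (f y)) ↘ (Spec (CommRingCat.of (S.residueField (f y))))) :=
    inferInstanceAs (LocallyOfFiniteType (pullback.snd f (S.fromSpecResidueField (f y))))
  have := isNoetherianRing_stalk (k := S.residueField (f y)) (f.asFiber y)
  let := Curv2.stalkAlgebra (S.residueField (f y)) (f.fiber (f y)) (f.asFiber y)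
  have hρ := isFibreLocal_toFibreStalk f c.hV c.hU c.e hs (f.asFiber y) hw
  have hA := (isFibreNode_iff_isNodeRing f _).1 hnode
  obtain ⟨N, φ, hφ, hI⟩ := ‹Algebra.FinitePresentation Γ(S, c.V) Γ(X, c.U)›.out
  obtain ⟨n, g, hh, rfl, hg, hu, hhI⟩ := hρ.exists_equations φ hφ hI hA
  refine (hρ.unramified_iff _ z ?_).2 ((hρ.isNodeRing_iff_fitting hφ hg hh hhI hu).1 hA)
  have h1 : PrimeSpectrum.comap (Ideal.Quotient.mk _) z = c.hU.primeIdealOf ⟨_, hw⟩ := by
    apply c.hU.isOpenImmersion_fromSpec.base_open.injective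
    exact hz.trans ((c.hU.fromSpec_primeIdealOf ⟨_, hw⟩).trans (f.fiberι_asFiber y)).symm
  refine (congrArg PrimeSpectrum.asIdeal h1).trans ?_
  rw [c.hU.primeIdealOf_eq_map_closedPoint]
  show Ideal.comap _ _ = Ideal.comap _ _
  rw [toFibreStalk, CommRingCat.hom_comp, ← Ideal.comap_comap]
  congr 1
  have : IsLocalHom ((f.fiberι (f y)).stalkMap (f.asFiber y)).hom := inferInstance
  exact Eq.symm (((local_hom_TFAE ((f.fiberι (f y)).stalkMap (f.asFiber y)).hom).out 0 4).1 this)

/-- The singular locus of a nodal family is formally unramified over the base. -/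
theorem formallyUnramified_sing (hf : Curv2.IsNodalFamily f) (hd : OmegaSh.IsUniversal d) :
    FormallyUnramified ((Fitt.sheafIdeal Ω 1).subschemeι ≫ f) := by
  have : Flat f := hf.1
  have : LocallyOfFinitePresentation f := hf.2.1
  set I := Fitt.sheafIdeal Ω 1
  refine IsZariskiLocalAtSource.of_iSup_eq_top (P := @FormallyUnramified)
    (fun c : Chart f => I.subschemeι ⁻¹ᵁ c.U) ?_ fun c => ?_
  · rw [eq_top_iff]
    rintro z -
    obtain ⟨c, hc, -⟩ := exists_chart f (x := I.subschemeι z) (W := ⊤) trivial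
    exact TopologicalSpace.Opens.mem_iSup.2 ⟨c, hc⟩
  let U : X.affineOpens := ⟨c.U, c.hU⟩
  let := chartAlg f c.e
  have : Algebra.FinitePresentation Γ(S, c.V) Γ(X, c.U) := f.finitePresentation_appLE c.hV c.hU c.e
  have hunr : Algebra.FormallyUnramified Γ(S, c.V) (Γ(X, c.U) ⧸ I.ideal U) := by
    rw [sheafIdeal_omega_chart f hd c, Algebra.formallyUnramified_iff_forall]
    intro z
    let y : X := c.hU.fromSpec (PrimeSpectrum.comap (Ideal.Quotient.mk _) z)
    have hy : y ∈ c.U := c.hU.range_fromSpec.le ⟨_, rfl⟩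
    have hsupp : y ∈ I.support := by
      rw [Scheme.IdealSheafData.mem_support_iff_of_mem (show y ∈ (U : X.Opens) from hy)]
      rw [sheafIdeal_omega_chart f hd c]
      refine c.hU.fromSpec_image_zeroLocus _ |>.le ?_ |>.1
      refine ⟨_, ?_, rfl⟩
      intro a ha
      show Ideal.Quotient.mk _ a ∈ z.asIdeal
      rw [Ideal.Quotient.eq_zero_iff_mem.2 ha]
      exact zero_mem _
    rcases ((isNodalFamily_iff_nodalSet f).1 hf y) with h | h
    · exact absurd hsupp (notMem_support_of_isSmoothOneAt f hd h)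
    · exact unramified_fitting_iff f c hy h z rfl
  let e := IsOpenImmersion.isoOfRangeEq (I.subschemeι ⁻¹ᵁ c.U).ι (I.subschemeCover.f U) (by
    rw [Scheme.Opens.range_ι]
    exact congrArg SetLike.coe (I.opensRange_subschemeCover_map U).symm)
  have he : (I.subschemeι ⁻¹ᵁ c.U).ι = e.hom ≫ I.subschemeCover.f U :=
    (IsOpenImmersion.isoOfRangeEq_hom_fac _ _ _).symm
  rw [he, Category.assoc, MorphismProperty.cancel_left_of_respectsIso (P := @FormallyUnramified),
    ← Category.assoc, I.subschemeCover_map_subschemeι, I.glueDataObjι_ι]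
  show FormallyUnramified ((Spec.map (CommRingCat.ofHom (Ideal.Quotient.mk (I.ideal U))) ≫ c.hU.fromSpec) ≫ f)
  erw [Category.assoc, ← c.hV.SpecMap_appLE_fromSpec f c.hU c.e, ← Category.assoc, ← Spec.map_comp]
  refine MorphismProperty.comp_mem (@FormallyUnramified : MorphismProperty Scheme.{u}) _ _ ?_ inferInstance
  exact (HasRingHomProperty.Spec_iff (P := @FormallyUnramified)).2
    (RingHom.formallyUnramified_algebraMap.2 hunr)

end Groth.Curves1.Node
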