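import Mathlib
import Groth.Agent.Curves1.Node.NodalSing
import Groth.Agent.Syntomic.CIFibre
import Groth.Prelude.Def_Dual3

/-!
# Nodal families are the syntomic curves with unramified singular locus
-/

namespace Groth.Curves1.Node

open CategoryTheory CategoryTheory.Limits AlgebraicGeometry IsLocalRing Groth.OmegaSheaf

universe u

variable {X S : Scheme.{u}} (f : X ⟶ S) {Ω : X.Modules} {d : OmegaSh.Der f Ω}

theorem localFibreDim_eq (x : X) : Dual3.localFibreDim f x = FlatMor.fibreDimAt f x := by
  rw [Dual3.localFibreDim, FlatMor.fibreDimAt, FlatMor.localDim, iInf_subtype']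
  rfl

/-- Smooth points of relative dimension one and nodes are complete intersection points of fibres. -/
theorem isCompleteIntersection_fiberStalk [Flat f] [LocallyOfFinitePresentation f] {y : X}
    (h : y ∈ nodalSet f) : Pi1.IsCompleteIntersection (CInt.fiberStalk f y) := by
  let : (f.fiber (f y)).Over (Spec (CommRingCat.of (S.residueField (f y)))) :=
    ⟨f.fiberToSpecResidueField (f y)⟩
  have : LocallyOfFinitePresentation
      ((f.fiber (f y)) ↘ (Spec (CommRingCat.of (S.residueField (f y))))) :=
    lfp_fiberToSpec f _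
  let := Curv2.stalkAlgebra (S.residueField (f y)) (f.fiber (f y)) (f.asFiber y)
  have := isNoetherianRing_stalk (k := S.residueField (f y)) (f.asFiber y)
  rcases h with h | h
  · have : IsRegularLocalRing ((f.fiber (f y)).presheaf.stalk (f.asFiber y)) :=
      Groth.VarietyBC.isRegularLocalRing_of_mem_smoothLocus (k := S.residueField (f y))
        ((mem_fibre_smoothLocus_iff f (f y) (f.asFiber y)).2
          (by rw [f.fiberι_asFiber]; exact h.mem_smoothLocus f))
    exact Groth.CI.isCompleteIntersection_of_isRegularLocalRing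
  · exact ((isFibreNode_iff_isNodeRing f _).1 h).ci.1

/-- A point of a chart in a standard smooth basic open is a smooth point. -/
theorem isSmoothOneAt_of_away (c : Chart f) {y : X} (a : Γ(X, c.U))
    (hya : y ∈ X.basicOpen a)
    (h : letI := chartAlg f c.e
      Algebra.IsStandardSmoothOfRelativeDimension 1 Γ(S, c.V) (Localization.Away a)) :
    IsSmoothOneAt f y := by
  refine ⟨c.V, c.hV, X.basicOpen a, c.hU.basicOpen a, hya, (X.basicOpen_le a).trans c.e, ?_⟩
  let := chartAlg f c.e
  let := (f.appLE c.V (X.basicOpen a) ((X.basicOpen_le a).trans c.e)).hom.toAlgebra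
  have : IsScalarTower Γ(S, c.V) Γ(X, c.U) Γ(X, X.basicOpen a) :=
    IsScalarTower.of_algebraMap_eq fun r => by
      show f.appLE c.V (X.basicOpen a) _ r = X.presheaf.map _ (f.appLE c.V c.U c.e r)
      rw [← CommRingCat.comp_apply, Scheme.Hom.appLE_map]
  have : IsLocalization.Away a Γ(X, X.basicOpen a) := c.hU.isLocalization_basicOpen a
  show Algebra.IsStandardSmoothOfRelativeDimension 1 Γ(S, c.V) Γ(X, X.basicOpen a)
  exact Algebra.IsStandardSmoothOfRelativeDimension.of_algEquiv 1
    ((Localization.algEquiv (Submonoid.powers a) Γ(X, X.basicOpen a)).restrictScalars Γ(S, c.V))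

/-- The Fitting subscheme on a chart is formally unramified if it is so globally. -/
theorem formallyUnramified_chart [LocallyOfFiniteType f] (hd : OmegaSh.IsUniversal d)
    (h : FormallyUnramified ((Fitt.sheafIdeal Ω 1).subschemeι ≫ f)) (c : Chart f) :
    letI := chartAlg f c.e
    Algebra.FormallyUnramified Γ(S, c.V)
      (Γ(X, c.U) ⧸ Fitt.ideal Γ(X, c.U) (Ω[Γ(X, c.U)⁄Γ(S, c.V)]) 1) := by
  let := chartAlg f c.e
  set I := Fitt.sheafIdeal Ω 1
  let U : X.affineOpens := ⟨c.U, c.hU⟩
  rw [← sheafIdeal_omega_chart f hd c, ← RingHom.formallyUnramified_algebraMap]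
  have h1 : FormallyUnramified (I.subschemeCover.f U ≫ I.subschemeι ≫ f) :=
    IsZariskiLocalAtSource.comp h (I.subschemeCover.f U)
  rw [← Category.assoc, I.subschemeCover_map_subschemeι, I.glueDataObjι_ι] at h1
  replace h1 : FormallyUnramified
      ((Spec.map (CommRingCat.ofHom (Ideal.Quotient.mk (I.ideal U))) ≫ c.hU.fromSpec) ≫ f) := h1
  erw [Category.assoc, ← c.hV.SpecMap_appLE_fromSpec f c.hU c.e, ← Category.assoc, ← Spec.map_comp] at h1
  have h2 : FormallyUnramified (Spec.map (f.appLE c.V c.U c.e ≫
      CommRingCat.ofHom (Ideal.Quotient.mk (I.ideal U)))) :=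
    @FormallyUnramified.of_comp _ _ _ _ c.hV.fromSpec h1
  exact (HasRingHomProperty.Spec_iff (P := @FormallyUnramified)).1 h2

/-- A closed point of its fibre, at which the fibre is a one-dimensional complete intersection and
the Fitting subscheme is unramified, is smooth or a node. -/
theorem mem_nodalSet_of_isClosed [Flat f] [LocallyOfFinitePresentation f]
    (hd : OmegaSh.IsUniversal d) {y : X} (hcl : IsClosed ({f.asFiber y} : Set (f.fiber (f y))))
    (hci : Pi1.IsCompleteIntersection (CInt.fiberStalk f y)) (hdim : FlatMor.fibreDimAt f y = 1)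
    (hunr : FormallyUnramified ((Fitt.sheafIdeal Ω 1).subschemeι ≫ f)) : y ∈ nodalSet f := by
  classical
  obtain ⟨c, hyc, -⟩ := exists_chart f (x := y) (W := ⊤) trivial
  let := chartAlg f c.e
  have : Module.Flat Γ(S, c.V) Γ(X, c.U) := f.flat_appLE c.hV c.hU c.e
  have : Algebra.FinitePresentation Γ(S, c.V) Γ(X, c.U) := f.finitePresentation_appLE c.hV c.hU c.e
  let : (f.fiber (f y)).Over (Spec (CommRingCat.of (S.residueField (f y)))) :=
    ⟨f.fiberToSpecResidueField (f y)⟩
  have : LocallyOfFiniteType ((f.fiber (f y)) ↘ (Spec (CommRingCat.of (S.residueField (f y))))) :=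
    inferInstanceAs (LocallyOfFiniteType (pullback.snd f (S.fromSpecResidueField (f y))))
  set w := f.asFiber y
  let := Curv2.stalkAlgebra (S.residueField (f y)) (f.fiber (f y)) w
  let := Curv2.resAlgebra (S.residueField (f y)) (f.fiber (f y)) w
  have := isNoetherianRing_stalk (k := S.residueField (f y)) w
  -- the residue field is finite
  have hfin : Module.Finite (S.residueField (f y)) ((f.fiber (f y)).residueField w) := by
    have := LocallyOfFiniteType.jacobsonSpace ((f.fiber (f y)) ↘ (Spec (CommRingCat.of (S.residueField (f y)))))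
    have : IsClosedImmersion ((f.fiber (f y)).fromSpecResidueField w) :=
      isClosed_singleton_iff_isClosedImmersion.mp hcl
    have h1 : IsFinite ((f.fiber (f y)).fromSpecResidueField w ≫
        ((f.fiber (f y)) ↘ (Spec (CommRingCat.of (S.residueField (f y)))))) :=
      (isFinite_iff_locallyOfFiniteType_of_jacobsonSpace (f := (f.fiber (f y)).fromSpecResidueField w ≫
        ((f.fiber (f y)) ↘ (Spec (CommRingCat.of (S.residueField (f y))))))).mpr inferInstance
    rw [Groth.VarietyBC.fromSpecResidueField_str, IsFinite.SpecMap_iff] at h1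
    exact h1
  have hint : Algebra.IsIntegral (S.residueField (f y))
      (ResidueField ((f.fiber (f y)).presheaf.stalk w)) :=
    Algebra.IsIntegral.of_finite (S.residueField (f y)) ((f.fiber (f y)).residueField w)
  have hdimA : ringKrullDim ((f.fiber (f y)).presheaf.stalk w) = 1 := by
    have := Groth.VarietyBC.localDim_eq_height_add (S.residueField (f y)) w
    rw [(Groth.Variety2.Dim.height_eq_zero_iff w).2 hcl] at this
    exact (this.trans (zero_add _)).symm.trans hdim
  have hs : f y ∈ c.V := c.e hyc
  have hw : f.fiberι (f y) w ∈ c.U := by rwa [f.fiberι_asFiber]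
  have hρ := isFibreLocal_toFibreStalk f c.hV c.hU c.e hs w hw
  set ρ := (toFibreStalk f w hw).hom
  obtain ⟨N, φ, hφ, hI⟩ := ‹Algebra.FinitePresentation Γ(S, c.V) Γ(X, c.U)›.out
  obtain ⟨n, g, hh, rfl, hg, hu, hhI⟩ := hρ.exists_equations_of_ci φ hφ hI hci hdimA
  set J := Fitt.ideal Γ(X, c.U) (Ω[Γ(X, c.U)⁄Γ(S, c.V)]) 1 with hJdef
  have hQ : (maximalIdeal ((f.fiber (f y)).presheaf.stalk w)).comap ρ =
      (c.hU.primeIdealOf ⟨_, hw⟩).asIdeal := by
    rw [c.hU.primeIdealOf_eq_map_closedPoint]
    show Ideal.comap _ _ = Ideal.comap _ _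
    rw [show ρ = ((f.fiberι (f y)).stalkMap w).hom.comp
      (X.presheaf.germ c.U _ hw).hom from rfl, ← Ideal.comap_comap]
    congr 1
    have : IsLocalHom ((f.fiberι (f y)).stalkMap w).hom := inferInstance
    exact ((local_hom_TFAE ((f.fiberι (f y)).stalkMap w).hom).out 0 4).1 this
  by_cases hJ : J.map ρ = ⊤
  · left
    obtain ⟨γ, hγ⟩ : ∃ γ : Fin n → Fin (n + 1),
        IsUnit (ρ (φ (Matrix.of fun i j => MvPolynomial.pderiv (γ j) (g i)).det)) := by
      by_contra hall
      push Not at hall
      have h1 : ((jacMinors g).map φ).map ρ ≤ maximalIdeal _ := by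
        rw [Ideal.map_le_iff_le_comap, Ideal.map_le_iff_le_comap, jacMinors, Ideal.span_le]
        rintro _ ⟨γ, rfl⟩
        exact (mem_maximalIdeal _).2 (hall γ)
      refine (maximalIdeal.isMaximal _).ne_top (eq_top_iff.2 (hJ.ge.trans ?_))
      refine Ideal.map_le_iff_le_comap.2 fun a ha => ?_
      rw [Ideal.mem_comap, ← Ideal.unit_mul_mem_iff_mem _ (hu.pow n), ← map_pow, ← map_mul]
      exact h1 (Ideal.mem_map_of_mem ρ (pow_mul_mem_of_mem_fitting hφ hg hhI ha))
    have hinj : Function.Injective γ := by
      intro a b hab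
      by_contra hne
      rw [Matrix.det_zero_of_column_eq hne fun i => by simp [hab], map_zero, map_zero] at hγ
      exact not_isUnit_zero hγ
    refine isSmoothOneAt_of_away f c _ ?_ (isStandardSmooth_away_minor φ hφ g hg hh hhI γ hinj)
    have hunit : IsUnit (ρ (φ (hh * (Matrix.of fun i j => MvPolynomial.pderiv (γ j) (g i)).det))) := by
      rw [map_mul, map_mul]; exact hu.mul hγ
    rw [X.mem_basicOpen _ y hyc]
    have h3 : IsUnit (X.presheaf.germ c.U _ hw
        (φ (hh * (Matrix.of fun i j => MvPolynomial.pderiv (γ j) (g i)).det))) :=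
      isUnit_of_map_unit ((f.fiberι (f y)).stalkMap w).hom _ hunit
    have hwy : f.fiberι (f y) w = y := f.fiberι_asFiber y
    rw [← X.mem_basicOpen _ _ hw] at h3
    rw [← X.mem_basicOpen _ _ hyc]
    exact hwy ▸ h3
  · right
    have hJQ : J ≤ (maximalIdeal _).comap ρ := Ideal.map_le_iff_le_comap.1 (le_maximalIdeal hJ)
    obtain ⟨z, hz⟩ : ∃ z : PrimeSpectrum (Γ(X, c.U) ⧸ J),
        PrimeSpectrum.comap (Ideal.Quotient.mk J) z = ⟨(maximalIdeal _).comap ρ, inferInstance⟩ := by
      have : (⟨(maximalIdeal _).comap ρ, inferInstance⟩ : PrimeSpectrum Γ(X, c.U)) ∈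
          Set.range (PrimeSpectrum.comap (Ideal.Quotient.mk J)) := by
        rw [range_comap_of_surjective _ _ Ideal.Quotient.mk_surjective, Ideal.mk_ker]
        exact hJQ
      exact this
    have := formallyUnramified_chart f hd hunr c
    have hz' := (hρ.unramified_iff J z (congrArg PrimeSpectrum.asIdeal hz)).1
      (Algebra.formallyUnramified_iff_forall.1 this z)
    exact (isFibreNode_iff_isNodeRing f _).2 ((hρ.isNodeRing_iff_fitting hφ hg hh hhI hu).2 hz')

/-- **Nodal families are the syntomic morphisms of relative dimension one with unramified singular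
locus.** -/
theorem isNodalFamily_iff_syntomic (hd : OmegaSh.IsUniversal d) :
    Curv2.IsNodalFamily f ↔ (Synt.IsSyntomicMor f ∧ (∀ x : X, Dual3.localFibreDim f x = 1) ∧
      FormallyUnramified ((Fitt.sheafIdeal Ω 1).subschemeι ≫ f)) := by
  simp only [localFibreDim_eq]
  constructor
  · intro hf
    have : Flat f := hf.1
    have : LocallyOfFinitePresentation f := hf.2.1
    have h := (isNodalFamily_iff_nodalSet f).1 hf
    exact ⟨(Groth.Syntomic.isSyntomicMor_iff_fiberStalk f).2
        ⟨inferInstance, inferInstance, fun x => isCompleteIntersection_fiberStalk f (h x)⟩,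
      fun x => ((mem_nodalSet_iff f x).1 (h x)).2, formallyUnramified_sing f hf hd⟩
  · rintro ⟨hs, hdim, hunr⟩
    obtain ⟨_, _, hci⟩ := (Groth.Syntomic.isSyntomicMor_iff_fiberStalk f).1 hs
    rw [isNodalFamily_iff_nodalSet f]
    intro y
    let : (f.fiber (f y)).Over (Spec (CommRingCat.of (S.residueField (f y)))) :=
      ⟨f.fiberToSpecResidueField (f y)⟩
    have : LocallyOfFiniteType ((f.fiber (f y)) ↘ (Spec (CommRingCat.of (S.residueField (f y))))) :=
      inferInstanceAs (LocallyOfFiniteType (pullback.snd f (S.fromSpecResidueField (f y))))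
    obtain ⟨w₀, hyw, hw₀⟩ := exists_closed_specialization (k := S.residueField (f y)) (f.asFiber y)
    have hsp := hyw.map (f.fiberι (f y)).continuous
    rw [f.fiberι_asFiber] at hsp
    refine hsp.mem_open (isOpen_smoothOne_or_node f)
      (mem_nodalSet_of_isClosed f hd ?_ (hci _) (hdim _) hunr)
    have key : ∀ (t t' : S) (v : f.fiber t) (v' : f.fiber t'), t = t' → f.fiberι t v = f.fiberι t' v' →
        IsClosed ({v} : Set (f.fiber t)) → IsClosed ({v'} : Set (f.fiber t')) := by
      rintro t _ v v' rfl h hv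
      rwa [← (f.fiberι t).isEmbedding.injective h]
    exact key _ _ w₀ _ (fiberι_apply_fst f _ w₀).symm (asFiber_fiberι f _ w₀).symm hw₀

/-- Over a field, nodal families are the nodal curves. -/
theorem isNodalFamily_iff_field {k : Type u} [Field k] (Y : Scheme.{u})
    [Y.Over (Spec (CommRingCat.of k))] [LocallyOfFiniteType (Y ↘ (Spec (CommRingCat.of k)))] :
    Curv2.IsNodalFamily (Y ↘ (Spec (CommRingCat.of k))) ↔ IsNodalCurveOver k Y := by
  set g := Y ↘ (Spec (CommRingCat.of k))
  have key : ∀ s : Spec (CommRingCat.of k),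
      @IsNodalCurveOver ((Spec (CommRingCat.of k)).residueField s) _ (g.fiber s)
        ⟨g.fiberToSpecResidueField s⟩ ↔ IsNodalCurveOver k Y := by
    intro s
    let φ := Spec.preimage ((Spec (CommRingCat.of k)).fromSpecResidueField s)
    let := φ.hom.toAlgebra
    let : (g.fiber s).Over (Spec (CommRingCat.of ((Spec (CommRingCat.of k)).residueField s))) :=
      ⟨g.fiberToSpecResidueField s⟩
    refine isNodalCurveOver_iff_of_isPullback (k := k) ((Spec (CommRingCat.of k)).residueField s)
      (g.fiberι s) ?_
    have h1 : Spec.map (CommRingCat.ofHom (algebraMap k ((Spec (CommRingCat.of k)).residueField s))) =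
        (Spec (CommRingCat.of k)).fromSpecResidueField s := Spec.map_preimage _
    rw [h1]
    exact IsPullback.of_hasPullback g _
  rw [isNodalFamily_iff]
  refine ⟨fun h => (key (default : PrimeSpectrum k)).1 (h.2.2 _), fun h => ⟨inferInstance, inferInstance, fun s => (key s).2 h⟩⟩

end Groth.Curves1.Node
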