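import Mathlib
import Groth.Agent.Curves1.Node.NodalBC

/-!
# Regular nodal curves
-/

open CategoryTheory CategoryTheory.Limits AlgebraicGeometry IsLocalRing

universe u

namespace Groth.Curves1.Node

variable {k : Type u} [Field k] {X : Scheme.{u}} [X.Over (Spec (CommRingCat.of k))]
  [LocallyOfFiniteType (X ↘ (Spec (CommRingCat.of k)))]

include k in
theorem height_le_one_of_dim (hdim : ∀ Z ∈ irreducibleComponents (X : Type u), topologicalKrullDim Z = 1)
    (x : X) : Order.height x ≤ 1 := by
  obtain ⟨η, hηx, hη⟩ := Groth.FibreDim.exists_genericPoint_specializes x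
  have h1 := (dim_irreducibleComponents_iff (X ↘ (Spec (CommRingCat.of k)))).1 hdim η
    (Groth.FibreDim.isMax_of_mem_genericPoints hη)
  exact h1 ▸ Order.height_mono (Scheme.le_iff_specializes.2 hηx)

include k in
theorem ringKrullDim_stalk_le_one
    (hdim : ∀ Z ∈ irreducibleComponents (X : Type u), topologicalKrullDim Z = 1) (x : X) :
    ringKrullDim (X.presheaf.stalk x) ≤ 1 := by
  have : Nonempty X := ⟨x⟩
  rw [ringKrullDim_stalk_eq_coheight]
  refine (Order.coheight_le_krullDim x).trans ?_
  rw [Order.krullDim_eq_iSup_height_of_nonempty]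
  exact_mod_cast iSup_le (height_le_one_of_dim (k := k) hdim)

include k in
theorem not_isRegularLocalRing_of_isNodeStalk
    (hdim : ∀ Z ∈ irreducibleComponents (X : Type u), topologicalKrullDim Z = 1) {x : X}
    (h : IsNodeStalk k X x) : ¬ IsRegularLocalRing (X.presheaf.stalk x) := by
  intro hreg
  obtain ⟨-, -, hnp, u, v, -, -, -, huv, -, -⟩ := h
  have h2 : (maximalIdeal (X.presheaf.stalk x)).spanFinrank = 2 := spanFinrank_eq_two huv hnp
  have h1 : ((maximalIdeal (X.presheaf.stalk x)).spanFinrank : WithBot ℕ∞) ≤ 1 :=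
    hreg.spanFinrank_maximalIdeal.le.trans (ringKrullDim_stalk_le_one (k := k) hdim x)
  rw [h2] at h1
  exact absurd h1 (by decide)

theorem smooth_of_atWorstNodal_of_regular
    (hdim : ∀ Z ∈ irreducibleComponents (X : Type u), topologicalKrullDim Z = 1)
    (hnod : Curv2.AtWorstNodal k X) (hreg : ∀ x : X, IsRegularLocalRing (X.presheaf.stalk x)) :
    Smooth (X ↘ (Spec (CommRingCat.of k))) := by
  have : IsLocallyNoetherian X := LocallyOfFiniteType.isLocallyNoetherian (X ↘ (Spec (CommRingCat.of k)))
  have : LocallyOfFinitePresentation (X ↘ (Spec (CommRingCat.of k))) := inferInstance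
  have key : ∀ x, x ∈ (X ↘ (Spec (CommRingCat.of k))).smoothLocus := fun x => by
    obtain ⟨x₀, hxx₀, hx₀⟩ := exists_closed_specialization (k := k) x
    refine hxx₀.mem_open (X ↘ (Spec (CommRingCat.of k))).smoothLocus.isOpen ?_
    rcases hnod x₀ hx₀ with hs | hn
    · exact (exists_smooth_nhd_iff _ x₀).1 hs
    · exact absurd (hreg x₀) (not_isRegularLocalRing_of_isNodeStalk hdim
        ((isNode_iff_isNodeStalk x₀).1 hn))
  rw [← Scheme.Hom.smoothLocus_eq_top_iff]; exact eq_top_iff.2 fun x _ => key x

end Groth.Curves1.Node
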