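import Mathlib
import Groth.Agent.Curves1.Node.NodalRegular
import Groth.Agent.Curves1.Node.NodeQuotient
import Groth.Agent.Curves1.Node.NodeEtale

/-!
# Reduced closed subcurves of nodal curves
-/

open CategoryTheory CategoryTheory.Limits AlgebraicGeometry IsLocalRing

universe u

namespace Groth.Curves1.Node

attribute [local instance] Curv2.resAlgebra Curv2.stalkAlgebra

variable {k : Type u} [Field k] {X Y : Scheme.{u}} [X.Over (Spec (CommRingCat.of k))]
  [Y.Over (Spec (CommRingCat.of k))] [LocallyOfFiniteType (X ↘ (Spec (CommRingCat.of k)))]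

include k in
theorem one_le_ringKrullDim_stalk [LocallyOfFiniteType (Y ↘ (Spec (CommRingCat.of k)))]
    (hdim : ∀ Z ∈ irreducibleComponents (Y : Type u), topologicalKrullDim Z = 1) {y : Y}
    (hy : IsClosed ({y} : Set Y)) : 1 ≤ ringKrullDim (Y.presheaf.stalk y) := by
  have h1 : ¬ IsMax y := fun h => by
    have h2 := (dim_irreducibleComponents_iff (Y ↘ (Spec (CommRingCat.of k)))).1 hdim y h
    rw [(Groth.Variety2.Dim.height_eq_zero_iff y).2 hy] at h2
    exact zero_ne_one h2
  rw [ringKrullDim_stalk_eq_coheight]
  exact_mod_cast Order.one_le_iff_ne_zero.2 fun h => h1 (Order.coheight_eq_zero.1 h)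

/-- A reduced closed subscheme, of pure dimension one, of a nodal curve is nodal. -/
theorem atWorstNodal_of_closedImmersion (ι : Y ⟶ X) [IsClosedImmersion ι] [AlgebraicGeometry.IsReduced Y]
    (h : ι ≫ (X ↘ (Spec (CommRingCat.of k))) = Y ↘ (Spec (CommRingCat.of k)))
    (hX : IsNodalCurveOver k X)
    (hY : ∀ Z ∈ irreducibleComponents (Y : Type u), topologicalKrullDim Z = 1) :
    Curv2.AtWorstNodal k Y := by
  have : LocallyOfFiniteType (Y ↘ (Spec (CommRingCat.of k))) := h ▸ inferInstance
  have : IsLocallyNoetherian X := LocallyOfFiniteType.isLocallyNoetherian (X ↘ (Spec (CommRingCat.of k)))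
  have : IsLocallyNoetherian Y := LocallyOfFiniteType.isLocallyNoetherian (Y ↘ (Spec (CommRingCat.of k)))
  have : LocallyOfFinitePresentation (X ↘ (Spec (CommRingCat.of k))) := inferInstance
  have : LocallyOfFinitePresentation (Y ↘ (Spec (CommRingCat.of k))) := inferInstance
  intro y hy
  have hx : IsClosed ({ι y} : Set X) := by
    rw [← Set.image_singleton]
    exact ι.isClosedEmbedding.isClosedMap _ hy
  have hsurj : Function.Surjective (ι.stalkMap y).hom := ι.stalkMap_surjective y
  have hB := one_le_ringKrullDim_stalk (k := k) hY hy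
  have hsmooth : Function.Injective (ι.stalkMap y).hom →
      ι y ∈ (X ↘ (Spec (CommRingCat.of k))).smoothLocus →
      y ∈ (Y ↘ (Spec (CommRingCat.of k))).smoothLocus := by
    intro hinj hs
    have : IsIso (ι.stalkMap y) := (ConcreteCategory.isIso_iff_bijective _).2 ⟨hinj, hsurj⟩
    have key : y ∈ (ι ≫ (X ↘ (Spec (CommRingCat.of k)))).smoothLocus := by
      rw [Scheme.Hom.mem_smoothLocus, Scheme.Hom.stalkMap_comp]
      exact (RingHom.FormallySmooth.respectsIso.cancel_right_isIso _ (ι.stalkMap y)).2 hs
    have e : (ι ≫ (X ↘ (Spec (CommRingCat.of k)))).smoothLocus =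
        (Y ↘ (Spec (CommRingCat.of k))).smoothLocus := by congr 1
    exact e ▸ key
  rcases hX.2 (ι y) hx with hs | hn
  · left
    rw [exists_smooth_nhd_iff] at hs ⊢
    refine hsmooth ?_ hs
    have := Groth.VarietyBC.isRegularLocalRing_of_mem_smoothLocus hs
    obtain ⟨π, hπ⟩ := exists_principal_of_spanFinrank_le_one (A := X.presheaf.stalk (ι y)) (by
      have h1 := this.spanFinrank_maximalIdeal.le.trans (ringKrullDim_stalk_le_one (k := k) hX.1 (ι y))
      exact_mod_cast h1)
    exact injective_of_principal hsurj hB hπ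
  · rw [isNode_iff_isNodeStalk] at hn
    obtain ⟨hsep, hred, hA⟩ := hn
    let : Algebra (X.presheaf.stalk (ι y)) (Y.presheaf.stalk y) := (ι.stalkMap y).hom.toAlgebra
    have : IsLocalHom (algebraMap (X.presheaf.stalk (ι y)) (Y.presheaf.stalk y)) :=
      inferInstanceAs <| IsLocalHom (ι.stalkMap y).hom
    have : IsScalarTower k (X.presheaf.stalk (ι y)) (Y.presheaf.stalk y) :=
      IsScalarTower.of_algebraMap_eq' (stalkMap_comp_stalkMap ι h y).symm
    rcases injective_or_isRegularLocalRing hA hsurj hB with hinj | hreg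
    · right
      rw [isNode_iff_isNodeStalk]
      have hbij : Function.Bijective (algebraMap (X.presheaf.stalk (ι y)) (Y.presheaf.stalk y)) :=
        ⟨hinj, hsurj⟩
      have : Module.Flat (X.presheaf.stalk (ι y)) (Y.presheaf.stalk y) :=
        RingHom.flat_algebraMap_iff.mp (RingHom.Flat.of_bijective hbij)
      have : Algebra.FiniteType (X.presheaf.stalk (ι y)) (Y.presheaf.stalk y) :=
        Algebra.FiniteType.of_surjective (Algebra.ofId _ _) hsurj
      have : Algebra.FormallyUnramified (X.presheaf.stalk (ι y)) (Y.presheaf.stalk y) :=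
        Algebra.FormallyUnramified.of_surjective (Algebra.ofId _ _) hsurj
      exact nodeRing_iff.1 ⟨hsep, hred, hA⟩
    · left
      rw [exists_smooth_nhd_iff]
      have : IsScalarTower k (ResidueField (X.presheaf.stalk (ι y))) (ResidueField (Y.presheaf.stalk y)) :=
        IsScalarTower.of_algebraMap_eq fun c => by
          show residue _ (algebraMap k (Y.presheaf.stalk y) c) =
            ResidueField.map (algebraMap (X.presheaf.stalk (ι y)) (Y.presheaf.stalk y))
              (residue _ (algebraMap k _ c))
          rw [ResidueField.map_residue, ← IsScalarTower.algebraMap_apply]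
      have hres : Function.Surjective (algebraMap (ResidueField (X.presheaf.stalk (ι y)))
          (ResidueField (Y.presheaf.stalk y))) := fun z => by
        obtain ⟨b, rfl⟩ := residue_surjective z
        obtain ⟨a, rfl⟩ := hsurj b
        exact ⟨residue _ a, rfl⟩
      let e : ResidueField (X.presheaf.stalk (ι y)) ≃ₐ[k] ResidueField (Y.presheaf.stalk y) :=
        AlgEquiv.ofBijective (IsScalarTower.toAlgHom k _ _) ⟨RingHom.injective _, hres⟩
      have hsepY : Algebra.IsSeparable k (ResidueField (Y.presheaf.stalk y)) :=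
        @AlgEquiv.Algebra.isSeparable k _ _ _ _ _ _ _ e hsep
      refine (Groth.VarietyBC.mem_smoothLocus_iff_isRegularLocalRing y ?_).2 hreg
      show Algebra.FormallySmooth k (ResidueField (Y.presheaf.stalk y))
      have : Algebra.FormallyEtale k (ResidueField (Y.presheaf.stalk y)) :=
        Algebra.FormallyEtale.of_isSeparable k _
      infer_instance

end Groth.Curves1.Node
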