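import Mathlib
import Groth.Agent.Curves1.Node.NodalBC
import Groth.Agent.Smt.NormalLemma
import Groth.Agent.Ega4Algebra2.NormalRingBasic
import Groth.Agent.FlatMor2.FibCrit.Fibre

/-!
# Normality of a nodal family over a Dedekind domain with normal generic fibre
-/

namespace Groth.Curves1.Node

open CategoryTheory CategoryTheory.Limits AlgebraicGeometry IsLocalRing

universe u

/-- A Noetherian local ring which is reduced modulo a nonzerodivisor `t` and normal away from `t`
is a normal domain. -/
theorem normal_of_reduced_mod {O : Type u} [CommRing O] [IsLocalRing O] [IsNoetherianRing O] {t : O}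
    (ht : t ∈ nonZeroDivisors O) (hrad : (Ideal.span {t}).IsRadical)
    (hN : ∀ (q : Ideal O) [q.IsPrime], t ∉ q →
      IsDomain (Localization.AtPrime q) ∧ IsIntegrallyClosed (Localization.AtPrime q)) :
    IsDomain O ∧ IsIntegrallyClosed O := by
  classical
  let N := Localization.Away t
  have hle : Submonoid.powers t ≤ nonZeroDivisors O := Submonoid.powers_le.2 ht
  have hinj : Function.Injective (algebraMap O N) := IsLocalization.injective N hle
  have : Nontrivial N := hinj.nontrivial
  have : IsNoetherianRing N := IsLocalization.isNoetherianRing (Submonoid.powers t) N inferInstance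
  have hnorm : EGA4.IsNormalRing N := by
    intro P hP
    let q := P.comap (algebraMap O N)
    have htq : t ∉ q := fun h => hP.ne_top (Ideal.eq_top_of_isUnit_mem _ h
      (IsLocalization.Away.algebraMap_isUnit t))
    obtain ⟨h1, h2⟩ := hN q htq
    have e := (IsLocalization.localizationLocalizationAtPrimeIsoLocalization (Submonoid.powers t) (p := P))
    exact ⟨e.symm.toRingEquiv.toMulEquiv.isDomain _,
      IsIntegrallyClosed.of_equiv e.toRingEquiv⟩
  obtain ⟨hNd, hNc⟩ := Groth.Ega4b.isDomain_of_isNormalRing_of_idempotent hnorm fun e he => by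
    obtain ⟨n, a, ha⟩ := IsLocalization.Away.surj t e
    have key : ∀ (n : ℕ) (a : O), e * algebraMap O N t ^ n = algebraMap O N a →
        ∃ c, algebraMap O N c = e := by
      intro n
      induction n with
      | zero => exact fun a ha => ⟨a, by simpa using ha.symm⟩
      | succ n ih =>
        intro a ha
        have h2 : a ^ 2 = t ^ (n + 1) * a := hinj (by
          rw [map_pow, map_mul, map_pow, ← ha, mul_pow, sq e, he]
          ring)
        have h3 : a ^ 2 ∈ Ideal.span {t} := h2 ▸ Ideal.mem_span_singleton.2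
          ((dvd_pow_self t n.succ_ne_zero).mul_right a)
        obtain ⟨b, rfl⟩ := Ideal.mem_span_singleton.1 (hrad ⟨2, h3⟩)
        refine ih b ((IsLocalization.Away.algebraMap_isUnit (S := N) t).mul_left_cancel ?_)
        rw [← map_mul, ← ha, pow_succ]
        ring
    obtain ⟨c, rfl⟩ := key n a ha
    have hc : IsIdempotentElem c := hinj (by rw [map_mul]; exact he)
    rcases (IsLocalRing.isUnit_or_isUnit_one_sub_self c) with h | h
    · exact Or.inr (by rw [(IsIdempotentElem.iff_eq_one_of_isUnit h).1 hc, map_one])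
    · refine Or.inl ?_
      have := (IsIdempotentElem.iff_eq_one_of_isUnit h).1 hc.one_sub
      rw [sub_eq_self] at this
      rw [this, map_zero]
  have hd : IsDomain O := hinj.isDomain
  refine ⟨hd, Groth.Smt.isIntegrallyClosed_of_agree_away (algebraMap O N) hinj
    (nonZeroDivisors.ne_zero ht) hrad fun z => ?_⟩
  obtain ⟨n, a, ha⟩ := IsLocalization.Away.surj t z
  exact ⟨n, a, by rw [mul_comm]; exact ha⟩

/-- A nodal family over a Dedekind domain with normal generic fibre is normal. -/
theorem normal_of_nodalFamily {R : Type u} [CommRing R] [IsDedekindDomain R]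
    {X : Scheme.{u}} (f : X ⟶ Spec (CommRingCat.of R)) (hf : Curv2.IsNodalFamily f)
    (hgen : ∀ x : X, (f.base x).asIdeal = ⊥ →
      IsDomain (X.presheaf.stalk x) ∧ IsIntegrallyClosed (X.presheaf.stalk x)) (x : X) :
    IsDomain (X.presheaf.stalk x) ∧ IsIntegrallyClosed (X.presheaf.stalk x) := by
  classical
  have : Flat f := hf.1
  have : LocallyOfFinitePresentation f := hf.2.1
  by_cases hp : (f.base x).asIdeal = ⊥
  · exact hgen x hp
  set s := f x
  let p : PrimeSpectrum R := s
  have : IsLocallyNoetherian X := LocallyOfFiniteType.isLocallyNoetherian f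
  obtain ⟨π, hπp, hπ⟩ := SetLike.exists_of_lt (show p.asIdeal ^ 2 < p.asIdeal from
    by simpa using Ideal.pow_succ_lt_pow (show p.asIdeal ≠ ⊥ from hp) 1)
  let := (f.stalkMap x).hom.toAlgebra
  let A := (Spec (CommRingCat.of R)).presheaf.stalk s
  let : Algebra R A := StructureSheaf.stalkAlgebra R p
  have hloc : IsLocalization.AtPrime A p.asIdeal := StructureSheaf.IsLocalization.to_stalk R p
  have : IsDiscreteValuationRing (Localization.AtPrime p.asIdeal) :=
    IsLocalization.AtPrime.isDiscreteValuationRing_of_dedekind_domain R hp _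
  let e : Localization.AtPrime p.asIdeal ≃ₐ[R] A :=
    IsLocalization.algEquiv p.asIdeal.primeCompl _ _
  have : IsDomain A := e.symm.toRingEquiv.toMulEquiv.isDomain _
  have hπA : algebraMap R A π ≠ 0 := by
    intro h0
    refine hπ ?_
    rw [(map_eq_zero_iff _ (IsLocalization.injective A p.asIdeal.primeCompl_le_nonZeroDivisors)).1 h0]
    exact zero_mem _
  have hmA : maximalIdeal A = Ideal.span {algebraMap R A π} := by
    have h1 : algebraMap R A π ∈ maximalIdeal A :=
      (IsLocalization.AtPrime.to_map_mem_maximal_iff A p.asIdeal π).2 hπp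
    have : IsPrincipalIdealRing A := IsPrincipalIdealRing.of_surjective e.toRingEquiv e.surjective
    obtain ⟨ϖ, hϖ⟩ := (IsPrincipalIdealRing.principal (maximalIdeal A)).principal
    rw [← Ideal.span] at hϖ
    obtain ⟨c, hc⟩ := Ideal.mem_span_singleton.1 (hϖ ▸ h1)
    rw [hϖ, hc]
    by_cases hu : IsUnit c
    · exact (Ideal.span_singleton_mul_right_unit hu ϖ).symm
    · exfalso
      refine hπ ?_
      have h2 : algebraMap R A π ∈ (p.asIdeal ^ 2).map (algebraMap R A) := by
        rw [Ideal.map_pow, IsLocalization.AtPrime.map_eq_maximalIdeal, sq, hc]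
        exact Ideal.mul_mem_mul (hϖ ▸ Ideal.mem_span_singleton_self ϖ) ((mem_maximalIdeal _).2 hu)
      rw [IsLocalization.algebraMap_mem_map_algebraMap_iff p.asIdeal.primeCompl] at h2
      obtain ⟨m, hm, hmem⟩ := h2
      have hmax : p.asIdeal.IsMaximal := p.isPrime.isMaximal hp
      exact ((Ideal.isPrimary_iff.1 (Ideal.isPrimary_of_isMaximal_radical
        (by rw [Ideal.radical_pow _ two_ne_zero, p.isPrime.radical]; exact hmax))).2
        (show π * m ∈ p.asIdeal ^ 2 by rwa [mul_comm])).resolve_right (by
          rw [Ideal.radical_pow _ two_ne_zero, p.isPrime.radical]; exact hm)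
  set t : X.presheaf.stalk x := f.stalkMap x (algebraMap R A π)
  have ht : t ∈ nonZeroDivisors (X.presheaf.stalk x) := by
    have : Module.Flat A (X.presheaf.stalk x) := Flat.stalkMap f x
    have h1 : IsSMulRegular A (algebraMap R A π) := fun a b hab => mul_left_cancel₀ hπA hab
    have h2 : IsSMulRegular (X.presheaf.stalk x) t := h1.of_flat
    rw [mem_nonZeroDivisors_iff_left]
    exact fun z hz => h2 (by simpa using hz)
  have hrad : (Ideal.span {t}).IsRadical := by
    obtain ⟨hsurj, hker⟩ := Groth.FlatMor2.FibCrit.fiber_stalk_of_eq f s (f.asFiber x) x (f.fiberι_asFiber x)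
    let : (f.fiber s).Over (Spec (CommRingCat.of ((Spec (CommRingCat.of R)).residueField s))) :=
      ⟨f.fiberToSpecResidueField s⟩
    have : LocallyOfFiniteType ((f.fiber s) ↘
        (Spec (CommRingCat.of ((Spec (CommRingCat.of R)).residueField s)))) :=
      inferInstanceAs (LocallyOfFiniteType (pullback.snd f ((Spec (CommRingCat.of R)).fromSpecResidueField s)))
    have := isReduced_of_atWorstNodal (k := (Spec (CommRingCat.of R)).residueField s) (hf.2.2 s).2
    rw [hmA, Ideal.map_span, Set.image_singleton] at hker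
    intro z hz
    obtain ⟨n, hn⟩ := hz
    rw [← hker] at hn ⊢
    rw [RingHom.mem_ker, map_pow] at hn
    exact RingHom.mem_ker.2 (IsNilpotent.eq_zero ⟨n, hn⟩)
  refine normal_of_reduced_mod ht hrad fun q hq htq => ?_
  let x' := X.fromSpecStalk x ⟨q, hq⟩
  have := Groth.VarietyBC.flat_fromSpecStalk X x
  have := Groth.VarietyBC.isIso_stalkMap_of_flat_preimmersion (X.fromSpecStalk x) ⟨q, hq⟩
  let e' : X.presheaf.stalk x' ≃+* Localization.AtPrime q :=
    (asIso ((X.fromSpecStalk x).stalkMap ⟨q, hq⟩) ≪≫ Spec.stalkIso _ ⟨q, hq⟩).commRingCatIsoToRingEquiv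
  obtain ⟨h1, h2⟩ := hgen x' (by
    have hfx : f x' = Spec.map (StructureSheaf.toStalk R p)
        (Spec.map (f.stalkMap x) ⟨q, hq⟩) := by
      show (X.fromSpecStalk x ≫ f) ⟨q, hq⟩ = _
      rw [← Scheme.SpecMap_stalkMap_fromSpecStalk]
      exact congrArg (fun φ : Spec ((Spec (CommRingCat.of R)).presheaf.stalk s) ⟶ Spec (CommRingCat.of R) =>
        φ (Spec.map (f.stalkMap x) ⟨q, hq⟩)) (Spec.fromSpecStalk_eq _ _)
    rw [hfx]
    change Ideal.comap (algebraMap R A) (Ideal.comap (f.stalkMap x).hom q) = ⊥
    by_contra hne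
    refine htq ?_
    have hle : Ideal.comap (algebraMap R A) (Ideal.comap (f.stalkMap x).hom q) ≤ p.asIdeal := by
      intro r hr
      exact (IsLocalization.AtPrime.to_map_mem_maximal_iff A p.asIdeal r).1
        (le_maximalIdeal (Ideal.IsPrime.ne_top (inferInstance : (Ideal.comap (f.stalkMap x).hom q).IsPrime))
          (show algebraMap R A r ∈ Ideal.comap (f.stalkMap x).hom q from hr))
    have heq := (Ideal.IsPrime.isMaximal (inferInstance :
      (Ideal.comap (algebraMap R A) (Ideal.comap (f.stalkMap x).hom q)).IsPrime) hne).eq_of_le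
        p.isPrime.ne_top hle
    exact (heq.ge hπp :))
  exact ⟨e'.symm.toMulEquiv.isDomain _, IsIntegrallyClosed.of_equiv e'⟩

end Groth.Curves1.Node
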